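import Mathlib
import Cfsg.Prelude.Def_BaumannBlocks
import Cfsg.Agent.Lib.Helper6.CD

set_option autoImplicit false

open scoped Pointwise

namespace Cfsg.Agent.Lib.Helper6.CL

open Cfsg.Agent.Lib.Helper6.Basic Cfsg.Agent.Lib.Helper6.Card Cfsg.Agent.Lib.Helper6.CD

variable {G : Type*} [Group G]

/-- the centre of a subgroup, viewed in the ambient group -/
abbrev Z (H : Subgroup G) : Subgroup G := H ⊓ C H

theorem map_center (H : Subgroup G) : (Subgroup.center ↥H).map H.subtype = Z H := by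
  ext x
  simp only [Subgroup.mem_map, Subgroup.mem_center_iff, Subgroup.mem_inf,
    Subgroup.mem_centralizer_iff, Subgroup.coe_subtype, SetLike.mem_coe]
  constructor
  · rintro ⟨y, hy, rfl⟩
    refine ⟨y.2, fun h hh => ?_⟩
    have := hy ⟨h, hh⟩
    exact congrArg Subtype.val this
  · rintro ⟨hx, hc⟩
    refine ⟨⟨x, hx⟩, fun g => ?_, rfl⟩
    exact Subtype.ext (hc g g.2)

theorem card_center (H : Subgroup G) : Nat.card (Subgroup.center ↥H) = Nat.card (Z H) := by
  rw [← map_center]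
  exact (Subgroup.card_map_of_injective H.subtype_injective).symm

/-- the central measure -/
noncomputable def f (H : Subgroup G) : ℕ := Nat.card H * Nat.card (Z H)

theorem f_eq (H : Subgroup G) : Nat.card H * Nat.card (Subgroup.center ↥H) = f H := by
  rw [card_center, f]

theorem cl_iff {R : Subgroup G} : Cfsg.IsCentrallyLarge R ↔ f R = Cfsg.maxCentralProduct G := by
  unfold Cfsg.IsCentrallyLarge
  rw [f_eq]

variable [Finite G]

theorem f_le_m (H : Subgroup G) : f H ≤ m H :=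
  Nat.mul_le_mul_left _ (Subgroup.card_le_of_le inf_le_right)

theorem bddf : BddAbove {k : ℕ | ∃ R : Subgroup G, Nat.card ↥R * Nat.card ↥(Subgroup.center ↥R) = k} := by
  refine ⟨Nat.card G * Nat.card G, ?_⟩
  rintro _ ⟨R, rfl⟩
  rw [card_center]
  exact Nat.mul_le_mul (Subgroup.card_le_card_group _) (Subgroup.card_le_card_group _)

theorem f_le_max (R : Subgroup G) : f R ≤ Cfsg.maxCentralProduct G :=
  le_csSup bddf ⟨R, f_eq R⟩

theorem exists_cl : ∃ R : Subgroup G, Cfsg.IsCentrallyLarge R := by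
  have hne : {k : ℕ | ∃ R : Subgroup G, Nat.card ↥R * Nat.card ↥(Subgroup.center ↥R) = k}.Nonempty :=
    ⟨_, ⊥, rfl⟩
  obtain ⟨R, hR⟩ := Nat.sSup_mem hne bddf
  exact ⟨R, hR⟩

omit [Finite G] in
theorem f_eq_m_of_le {H : Subgroup G} (h : C H ≤ H) : f H = m H := by
  unfold f m Z
  rw [inf_eq_right.mpr h]

/-- the two maximal values agree -/
theorem max_eq : Cfsg.maxCentralProduct G = Cfsg.maxCentralizerProduct G := by
  apply le_antisymm
  · obtain ⟨R, hR⟩ := exists_cl (G := G)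
    rw [← cl_iff.mp hR]
    exact (f_le_m R).trans (m_le_max R)
  · obtain ⟨R, hR⟩ := exists_large (G := G)
    have hT := (large_sup_inf hR (large_C hR)).1
    have hC : C (R ⊔ C R) ≤ R ⊔ C R := by
      rw [C_sup, ← large_CC hR]
      exact inf_le_right.trans le_sup_left
    rw [← large_iff.mp hT, ← f_eq_m_of_le hC]
    exact f_le_max _

theorem cl_large {Q : Subgroup G} (hQ : Cfsg.IsCentrallyLarge Q) : Cfsg.IsCentralizerLarge Q :=
  large_of_le (by rw [← max_eq, ← cl_iff.mp hQ]; exact f_le_m Q)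

theorem cl_C_le {Q : Subgroup G} (hQ : Cfsg.IsCentrallyLarge Q) : C Q ≤ Q := by
  have h1 : m Q ≤ f Q := by
    rw [cl_iff.mp hQ, max_eq]; exact m_le_max Q
  unfold m f at h1
  have h2 := Nat.le_of_mul_le_mul_left h1 Nat.card_pos
  have h3 : Z Q = C Q := Subgroup.eq_of_le_of_card_ge inf_le_right h2
  rw [← h3]
  exact inf_le_left

theorem cl_of_large {Q : Subgroup G} (hQ : Cfsg.IsCentralizerLarge Q) (h : C Q ≤ Q) :
    Cfsg.IsCentrallyLarge Q := by
  rw [cl_iff, f_eq_m_of_le h, max_eq]; exact hQ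

theorem cl_iff_large {Q : Subgroup G} :
    Cfsg.IsCentrallyLarge Q ↔ Cfsg.IsCentralizerLarge Q ∧ C Q ≤ Q :=
  ⟨fun h => ⟨cl_large h, cl_C_le h⟩, fun h => cl_of_large h.1 h.2⟩

theorem cl_Z {Q : Subgroup G} (hQ : Cfsg.IsCentrallyLarge Q) : Z Q = C Q :=
  inf_eq_right.mpr (cl_C_le hQ)

theorem cl_sup_large {Q R : Subgroup G} (hQ : Cfsg.IsCentrallyLarge Q)
    (hR : Cfsg.IsCentralizerLarge R) : Cfsg.IsCentrallyLarge (Q ⊔ R) :=
  cl_of_large (large_sup_inf (cl_large hQ) hR).1
    ((C_anti le_sup_left).trans ((cl_C_le hQ).trans le_sup_left))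

theorem cl_sup {Q R : Subgroup G} (hQ : Cfsg.IsCentrallyLarge Q)
    (hR : Cfsg.IsCentrallyLarge R) : Cfsg.IsCentrallyLarge (Q ⊔ R) :=
  cl_sup_large hQ (cl_large hR)

theorem large_coe_sup {Q R : Subgroup G} (hQ : Cfsg.IsCentralizerLarge Q)
    (hR : Cfsg.IsCentralizerLarge R) : ((Q ⊔ R : Subgroup G) : Set G) = (Q : Set G) * (R : Set G) :=
  (eq_case (large_sup_inf hQ hR).2.2).1

theorem large_C_inf {Q R : Subgroup G} (hQ : Cfsg.IsCentralizerLarge Q)
    (hR : Cfsg.IsCentralizerLarge R) : C (Q ⊓ R) = C Q ⊔ C R :=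
  (eq_case (large_sup_inf hQ hR).2.2).2.2

/-- the join of a nonempty family of centrally large subgroups is centrally large -/
theorem cl_sSup {S : Set (Subgroup G)} (hne : S.Nonempty)
    (hS : ∀ R ∈ S, Cfsg.IsCentrallyLarge R) : Cfsg.IsCentrallyLarge (sSup S) := by
  have hfin : S.Finite := Set.toFinite S
  induction S, hfin using Set.Finite.induction_on with
  | empty => exact absurd hne Set.not_nonempty_empty
  | @insert a s _ _ ih =>
    rw [sSup_insert]
    by_cases hs : s.Nonempty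
    · exact cl_sup (hS a (Set.mem_insert _ _)) (ih hs fun R hR => hS R (Set.mem_insert_of_mem _ hR))
    · rw [Set.not_nonempty_iff_eq_empty] at hs
      subst hs
      simpa using hS a (Set.mem_insert _ _)

/-- every centrally large subgroup contains a minimal one -/
theorem exists_min_le {Q : Subgroup G} (hQ : Cfsg.IsCentrallyLarge Q) :
    ∃ R : Subgroup G, R ≤ Q ∧ Cfsg.IsMinimalCentrallyLarge R := by
  have hfin : {R : Subgroup G | R ≤ Q ∧ Cfsg.IsCentrallyLarge R}.Finite := Set.toFinite _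
  obtain ⟨R, hR, hmin⟩ := hfin.exists_minimal ⟨Q, le_rfl, hQ⟩
  refine ⟨R, hR.1, hR.2, fun R' hR' hcl => ?_⟩
  exact le_antisymm hR' (hmin ⟨hR'.trans hR.1, hcl⟩ hR')

theorem exists_min : ∃ R : Subgroup G, Cfsg.IsMinimalCentrallyLarge R := by
  obtain ⟨Q, hQ⟩ := exists_cl (G := G)
  obtain ⟨R, _, hR⟩ := exists_min_le hQ
  exact ⟨R, hR⟩

theorem cl_join : Cfsg.IsCentrallyLarge (Cfsg.centrallyLargeJoin G) :=
  cl_sSup exists_cl fun _ h => h

theorem cl_minJoin : Cfsg.IsCentrallyLarge (Cfsg.minimalCentrallyLargeJoin G) :=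
  cl_sSup exists_min fun _ h => h.1

end Cfsg.Agent.Lib.Helper6.CL
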