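import Mathlib
import Cfsg.Prelude.Def_BaumannBlocks
import Cfsg.Prelude.Def_PLocal
import Cfsg.Agent.Lib.Helper6.CL

set_option autoImplicit false
set_option linter.unusedSectionVars false

open scoped Pointwise

namespace Cfsg.Agent.Lib.Helper6.CLAb

open Cfsg.Agent.Lib.Helper6.Basic Cfsg.Agent.Lib.Helper6.Card Cfsg.Agent.Lib.Helper6.CD
  Cfsg.Agent.Lib.Helper6.CL

variable {G : Type*} [Group G]

theorem ab_iff {H : Subgroup G} : IsMulCommutative ↥H ↔ H ≤ C H :=
  Subgroup.le_centralizer_iff_isMulCommutative.symm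

theorem le_C_comm {H K : Subgroup G} : H ≤ C K ↔ K ≤ C H := Subgroup.le_centralizer_iff

theorem ab_sup {H K : Subgroup G} (hH : H ≤ C H) (hK : K ≤ C K) (hHK : H ≤ C K) :
    H ⊔ K ≤ C (H ⊔ K) := by
  rw [C_sup]
  exact sup_le (le_inf hH hHK) (le_inf (le_C_comm.mp hHK) hK)

theorem coe_sup_of_le_C {H K : Subgroup G} (hHK : H ≤ C K) :
    ((H ⊔ K : Subgroup G) : Set G) = (H : Set G) * (K : Set G) :=
  Subgroup.coe_mul_of_left_le_normalizer_right H K
    (hHK.trans (Subgroup.centralizer_le_normalizer _))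

theorem ab_mono {H K : Subgroup G} (h : H ≤ K) (hK : K ≤ C K) : H ≤ C H :=
  h.trans (hK.trans (C_anti h))

theorem Z_ab (H : Subgroup G) : Z H ≤ C (Z H) :=
  inf_le_right.trans (C_anti inf_le_left)

theorem f_ab {H : Subgroup G} (h : H ≤ C H) : f H = Nat.card H * Nat.card H := by
  unfold f Z
  rw [inf_eq_left.mpr h]

variable [Finite G]

theorem exists_maxab : ∃ A : Subgroup G, A ∈ Cfsg.maxAbelianSubgroups G := by
  have hfin : (Set.range fun B : {B : Subgroup G // IsMulCommutative ↥B} => Nat.card (B : Subgroup G)).Finite :=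
    Set.toFinite _
  have hbot : IsMulCommutative ↥(⊥ : Subgroup G) := ab_iff.mpr bot_le
  obtain ⟨_, ⟨A, rfl⟩, hmax⟩ := hfin.exists_maximal ⟨_, ⟨⟨⊥, hbot⟩, rfl⟩⟩
  refine ⟨A.1, A.2, fun B hB => ?_⟩
  by_contra hlt
  push Not at hlt
  have := hmax (show Nat.card B ∈ _ from ⟨⟨B, hB⟩, rfl⟩) hlt.le
  exact absurd this (not_le.mpr hlt)

theorem maxab_ab {A : Subgroup G} (hA : A ∈ Cfsg.maxAbelianSubgroups G) : A ≤ C A := ab_iff.mp hA.1

theorem maxab_C {A : Subgroup G} (hA : A ∈ Cfsg.maxAbelianSubgroups G) : C A = A := by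
  apply le_antisymm _ (maxab_ab hA)
  intro x hx
  have hz : Subgroup.zpowers x ≤ C A := by rwa [Subgroup.zpowers_le]
  have hzz : Subgroup.zpowers x ≤ C (Subgroup.zpowers x) := ab_iff.mp inferInstance
  have hab := ab_sup (maxab_ab hA) hzz (le_C_comm.mp hz)
  have hcard := hA.2 _ (ab_iff.mpr hab)
  have heq : A = A ⊔ Subgroup.zpowers x := Subgroup.eq_of_le_of_card_ge le_sup_left hcard
  rw [heq]
  exact le_sup_right (a := A) (Subgroup.mem_zpowers x)

theorem maxab_of_card {A E : Subgroup G} (hA : A ∈ Cfsg.maxAbelianSubgroups G) (hE : E ≤ C E)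
    (h : Nat.card A ≤ Nat.card E) : E ∈ Cfsg.maxAbelianSubgroups G :=
  ⟨ab_iff.mpr hE, fun B hB => (hA.2 B hB).trans h⟩

theorem maxab_le_J {A : Subgroup G} (hA : A ∈ Cfsg.maxAbelianSubgroups G) :
    A ≤ Cfsg.thompsonSubgroupA G := le_sSup hA

/-- the basic counting facts for a centrally large `Q` and a largest abelian `A` -/
theorem cl_maxab {Q A : Subgroup G} (hQ : Cfsg.IsCentrallyLarge Q)
    (hA : A ∈ Cfsg.maxAbelianSubgroups G) :
    Cfsg.IsCentrallyLarge (Q ⊔ A) ∧ ((Q ⊔ A : Subgroup G) : Set G) = (Q : Set G) * (A : Set G) ∧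
      (Z Q ⊔ (Q ⊓ A)) ∈ Cfsg.maxAbelianSubgroups G := by
  have hCQ := cl_C_le hQ
  have hZQ := cl_Z hQ
  have hAab := maxab_ab hA
  have hDab : Q ⊓ A ≤ C (Q ⊓ A) := ab_mono inf_le_right hAab
  have hZD : Z Q ≤ C (Q ⊓ A) := inf_le_right.trans (C_anti inf_le_left)
  have hEab : Z Q ⊔ (Q ⊓ A) ≤ C (Z Q ⊔ (Q ⊓ A)) := ab_sup (Z_ab Q) hDab hZD
  have he : Nat.card (Z Q ⊔ (Q ⊓ A) : Subgroup G) ≤ Nat.card A := hA.2 _ (ab_iff.mpr hEab)
  have h1 := card_mul_card_le (Z Q) (Q ⊓ A)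
  have h2 := card_mul_card_le Q A
  have ht : Z Q ⊓ (Q ⊓ A) = C (Q ⊔ A) := by
    rw [C_sup, maxab_C hA, hZQ]
    apply le_antisymm
    · exact le_inf inf_le_left (inf_le_right.trans inf_le_right)
    · exact le_inf inf_le_left (le_inf (inf_le_left.trans hCQ) inf_le_right)
  rw [ht, hZQ] at h1
  rw [hZQ] at he
  have hM : m (Q ⊔ A) ≤ m Q := by
    rw [large_iff.mp (cl_large hQ)]; exact m_le_max _
  unfold m at hM
  set a := Nat.card Q
  set b := Nat.card A
  set c := Nat.card (C Q)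
  set d := Nat.card (Q ⊓ A : Subgroup G)
  set e := Nat.card (C Q ⊔ (Q ⊓ A) : Subgroup G)
  set s := Nat.card (Q ⊔ A : Subgroup G)
  set t := Nat.card (C (Q ⊔ A))
  have pa : 0 < a := Nat.card_pos
  have pb : 0 < b := Nat.card_pos
  have pc : 0 < c := Nat.card_pos
  have pd : 0 < d := Nat.card_pos
  have ps : 0 < s := Nat.card_pos
  -- `a * c ≤ s * t`
  have k1 : a * c ≤ s * t := by
    have : (a * c) * (b * d) ≤ (s * t) * (b * d) := by
      calc (a * c) * (b * d) = (a * b) * (c * d) := by ring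
        _ ≤ (s * d) * (e * t) := Nat.mul_le_mul h2 h1
        _ ≤ (s * d) * (b * t) := Nat.mul_le_mul_left _ (Nat.mul_le_mul_right _ he)
        _ = (s * t) * (b * d) := by ring
    exact Nat.le_of_mul_le_mul_right this (Nat.mul_pos pb pd)
  have k2 : s * t = a * c := le_antisymm hM k1
  have k3 : s * d ≤ a * b := by
    have : (s * d) * (c * d) ≤ (a * b) * (c * d) := by
      calc (s * d) * (c * d) ≤ (s * d) * (e * t) := Nat.mul_le_mul_left _ h1
        _ = (s * t) * (d * e) := by ring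
        _ = (a * c) * (d * e) := by rw [k2]
        _ ≤ (a * c) * (d * b) := Nat.mul_le_mul_left _ (Nat.mul_le_mul_left _ he)
        _ = (a * b) * (c * d) := by ring
    exact Nat.le_of_mul_le_mul_right this (Nat.mul_pos pc pd)
  have k4 : b ≤ e := by
    have : b * (a * c * d) ≤ e * (a * c * d) := by
      calc b * (a * c * d) = (a * b) * (c * d) := by ring
        _ ≤ (s * d) * (e * t) := Nat.mul_le_mul h2 h1
        _ = e * (s * t * d) := by ring
        _ = e * (a * c * d) := by rw [k2]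
    exact Nat.le_of_mul_le_mul_right this (Nat.mul_pos (Nat.mul_pos pa pc) pd)
  refine ⟨?_, coe_sup_eq_mul_of_card Q A k3, ?_⟩
  · apply cl_of_large
    · apply large_of_le
      rw [← large_iff.mp (cl_large hQ)]
      exact k1
    · exact (C_anti le_sup_left).trans (hCQ.trans le_sup_left)
  · apply maxab_of_card hA hEab
    rw [hZQ]
    exact k4

/-- if `T` is centrally large and contains `J`, then `C(Z(J)) ≤ T` -/
theorem CZJ_le {T : Subgroup G} (hT : Cfsg.IsCentrallyLarge T)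
    (hJ : Cfsg.thompsonSubgroupA G ≤ T) : C (Z (Cfsg.thompsonSubgroupA G)) ≤ T := by
  obtain ⟨A, hA⟩ := exists_maxab (G := G)
  have h1 : C T ≤ Z (Cfsg.thompsonSubgroupA G) := by
    apply le_inf _ (C_anti hJ)
    calc C T ≤ C A := C_anti ((maxab_le_J hA).trans hJ)
      _ = A := maxab_C hA
      _ ≤ _ := maxab_le_J hA
  calc C (Z (Cfsg.thompsonSubgroupA G)) ≤ C (C T) := C_anti h1
    _ = T := (large_CC (cl_large hT)).symm

theorem cl_sup_J {Q : Subgroup G} (hQ : Cfsg.IsCentrallyLarge Q) :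
    Cfsg.IsCentrallyLarge (Q ⊔ Cfsg.thompsonSubgroupA G) := by
  have h : Q ⊔ Cfsg.thompsonSubgroupA G =
      sSup ((fun A => Q ⊔ A) '' Cfsg.maxAbelianSubgroups G) := by
    apply le_antisymm
    · obtain ⟨A, hA⟩ := exists_maxab (G := G)
      apply sup_le
      · exact le_sup_left.trans (le_sSup ⟨A, hA, rfl⟩)
      · apply sSup_le
        intro B hB
        exact le_sup_right.trans (le_sSup ⟨B, hB, rfl⟩)
    · apply sSup_le
      rintro _ ⟨B, hB, rfl⟩
      exact sup_le_sup_left (maxab_le_J hB) Q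
  rw [h]
  apply cl_sSup
  · obtain ⟨A, hA⟩ := exists_maxab (G := G)
    exact ⟨_, A, hA, rfl⟩
  · rintro _ ⟨B, hB, rfl⟩
    exact (cl_maxab hQ hB).1

end Cfsg.Agent.Lib.Helper6.CLAb
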