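import Mathlib
import Cfsg.Agent.Lib.Helper6.Basic

set_option autoImplicit false
set_option maxHeartbeats 400000
set_option linter.style.haveILetI false
set_option linter.unusedSectionVars false

namespace Cfsg.Agent.Lib.Helper6.Flav

open Cfsg.Agent.Lib.Helper6.Basic

universe u

variable {G : Type u} [Group G] [Finite G]

/-- transfer evaluation for an element of `M` whose powers, conjugated back into `M` from outside,
die under `ϕ`. -/
theorem transfer_eq (M : Subgroup G) {A : Type*} [CommGroup A] (ϕ : M →* A) (x : M)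
    (hTI : ∀ (r : G) (n : ℕ), r ∉ M → ∀ h : r⁻¹ * (x : G) ^ n * r ∈ M, ϕ ⟨_, h⟩ = 1) :
    MonoidHom.transfer ϕ (x : G) = ϕ x := by
  classical
  letI : Fintype (Quotient (MulAction.orbitRel (Subgroup.zpowers (x : G)) (G ⧸ M))) :=
    Fintype.ofFinite _
  have hone : ∀ a : G ⧸ M, a.out ∈ M → a = ((1 : G) : G ⧸ M) := by
    intro a ha
    calc a = ((a.out : G) : G ⧸ M) := (QuotientGroup.out_eq' a).symm
      _ = ((1 : G) : G ⧸ M) := QuotientGroup.eq.mpr (by simpa using ha)
  have hone' : ∀ a : G ⧸ M, a = ((1 : G) : G ⧸ M) → a.out ∈ M := by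
    intro a ha
    have h1 : ((a.out : G) : G ⧸ M) = ((1 : G) : G ⧸ M) := (QuotientGroup.out_eq' a).trans ha
    have := QuotientGroup.eq.mp h1
    simpa using this
  have hfixM : ∀ z ∈ M, z • ((1 : G) : G ⧸ M) = ((1 : G) : G ⧸ M) := by
    intro z hz
    change ((z * 1 : G) : G ⧸ M) = _
    exact QuotientGroup.eq.mpr (by simpa using hz)
  have key1 : ∀ (a : G ⧸ M), a.out ∈ M →
      ∀ h : a.out⁻¹ * (x : G) ^ Function.minimalPeriod ((x : G) • ·) a * a.out ∈ M,
      ϕ ⟨_, h⟩ = ϕ x := by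
    intro a ha h
    have hfix : (x : G) • a = a := by
      rw [hone a ha]
      exact hfixM _ x.2
    have hn : Function.minimalPeriod ((x : G) • ·) a = 1 :=
      Function.minimalPeriod_eq_one_iff_isFixedPt.mpr hfix
    have : (⟨_, h⟩ : M) = (⟨a.out, ha⟩ : M)⁻¹ * x * ⟨a.out, ha⟩ := by
      apply Subtype.ext
      simp [hn]
    rw [this, map_mul, map_mul, map_inv, mul_comm, ← mul_assoc, mul_inv_cancel, one_mul]
  rw [MonoidHom.transfer_eq_prod_quotient_orbitRel_zpowers_quot]
  let q0 : Quotient (MulAction.orbitRel (Subgroup.zpowers (x : G)) (G ⧸ M)) :=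
    Quotient.mk _ ((1 : G) : G ⧸ M)
  rw [Finset.prod_eq_single q0]
  · apply key1
    apply hone'
    have h1 : (MulAction.orbitRel (Subgroup.zpowers (x : G)) (G ⧸ M)) q0.out
        ((1 : G) : G ⧸ M) := Quotient.exact (Quotient.out_eq q0)
    rw [MulAction.orbitRel_apply] at h1
    obtain ⟨⟨z, hz⟩, hz2⟩ := h1
    have hzM : z ∈ M := (Subgroup.zpowers_le.mpr x.2) hz
    rw [← hz2]
    exact hfixM z hzM
  · intro b _ hb
    apply hTI
    intro hmem
    apply hb
    have := hone b.out hmem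
    calc b = Quotient.mk _ b.out := (Quotient.out_eq b).symm
      _ = q0 := by rw [this]
  · intro h
    exact absurd (Finset.mem_univ _) h

/-- subgroups between `H` and `M`. -/
theorem between (H M : Subgroup G) (hmaxH : IsCoatom (H.subgroupOf M)) (X : Subgroup G)
    (hHX : H ≤ X) (y : G) (hyX : y ∈ X) (hyM : y ∈ M) (hyH : y ∉ H) : M ≤ X := by
  have hlt : H.subgroupOf M < X.subgroupOf M := by
    refine lt_of_le_of_ne (fun z hz => ?_) ?_
    · rw [Subgroup.mem_subgroupOf] at hz ⊢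
      exact hHX hz
    · intro h
      have : (⟨y, hyM⟩ : M) ∈ H.subgroupOf M := by
        rw [h, Subgroup.mem_subgroupOf]
        exact hyX
      rw [Subgroup.mem_subgroupOf] at this
      exact hyH this
  have := hmaxH.2 _ hlt
  exact Subgroup.subgroupOf_eq_top.mp this

theorem exists_not_mem (H M : Subgroup G) (hmaxH : IsCoatom (H.subgroupOf M)) :
    ∃ x ∈ M, x ∉ H := by
  by_contra hcon
  push Not at hcon
  exact hmaxH.1 (Subgroup.subgroupOf_eq_top.mpr hcon)

/-- The transfer lemma. -/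
theorem exists_normal (M H : Subgroup G) (hHM : H ≤ M)
    (hn : (H.subgroupOf M).Normal) (hmaxH : IsCoatom (H.subgroupOf M))
    (hTI : ∀ r : G, r ∉ M → ∀ y ∈ M, r⁻¹ * y * r ∈ M → r⁻¹ * y * r ∈ H) :
    ∃ (A : Type u) (_ : CommGroup A) (V : G →* A), H ≤ V.ker ∧ V.ker ⊓ M ≤ H := by
  obtain ⟨x0, hx0M, hx0H⟩ := exists_not_mem H M hmaxH
  haveI := hn
  haveI hcyc : IsCyclic (M ⧸ H.subgroupOf M) := by
    refine ⟨⟨QuotientGroup.mk (⟨x0, hx0M⟩ : M), fun q => ?_⟩⟩
    obtain ⟨m, rfl⟩ := QuotientGroup.mk_surjective q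
    have hlt : H.subgroupOf M <
        (Subgroup.zpowers (QuotientGroup.mk (⟨x0, hx0M⟩ : M) : M ⧸ H.subgroupOf M)).comap
          (QuotientGroup.mk' (H.subgroupOf M)) := by
      refine lt_of_le_of_ne (fun z hz => ?_) ?_
      · rw [Subgroup.mem_comap]
        have : QuotientGroup.mk' (H.subgroupOf M) z = 1 := (QuotientGroup.eq_one_iff z).mpr hz
        rw [this]
        exact one_mem _
      · intro h
        have : (⟨x0, hx0M⟩ : M) ∈ H.subgroupOf M := by
          rw [h, Subgroup.mem_comap]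
          exact Subgroup.mem_zpowers _
        rw [Subgroup.mem_subgroupOf] at this
        exact hx0H this
    have htop := hmaxH.2 _ hlt
    have : m ∈ (Subgroup.zpowers (QuotientGroup.mk (⟨x0, hx0M⟩ : M) : M ⧸ H.subgroupOf M)).comap
          (QuotientGroup.mk' (H.subgroupOf M)) := htop ▸ Subgroup.mem_top m
    exact this
  letI : CommGroup (M ⧸ H.subgroupOf M) := IsCyclic.commGroup
  let ϕ : M →* (M ⧸ H.subgroupOf M) := QuotientGroup.mk' (H.subgroupOf M)
  have hϕ : ∀ z : M, ϕ z = 1 ↔ (z : G) ∈ H := fun z => by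
    rw [← Subgroup.mem_subgroupOf]
    exact QuotientGroup.eq_one_iff z
  have hV : ∀ x : M, (x : G) ∉ H → MonoidHom.transfer ϕ (x : G) = ϕ x := by
    intro x _
    apply transfer_eq
    intro r n hr h
    rw [hϕ]
    exact hTI r hr _ (pow_mem x.2 n) h
  refine ⟨M ⧸ H.subgroupOf M, inferInstance, MonoidHom.transfer ϕ, ?_, ?_⟩
  · intro h hh
    rw [MonoidHom.mem_ker]
    have hhM : h ∈ M := hHM hh
    have h1 : h * x0 ∉ H := fun hc => hx0H ((Subgroup.mul_mem_cancel_left H hh).mp hc)
    have h2 := hV ⟨h * x0, mul_mem hhM hx0M⟩ h1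
    have h3 := hV ⟨x0, hx0M⟩ hx0H
    have h4 : (⟨h * x0, mul_mem hhM hx0M⟩ : M) = ⟨h, hhM⟩ * ⟨x0, hx0M⟩ := rfl
    rw [h4, map_mul, (hϕ ⟨h, hhM⟩).mpr hh, one_mul, ← h3] at h2
    change MonoidHom.transfer ϕ (h * x0) = MonoidHom.transfer ϕ x0 at h2
    rw [map_mul] at h2
    exact mul_eq_right.mp h2
  · rintro x ⟨hx1, hx2⟩
    by_contra hxH
    have := hV ⟨x, hx2⟩ hxH
    rw [MonoidHom.mem_ker.mp hx1] at this
    exact hxH ((hϕ _).mp this.symm)

theorem normal_sub_iff (H M : Subgroup G) (hHM : H ≤ M) :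
    (H.subgroupOf M).Normal ↔ ∀ m ∈ M, cj m H = H := by
  constructor
  · intro hn m hm
    have key : ∀ m ∈ M, cj m H ≤ H := by
      intro m hm x hx
      rw [mem_cj] at hx
      have h1 : (⟨m⁻¹ * x * m, hHM hx⟩ : M) ∈ H.subgroupOf M := by
        rw [Subgroup.mem_subgroupOf]; exact hx
      have h2 := hn.conj_mem _ h1 ⟨m, hm⟩
      rw [Subgroup.mem_subgroupOf] at h2
      simpa [mul_assoc] using h2
    apply le_antisymm (key m hm)
    have := key m⁻¹ (inv_mem hm)
    rw [cj_le_iff, inv_inv] at this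
    exact this
  · intro h
    refine ⟨fun x hx m => ?_⟩
    rw [Subgroup.mem_subgroupOf] at hx ⊢
    have : (m : G) * x * (m : G)⁻¹ ∈ cj (m : G) H := conj_mem_cj hx
    rw [h m m.2] at this
    exact this

/-- Flavell: extremely closed in a maximal chain. -/
theorem main3014 (H M : Subgroup G) (hHM : H ≤ M)
    (hcl : ∀ g : G, (H ⊔ cj g H) ⊓ M = H)
    (hmaxH : IsCoatom (H.subgroupOf M)) (hmaxM : IsCoatom M) :
    Subgroup.normalClosure (H : Set G) ⊓ M = H := by
  suffices hs : ∃ K : Subgroup G, K.Normal ∧ H ≤ K ∧ K ⊓ M ≤ H by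
    obtain ⟨K, hKn, hHK, hKM⟩ := hs
    apply le_antisymm
    · exact le_trans (inf_le_inf_right M (Subgroup.normalClosure_le_normal hHK)) hKM
    · exact le_inf Subgroup.le_normalClosure hHM
  have hnM : ∀ m ∈ M, cj m H = H := by
    have key : ∀ m ∈ M, cj m H ≤ H := by
      intro m hm
      have h1 : cj m H ≤ M := by
        intro x hx
        rw [mem_cj] at hx
        have := mul_mem (mul_mem hm (hHM hx)) (inv_mem hm)
        simpa [mul_assoc] using this
      have h2 := hcl m
      rw [inf_eq_left.mpr (sup_le hHM h1)] at h2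
      exact le_trans le_sup_right h2.le
    intro m hm
    apply le_antisymm (key m hm)
    have := key m⁻¹ (inv_mem hm)
    rw [cj_le_iff, inv_inv] at this
    exact this
  have hn : (H.subgroupOf M).Normal := (normal_sub_iff H M hHM).mpr hnM
  by_cases hA : ∃ r : G, r ∉ M ∧ ∃ y ∈ M, r⁻¹ * y * r ∈ M ∧ r⁻¹ * y * r ∉ H
  · obtain ⟨r, hr, y, hyM, hzM, hzH⟩ := hA
    set z := r⁻¹ * y * r with hz
    set L := H ⊔ cj r⁻¹ H with hL
    have hzL : cj z L = L := by
      rw [hL, cj_sup, hnM z hzM, cj_cj]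
      have : z * r⁻¹ = r⁻¹ * y := by rw [hz]; group
      rw [this, ← cj_cj, hnM y hyM]
    have hzN : z ∈ Subgroup.normalizer (L : Set G) := cj_eq_self_iff.mp hzL
    have hMN : M ≤ Subgroup.normalizer (L : Set G) :=
      between H M hmaxH _ (le_trans le_sup_left Subgroup.le_normalizer) z hzN hzM hzH
    rcases eq_or_lt_of_le hMN with h | h
    · -- L ≤ M
      have hLM : L ≤ M := by rw [h]; exact Subgroup.le_normalizer
      have h2 := hcl r⁻¹
      rw [← hL, inf_eq_left.mpr hLM] at h2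
      have h3 : cj r⁻¹ H ≤ H := by
        calc cj r⁻¹ H ≤ L := le_sup_right
          _ = H := h2
      have h4 : cj r⁻¹ H = H := by
        apply Subgroup.eq_of_le_of_card_ge h3
        rw [card_cj]
      have h5 : r⁻¹ ∈ Subgroup.normalizer (H : Set G) := cj_eq_self_iff.mp h4
      have h6 : M ≤ Subgroup.normalizer (H : Set G) := fun m hm => cj_eq_self_iff.mp (hnM m hm)
      have h7 : M < Subgroup.normalizer (H : Set G) := by
        refine lt_of_le_of_ne h6 ?_
        intro h
        rw [← h] at h5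
        exact hr (by simpa using h5)
      have h8 := hmaxM.2 _ h7
      exact ⟨H, Subgroup.normalizer_eq_top_iff.mp h8, le_rfl, inf_le_left⟩
    · have h8 := hmaxM.2 _ h
      exact ⟨L, Subgroup.normalizer_eq_top_iff.mp h8, le_sup_left, (hcl r⁻¹).le⟩
  · push Not at hA
    obtain ⟨A, _, V, h1, h2⟩ := exists_normal M H hHM hn hmaxH hA
    exact ⟨V.ker, MonoidHom.normal_ker V, h1, h2⟩

theorem coatom_of_prime (H M : Subgroup G) (hidx : (H.relIndex M).Prime) :
    IsCoatom (H.subgroupOf M) := by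
  constructor
  · intro h
    have : H.relIndex M = 1 := by
      rw [Subgroup.relIndex, h, Subgroup.index_top]
    rw [this] at hidx
    exact Nat.not_prime_one hidx
  · intro X hX
    have h1 := Subgroup.relIndex_mul_index hX.le
    have h2 : X.index ∣ H.relIndex M := ⟨_, by rw [Subgroup.relIndex, ← h1, mul_comm]⟩
    rcases (Nat.dvd_prime hidx).mp h2 with h | h
    · exact Subgroup.index_eq_one.mp h
    · exfalso
      have h3 : (H.subgroupOf M).index = X.index := h.symm
      rw [h3] at h1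
      have h4 : (H.subgroupOf M).relIndex X = 1 := by
        have h0 : 0 < X.index := Nat.pos_of_ne_zero Subgroup.index_ne_zero_of_finite
        exact Nat.eq_of_mul_eq_mul_right h0 (by rw [h1, one_mul])
      exact absurd (Subgroup.relIndex_eq_one.mp h4) (not_le_of_gt hX)

theorem orderOf_conj' (a x : G) : orderOf (a * x * a⁻¹) = orderOf x :=
  orderOf_injective (MulAut.conj a).toMonoidHom (MulAut.conj a).injective x

/-- a conjugate of `H` by an element outside `M` cannot lie in `M` unless `H = ⊥`. -/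
theorem bot_of_conj_le [IsSimpleGroup G] (M H : Subgroup G) (hmaxM : IsCoatom M) (hHM : H ≤ M)
    (hHn : (H.subgroupOf M).Normal) (hidx : (H.relIndex M).Prime)
    (hNM : ∀ a : G, cj a M = M → a ∈ M)
    (a : G) (ha : a ∉ M) (haH : cj a H ≤ M) : H = ⊥ := by
  set p := H.relIndex M with hp
  have hnM : ∀ m ∈ M, cj m H = H := (normal_sub_iff H M hHM).mp hHn
  have hα : ∀ x ∈ M, (orderOf x).Coprime p → x ∈ H := by
    intro x hx hc
    have h1 := Subgroup.pow_index_mem (H.subgroupOf M) (⟨x, hx⟩ : M)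
    rw [Subgroup.mem_subgroupOf] at h1
    have h2 : x ^ p ∈ H := h1
    obtain ⟨m, hm⟩ := exists_pow_eq_self_of_coprime (x := x) (n := p) hc.symm
    rw [← hm]
    exact pow_mem h2 m
  set S : Set G := {x | x ∈ M ∧ (orderOf x).Coprime p} with hS
  set R := Subgroup.closure S with hR
  have hRM : R ≤ M := (Subgroup.closure_le M).mpr (fun x hx => hx.1)
  have hinv : ∀ g : G, (∀ x ∈ S, g * x * g⁻¹ ∈ S) → cj g R = R := by
    intro g hg
    apply Subgroup.eq_of_le_of_card_ge
    · rw [hR, cj, MonoidHom.map_closure, Subgroup.closure_le]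
      rintro _ ⟨x, hx, rfl⟩
      exact Subgroup.subset_closure (hg x hx)
    · rw [card_cj]
  have h1 : cj a R = R := by
    apply hinv
    intro x hx
    refine ⟨haH (conj_mem_cj (hα x hx.1 hx.2)), ?_⟩
    rw [orderOf_conj']
    exact hx.2
  have h2 : ∀ m ∈ M, cj m R = R := by
    intro m hm
    apply hinv
    intro x hx
    refine ⟨mul_mem (mul_mem hm hx.1) (inv_mem hm), ?_⟩
    rw [orderOf_conj']
    exact hx.2
  have hup : ∀ X : Subgroup G, X ≤ M → (∀ m ∈ M, cj m X = X) → (∃ b, b ∉ M ∧ cj b X = X) →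
      X = ⊥ := by
    intro X hXM hX1 ⟨b, hb, hX2⟩
    have h6 : M ≤ Subgroup.normalizer (X : Set G) := fun m hm => cj_eq_self_iff.mp (hX1 m hm)
    have h7 : M < Subgroup.normalizer (X : Set G) := by
      refine lt_of_le_of_ne h6 ?_
      intro h
      apply hb
      rw [h]
      exact cj_eq_self_iff.mp hX2
    have h8 := hmaxM.2 _ h7
    have h9 : X.Normal := Subgroup.normalizer_eq_top_iff.mp h8
    rcases h9.eq_bot_or_eq_top with h | h
    · exact h
    · exfalso
      rw [h] at hXM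
      exact hmaxM.1 (top_le_iff.mp hXM)
  have hRbot : R = ⊥ := hup R hRM h2 ⟨a, ha, h1⟩
  have hS1 : ∀ x ∈ M, (orderOf x).Coprime p → x = 1 := by
    intro x hx hc
    have : x ∈ R := Subgroup.subset_closure ⟨hx, hc⟩
    rw [hRbot] at this
    exact Subgroup.mem_bot.mp this
  haveI : Fact p.Prime := ⟨hidx⟩
  have hPM : IsPGroup p M := by
    intro x
    obtain ⟨k, m, hm, hkm⟩ := Nat.exists_eq_pow_mul_and_not_dvd (n := orderOf (x : G))
      (orderOf_pos _).ne' p hidx.ne_one
    refine ⟨k, ?_⟩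
    have h3 : orderOf ((x : G) ^ (p ^ k)) = m := by
      rw [orderOf_pow_of_dvd (pow_ne_zero _ hidx.ne_zero) ⟨m, hkm⟩, hkm,
        Nat.mul_div_cancel_left _ (pow_pos hidx.pos _)]
    have h4 := hS1 ((x : G) ^ (p ^ k)) (pow_mem x.2 _) (by
      rw [h3]
      exact ((Nat.Prime.coprime_iff_not_dvd hidx).mpr hm).symm)
    apply Subtype.ext
    simpa using h4
  -- `cj a H` is normal in `M`
  have hAn : ((cj a H).subgroupOf M).Normal := by
    apply Subgroup.normal_of_index_eq_minFac_card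
    obtain ⟨n, hn⟩ := IsPGroup.iff_card.mp hPM
    have hn0 : n ≠ 0 := by
      rintro rfl
      rw [pow_zero] at hn
      have h5 : H.relIndex M ∣ Nat.card M := Subgroup.relIndex_dvd_card H M
      rw [hn] at h5
      exact hidx.one_lt.ne' (Nat.dvd_one.mp h5)
    rw [hn, Nat.pow_minFac hn0, hidx.minFac_eq]
    have h5 := Subgroup.card_mul_index ((cj a H).subgroupOf M)
    have h6 := Subgroup.card_mul_index (H.subgroupOf M)
    rw [Nat.card_congr (Subgroup.subgroupOfEquivOfLe haH).toEquiv, card_cj] at h5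
    rw [Nat.card_congr (Subgroup.subgroupOfEquivOfLe hHM).toEquiv, ← h5] at h6
    exact (Nat.eq_of_mul_eq_mul_left Nat.card_pos h6).symm
  have hA1 : ∀ m ∈ M, cj m (cj a H) = cj a H := (normal_sub_iff _ M haH).mp hAn
  -- some element of `cj a M` is outside `M`
  have hex : ∃ m ∈ M, a * m * a⁻¹ ∉ M := by
    by_contra hcon
    push Not at hcon
    apply ha
    apply hNM
    apply Subgroup.eq_of_le_of_card_ge
    · rintro _ ⟨m, hm, rfl⟩
      exact hcon m hm
    · rw [card_cj]
  obtain ⟨m, hm, hm2⟩ := hex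
  have hA2 : cj (a * m * a⁻¹) (cj a H) = cj a H := by
    rw [cj_cj]
    have : a * m * a⁻¹ * a = a * m := by group
    rw [this, ← cj_cj, hnM m hm]
  have := hup (cj a H) haH hA1 ⟨_, hm2, hA2⟩
  exact cj_eq_bot_iff.mp this

theorem main3015 [IsSimpleGroup G] (hG : ¬ IsMulCommutative G) (M H : Subgroup G)
    (hmaxM : IsCoatom M) (hHM : H ≤ M) (hHn : (H.subgroupOf M).Normal)
    (hidx : (H.relIndex M).Prime) : ∃ g : G, H ⊔ cj g H = ⊤ := by
  by_contra hcon
  push Not at hcon
  have hmaxH := coatom_of_prime H M hidx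
  have hnM : ∀ m ∈ M, cj m H = H := (normal_sub_iff H M hHM).mp hHn
  have hNM : ∀ a : G, cj a M = M → a ∈ M := by
    intro a ha
    by_contra haM
    have h7 : M < Subgroup.normalizer (M : Set G) := by
      refine lt_of_le_of_ne Subgroup.le_normalizer ?_
      intro h
      apply haM
      rw [h]
      exact cj_eq_self_iff.mp ha
    have h8 := hmaxM.2 _ h7
    have h9 : M.Normal := Subgroup.normalizer_eq_top_iff.mp h8
    rcases h9.eq_bot_or_eq_top with h | h
    · obtain ⟨x, hx, hxH⟩ := exists_not_mem H M hmaxH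
      rw [h, Subgroup.mem_bot] at hx
      exact hxH (hx ▸ one_mem H)
    · exact hmaxM.1 h
  have hTI : ∀ r : G, r ∉ M → ∀ y ∈ M, r⁻¹ * y * r ∈ M → r⁻¹ * y * r ∈ H := by
    intro r hr y hyM hzM
    by_contra hzH
    have hr' : r⁻¹ ∉ M := fun h => hr (by simpa using h)
    set z := r⁻¹ * y * r with hz
    set L := H ⊔ cj r⁻¹ H with hL
    have hzL : cj z L = L := by
      rw [hL, cj_sup, hnM z hzM, cj_cj]
      have : z * r⁻¹ = r⁻¹ * y := by rw [hz]; group
      rw [this, ← cj_cj, hnM y hyM]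
    have hzN : z ∈ Subgroup.normalizer (L : Set G) := cj_eq_self_iff.mp hzL
    have hMN : M ≤ Subgroup.normalizer (L : Set G) :=
      between H M hmaxH _ (le_trans le_sup_left Subgroup.le_normalizer) z hzN hzM hzH
    have hHbot : H = ⊥ := by
      rcases eq_or_lt_of_le hMN with h | h
      · have hLM : L ≤ M := by rw [h]; exact Subgroup.le_normalizer
        exact bot_of_conj_le M H hmaxM hHM hHn hidx hNM r⁻¹ hr' (le_trans le_sup_right hLM)
      · have h8 := hmaxM.2 _ h
        have h9 : L.Normal := Subgroup.normalizer_eq_top_iff.mp h8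
        rcases h9.eq_bot_or_eq_top with h | h
        · exact le_bot_iff.mp (h ▸ (le_sup_left : H ≤ L))
        · exact absurd h (hcon r⁻¹)
    have h1 : M ≤ Subgroup.zpowers z :=
      between H M hmaxH _ (hHbot ▸ bot_le) z (Subgroup.mem_zpowers z) hzM hzH
    have h2 : z ∈ cj r⁻¹ M := by
      rw [mem_cj, hz]
      simpa [mul_assoc] using hyM
    have h3 : M ≤ cj r⁻¹ M := le_trans h1 (Subgroup.zpowers_le.mpr h2)
    have h4 : M = cj r⁻¹ M := by
      apply Subgroup.eq_of_le_of_card_ge h3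
      rw [card_cj]
    exact hr' (hNM _ h4.symm)
  obtain ⟨A, _, V, h1, h2⟩ := exists_normal M H hHM hHn hmaxH hTI
  rcases (MonoidHom.normal_ker V).eq_bot_or_eq_top with h | h
  · apply hG
    have hinj : Function.Injective V := (MonoidHom.ker_eq_bot_iff V).mp h
    exact ⟨⟨fun a b => hinj (by rw [map_mul, map_mul, mul_comm])⟩⟩
  · obtain ⟨x, hx, hxH⟩ := exists_not_mem H M hmaxH
    rw [h, top_inf_eq] at h2
    exact hxH (h2 hx)

end Cfsg.Agent.Lib.Helper6.Flav
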