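import Mathlib
import Cfsg.Agent.Lib.Helper2.SylowNumber
import Cfsg.Agent.Lib.Helper1.CoprimeSylow
import Cfsg.Agent.S4343
import Cfsg.Agent.S4341

set_option autoImplicit false
set_option maxHeartbeats 400000
set_option linter.style.haveILetI false
set_option linter.unusedSectionVars false

namespace Cfsg.Agent.Lib.Helper6.Syl15

universe u

variable {G : Type u} [Group G] [Finite G]

/-- `|N(P) : C(P)|` divides `p - 1` for a Sylow subgroup of order `p`. -/
theorem relIndex_dvd (p : ℕ) [Fact p.Prime] (R : Sylow p G) (hR : Nat.card R = p) :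
    (Subgroup.centralizer ((R : Subgroup G) : Set G)).relIndex
      (Subgroup.normalizer ((R : Subgroup G) : Set G)) ∣ p - 1 := by
  have hcyc : IsCyclic (R : Subgroup G) := isCyclic_of_prime_card hR
  have key := Subgroup.card_dvd_of_injective _
    (QuotientGroup.kerLift_injective (R : Subgroup G).normalizerMonoidHom)
  rw [Subgroup.normalizerMonoidHom_ker, ← Subgroup.index, ← Subgroup.relIndex] at key
  rw [hcyc.card_mulAut, hR, Nat.totient_prime Fact.out] at key
  exact key

/-- Burnside: a nonabelian simple group has no Sylow subgroup of order `p` when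
`|G|` is prime to `p - 1`. -/
theorem false_of_sylow_prime [IsSimpleGroup G] (hG : ¬ IsMulCommutative G)
    (p : ℕ) [Fact p.Prime] (R : Sylow p G) (hR : Nat.card R = p)
    (hc : (Nat.card G).Coprime (p - 1)) : False := by
  have hp : p.Prime := Fact.out
  have key := relIndex_dvd p R hR
  have hNC : Subgroup.normalizer ((R : Subgroup G) : Set G) ≤
      Subgroup.centralizer ((R : Subgroup G) : Set G) := by
    refine Subgroup.relIndex_eq_one.mp (Nat.eq_one_of_dvd_coprimes hc ?_ key)
    exact (Subgroup.relIndex_dvd_card _ _).trans (Subgroup.card_subgroup_dvd_card _)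
  have hcomp := MonoidHom.ker_transferSylow_isComplement' R hNC
  have hcard := hcomp.card_mul_card
  rcases (MonoidHom.normal_ker (MonoidHom.transferSylow R hNC)).eq_bot_or_eq_top with h | h
  · rw [h, Subgroup.card_bot, one_mul] at hcard
    apply hG
    have hcyc : IsCyclic G := isCyclic_of_prime_card (hcard.symm.trans hR)
    exact ⟨⟨fun a b => hcyc.commGroup.mul_comm a b⟩⟩
  · rw [h, Subgroup.card_top] at hcard
    have : Nat.card (R : Subgroup G) = 1 := by
      have h0 : 0 < Nat.card G := Nat.card_pos
      exact Nat.eq_of_mul_eq_mul_left h0 (by rw [hcard, mul_one])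
    rw [hR] at this
    exact hp.one_lt.ne' this

/-- A `P`-invariant set of Sylow subgroups containing `P` has size `≡ 1` mod `p`. -/
theorem card_modEq_one (p : ℕ) [Fact p.Prime] (P : Sylow p G) (F : Set (Sylow p G)) (hP : P ∈ F)
    (hF : ∀ x ∈ (P : Subgroup G), ∀ Q ∈ F, x • Q ∈ F) : Nat.card F ≡ 1 [MOD p] := by
  let S : SubMulAction (P : Subgroup G) (Sylow p G) :=
    { carrier := F
      smul_mem' := fun x Q hQ => hF x x.2 Q hQ }
  have h1 := P.2.card_modEq_card_fixedPoints S
  have h2 : Nat.card (MulAction.fixedPoints (P : Subgroup G) S) = 1 := by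
    rw [Nat.card_eq_one_iff_unique]
    refine ⟨⟨?_⟩, ⟨⟨⟨P, hP⟩, ?_⟩⟩⟩
    · have key : ∀ a : MulAction.fixedPoints (P : Subgroup G) S, (a : S).1 = P := by
        rintro ⟨⟨Q, hQ⟩, hfix⟩
        have hQ' : Q ∈ MulAction.fixedPoints (P : Subgroup G) (Sylow p G) := by
          intro x
          have := hfix x
          exact congrArg Subtype.val this
        rw [P.2.sylow_mem_fixedPoints_iff] at hQ'
        exact Sylow.ext (P.3 Q.2 hQ')
      intro a b
      apply Subtype.ext
      apply Subtype.ext
      rw [key a, key b]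
    · intro x
      apply Subtype.ext
      change (x : G) • P = P
      rw [Sylow.smul_eq_iff_mem_normalizer]
      exact Subgroup.le_normalizer x.2
  rw [h2] at h1
  exact h1

theorem sign_toPerm_eq_one [IsSimpleGroup G] (hG : ¬ IsMulCommutative G) {Ω : Type*} [Fintype Ω]
    [DecidableEq Ω] [MulAction G Ω] (k : G) :
    Equiv.Perm.sign (MulAction.toPermHom G Ω k) = 1 := by
  let φ : G →* ℤˣ := Equiv.Perm.sign.comp (MulAction.toPermHom G Ω)
  rcases (MonoidHom.normal_ker φ).eq_bot_or_eq_top with h | h
  · exfalso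
    apply hG
    have hinj : Function.Injective φ := (MonoidHom.ker_eq_bot_iff φ).mp h
    exact ⟨⟨fun a b => hinj (by rw [map_mul, map_mul, mul_comm])⟩⟩
  · have : k ∈ φ.ker := h ▸ Subgroup.mem_top k
    exact this

theorem sign_of_order_two {Ω : Type*} [Fintype Ω] [DecidableEq Ω] (σ : Equiv.Perm Ω)
    (h2 : orderOf σ = 2) (hs : σ.support.card = 14) : Equiv.Perm.sign σ = -1 := by
  obtain ⟨n, hn⟩ := Equiv.Perm.cycleType_prime_order (σ := σ) (by rw [h2]; exact Nat.prime_two)
  have h1 := Equiv.Perm.sum_cycleType σ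
  rw [hn, h2, Multiset.sum_replicate, hs] at h1
  have h6 : n = 6 := by
    simp only [smul_eq_mul] at h1
    omega
  rw [Equiv.Perm.sign_of_cycleType, hn, h2, h6]
  simp
  decide

theorem card_sylow_of_dvd (p : ℕ) [Fact p.Prime] (h1 : p ∣ Nat.card G) (h2 : ¬ p ^ 2 ∣ Nat.card G)
    (R : Sylow p G) : Nat.card R = p := by
  have hp : p.Prime := Fact.out
  have h0 : Nat.card G ≠ 0 := Nat.card_pos.ne'
  rw [R.card_eq_multiplicity]
  have a1 : 1 ≤ (Nat.card G).factorization p :=
    (hp.pow_dvd_iff_le_factorization h0).mp (by simpa using h1)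
  have a2 : ¬ 2 ≤ (Nat.card G).factorization p := fun h =>
    h2 ((hp.pow_dvd_iff_le_factorization h0).mpr h)
  have : (Nat.card G).factorization p = 1 := by omega
  rw [this, pow_one]

theorem card_sylow_eq_one_of_normal (p : ℕ) [Fact p.Prime] (P : Sylow p G)
    (h : (P : Subgroup G).Normal) : Nat.card (Sylow p G) = 1 := by
  rw [P.card_eq_index_normalizer]
  change (Subgroup.normalizer ((P : Subgroup G) : Set G)).index = 1
  rw [Subgroup.normalizer_eq_top, Subgroup.index_top]

theorem simple_case [IsSimpleGroup G] (hG : ¬ IsMulCommutative G)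
    (h15 : Nat.card (Sylow 7 G) = 15) : False := by
  haveI : Fact (Nat.Prime 7) := ⟨by norm_num⟩
  classical
  letI : Fintype (Sylow 7 G) := Fintype.ofFinite _
  obtain ⟨P⟩ : Nonempty (Sylow 7 G) := inferInstance
  have hnn : ¬ (P : Subgroup G).Normal := fun h => by
    have := card_sylow_eq_one_of_normal 7 P h
    omega
  have h7 : 7 ∣ Nat.card G := by
    by_contra h
    apply hnn
    have h1 : Nat.card (P : Subgroup G) = 1 := by
      rw [P.card_eq_multiplicity, Nat.factorization_eq_zero_of_not_dvd h, pow_zero]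
    rw [Subgroup.card_eq_one.mp h1]
    infer_instance
  have hP7 : Nat.card P = 7 := Cfsg.Agent.S4343.result hG 7 h7 (by rw [h15]; norm_num) P
  have hker : ∀ g : G, (∀ Q : Sylow 7 G, g • Q = Q) → g = 1 := by
    intro g hg
    rcases (MonoidHom.normal_ker (MulAction.toPermHom G (Sylow 7 G))).eq_bot_or_eq_top with h | h
    · have : g ∈ (MulAction.toPermHom G (Sylow 7 G)).ker := by
        rw [MonoidHom.mem_ker]
        ext1 Q
        exact hg Q
      rw [h] at this
      exact Subgroup.mem_bot.mp this
    · exfalso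
      apply hnn
      rw [← Subgroup.normalizer_eq_top_iff, eq_top_iff]
      intro x _
      have : x ∈ (MulAction.toPermHom G (Sylow 7 G)).ker := h ▸ Subgroup.mem_top x
      rw [MonoidHom.mem_ker] at this
      exact Sylow.smul_eq_iff_mem_normalizer.mp
        (congrArg (fun σ : Equiv.Perm (Sylow 7 G) => σ P) this)
  have hC : ∀ k ∈ Subgroup.centralizer ((P : Subgroup G) : Set G), ∀ q : ℕ, q.Prime →
      orderOf k = q → q = 7 := by
    intro k hk q hq hkq
    haveI : Fact q.Prime := ⟨hq⟩
    set F : Set (Sylow 7 G) := {Q | k • Q = Q} with hF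
    have a : Nat.card F ≡ 1 [MOD 7] := by
      refine card_modEq_one 7 P F ?_ ?_
      · change k • P = P
        rw [Sylow.smul_eq_iff_mem_normalizer]
        exact Subgroup.centralizer_le_normalizer _ hk
      · intro x hx Q hQ
        change k • x • Q = x • Q
        have hQ' : k • Q = Q := hQ
        rw [smul_smul, ← (Subgroup.mem_centralizer_iff.mp hk x hx), ← smul_smul, hQ']
    have b : 15 ≡ Nat.card F [MOD q] := by
      have hpg : IsPGroup q (Subgroup.zpowers k) := by
        rw [IsPGroup.iff_card]
        exact ⟨1, by rw [Nat.card_zpowers, hkq, pow_one]⟩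
      have := hpg.card_modEq_card_fixedPoints (Sylow 7 G)
      rw [h15] at this
      have hset : (MulAction.fixedPoints (Subgroup.zpowers k) (Sylow 7 G)) = F := by
        ext Q
        constructor
        · intro h
          exact h ⟨k, Subgroup.mem_zpowers k⟩
        · intro h x
          have hle : Subgroup.zpowers k ≤ MulAction.stabilizer G Q := by
            rw [Subgroup.zpowers_le]
            exact h
          exact hle x.2
      rw [hset] at this
      exact this
    have c : Nat.card F ≤ 15 := by
      rw [← h15]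
      exact Finite.card_subtype_le _
    have hk1 : k ≠ 1 := by
      intro h
      rw [h, orderOf_one] at hkq
      exact hq.one_lt.ne hkq
    have d : Nat.card F ≠ 15 := by
      intro h
      apply hk1
      apply hker
      have huniv : F = Set.univ := by
        apply Set.eq_of_subset_of_ncard_le (Set.subset_univ _) _ Set.finite_univ
        rw [Set.ncard_univ, h15, ← Nat.card_coe_set_eq, h]
      intro Q
      have : Q ∈ F := huniv ▸ Set.mem_univ Q
      exact this
    have e : Nat.card F = 1 ∨ Nat.card F = 8 := by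
      unfold Nat.ModEq at a
      omega
    rcases e with e | e
    · rw [e] at b
      have hd : q ∣ 15 - 1 := (Nat.modEq_iff_dvd' (by norm_num)).mp b.symm
      have hd' : q ∣ 2 * 7 := by simpa using hd
      rcases hq.dvd_mul.mp hd' with h | h
      · exfalso
        have hq2 : q = 2 := (Nat.prime_dvd_prime_iff_eq hq Nat.prime_two).mp h
        have hs1 := sign_toPerm_eq_one hG (Ω := Sylow 7 G) k
        have hinj : Function.Injective (MulAction.toPermHom G (Sylow 7 G)) := by
          rw [injective_iff_map_eq_one]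
          intro g hg
          apply hker
          intro Q
          exact congrArg (fun σ : Equiv.Perm (Sylow 7 G) => σ Q) hg
        have ho : orderOf (MulAction.toPermHom G (Sylow 7 G) k) = 2 := by
          rw [orderOf_injective _ hinj, hkq, hq2]
        have hsupp : (MulAction.toPermHom G (Sylow 7 G) k).support.card = 14 := by
          have h1 : (MulAction.toPermHom G (Sylow 7 G) k).support =
              Finset.univ.filter (fun Q : Sylow 7 G => ¬ (k • Q = Q)) := by
            ext Q
            simp
          have h2 : Nat.card F = (Finset.univ.filter (fun Q : Sylow 7 G => k • Q = Q)).card := by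
            rw [Nat.card_eq_fintype_card, Fintype.card_subtype]
            rfl
          have h3 := Finset.card_filter_add_card_filter_not (s := (Finset.univ : Finset (Sylow 7 G)))
            (fun Q : Sylow 7 G => k • Q = Q)
          rw [Finset.card_univ, ← Nat.card_eq_fintype_card, h15, ← h2, e] at h3
          rw [h1]
          omega
        rw [sign_of_order_two _ ho hsupp] at hs1
        exact absurd hs1 (by decide)
      · exact (Nat.prime_dvd_prime_iff_eq hq (by norm_num)).mp h
    · rw [e] at b
      have hd : q ∣ 15 - 8 := (Nat.modEq_iff_dvd' (by norm_num)).mp b.symm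
      exact (Nat.prime_dvd_prime_iff_eq hq (by norm_num)).mp (by simpa using hd)
  have hCpg : IsPGroup 7 (Subgroup.centralizer ((P : Subgroup G) : Set G)) := by
    rw [IsPGroup.iff_card]
    refine ⟨_, Nat.eq_prime_pow_of_unique_prime_dvd Nat.card_pos.ne' ?_⟩
    intro d hd hdvd
    haveI : Fact d.Prime := ⟨hd⟩
    obtain ⟨k, hk⟩ := exists_prime_orderOf_dvd_card' d hdvd
    exact hC k.1 k.2 d hd (by rw [Subgroup.orderOf_coe]; exact hk)
  have hcyc : IsCyclic (P : Subgroup G) := isCyclic_of_prime_card hP7
  have hPC : (P : Subgroup G) ≤ Subgroup.centralizer ((P : Subgroup G) : Set G) := by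
    intro x hx
    rw [Subgroup.mem_centralizer_iff]
    intro y hy
    have := hcyc.commGroup.mul_comm (⟨y, hy⟩ : (P : Subgroup G)) ⟨x, hx⟩
    exact congrArg Subtype.val this
  have hCP : Subgroup.centralizer ((P : Subgroup G) : Set G) = P := P.3 hCpg hPC
  have hN : Nat.card (Subgroup.normalizer ((P : Subgroup G) : Set G)) ∣ 42 := by
    have h1 := Subgroup.relIndex_mul_relIndex ⊥ _ _ bot_le
      (Subgroup.centralizer_le_normalizer ((P : Subgroup G) : Set G))
    rw [Subgroup.relIndex_bot_left, Subgroup.relIndex_bot_left, hCP] at h1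
    have h2 := relIndex_dvd 7 P hP7
    rw [hCP] at h2
    rw [← h1]
    have h3 : Nat.card (P : Subgroup G) = 7 := hP7
    rw [h3]
    exact Nat.mul_dvd_mul (dvd_refl 7) h2
  have hGc : Nat.card G = 15 * Nat.card (Subgroup.normalizer ((P : Subgroup G) : Set G)) := by
    rw [← h15, P.card_eq_index_normalizer]
    exact (Subgroup.index_mul_card _).symm
  have h630 : Nat.card G ∣ 630 := by
    rw [hGc]
    exact Nat.mul_dvd_mul (dvd_refl 15) hN
  have hodd : ¬ 2 ∣ Nat.card G := by
    intro h2
    haveI : Fact (Nat.Prime 2) := ⟨Nat.prime_two⟩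
    obtain ⟨S⟩ : Nonempty (Sylow 2 G) := inferInstance
    have hS : Nat.card S = 2 := card_sylow_of_dvd 2 h2 (fun h => by
      have := h.trans h630
      norm_num at this) S
    exact false_of_sylow_prime hG 2 S hS (by simp)
  haveI : Fact (Nat.Prime 5) := ⟨by norm_num⟩
  obtain ⟨R⟩ : Nonempty (Sylow 5 G) := inferInstance
  have hR : Nat.card R = 5 := card_sylow_of_dvd 5 (by rw [hGc]; exact Dvd.dvd.mul_right (by norm_num) _)
    (fun h => by
      have := h.trans h630
      norm_num at this) R
  refine false_of_sylow_prime hG 5 R hR ?_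
  have : (Nat.card G).Coprime 2 := by
    rw [Nat.coprime_comm, Nat.Prime.coprime_iff_not_dvd Nat.prime_two]
    exact hodd
  exact Nat.Coprime.pow_right 2 this

theorem eq_one_of_dvd_fifteen {a : ℕ} (ha : a ≡ 1 [MOD 7]) (hd : a ∣ 15) (hne : a ≠ 15) :
    a = 1 := by
  have hle : a ≤ 15 := Nat.le_of_dvd (by norm_num) hd
  unfold Nat.ModEq at ha
  have : a = 1 ∨ a = 8 := by omega
  rcases this with h | h
  · exact h
  · rw [h] at hd
    norm_num at hd

theorem card_lt_of_ne_top (H : Subgroup G) (h : H ≠ ⊤) : Nat.card H < Nat.card G := by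
  have h1 := H.card_mul_index
  have h2 : H.index ≠ 1 := fun h' => h (Subgroup.index_eq_one.mp h')
  have h3 : H.index ≠ 0 := Subgroup.index_ne_zero_of_finite
  have h4 : 0 < Nat.card H := Nat.card_pos
  have h5 : 2 ≤ H.index := by omega
  nlinarith

theorem card_quot_lt_of_ne_bot (H : Subgroup G) (h : H ≠ ⊥) : Nat.card (G ⧸ H) < Nat.card G := by
  have h1 := H.card_mul_index
  have h2 : 1 < Nat.card H := (Subgroup.one_lt_card_iff_ne_bot H).mpr h
  have h3 : H.index ≠ 0 := Subgroup.index_ne_zero_of_finite
  change H.index < Nat.card G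
  have h5 : 1 ≤ H.index := by omega
  nlinarith

theorem nonsimple_case
    (IH : ∀ (H : Type u) [Group H] [Finite H], Nat.card H < Nat.card G →
      Nat.card (Sylow 7 H) ≠ 15)
    (h15 : Nat.card (Sylow 7 G) = 15) (K : Subgroup G) [K.Normal] (hKb : K ≠ ⊥) (hKt : K ≠ ⊤) :
    False := by
  haveI : Fact (Nat.Prime 7) := ⟨by norm_num⟩
  haveI : Fact (Nat.Prime 3) := ⟨by norm_num⟩
  have hA : ∀ (M : Subgroup G) [M.Normal], M ≠ ⊥ → ∀ P : Sylow 7 G,
      (P : Subgroup G) ⊔ M = ⊤ := by
    intro M _ hM P
    have h1 := Cfsg.Agent.Lib.Helper2.SylowNumber.card_sylow_eq_mul M P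
    rw [h15] at h1
    have h2 : Nat.card (Sylow 7 (G ⧸ M)) = 1 :=
      eq_one_of_dvd_fifteen (card_sylow_modEq_one 7 _) (Dvd.intro _ h1.symm)
        (IH _ (card_quot_lt_of_ne_bot M hM))
    rw [h2, one_mul] at h1
    by_contra hne
    exact IH _ (card_lt_of_ne_top _ hne) h1.symm
  have hB : ∀ (M : Subgroup G) [M.Normal], IsPGroup 7 M → M = ⊥ := by
    intro M _ hM
    by_contra hne
    obtain ⟨P', hP'⟩ := hM.exists_le_sylow
    have h1 := hA M hne P'
    rw [sup_eq_left.mpr hP'] at h1
    have h2 := card_sylow_eq_one_of_normal 7 P' (h1 ▸ inferInstance)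
    omega
  obtain ⟨P⟩ : Nonempty (Sylow 7 G) := inferInstance
  have hnK : Nat.card (Sylow 7 K) = 1 := by
    haveI : (((P : Subgroup G) ⊓ K).subgroupOf (((P : Subgroup G) ⊔ K) ⊓
        Subgroup.normalizer (((P : Subgroup G) ⊓ K : Subgroup G) : Set G))).Normal :=
      Subgroup.normal_subgroupOf_of_le_normalizer inf_le_right
    have h := Cfsg.Agent.S4341.result 7 K P _ rfl
    rw [h15] at h
    refine eq_one_of_dvd_fifteen (card_sylow_modEq_one 7 _) ?_ (IH _ (card_lt_of_ne_top K hKt))
    rw [h]
    exact Dvd.dvd.mul_right (Dvd.intro_left _ rfl) _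
  have h7K : ¬ 7 ∣ Nat.card K := by
    intro h7
    obtain ⟨Q⟩ : Nonempty (Sylow 7 K) := inferInstance
    haveI : Subsingleton (Sylow 7 K) := (Nat.card_eq_one_iff_unique.mp hnK).1
    haveI : (Q : Subgroup K).Characteristic := Sylow.characteristic_of_subsingleton Q
    haveI hn : ((Q : Subgroup K).map K.subtype).Normal :=
      ConjAct.normal_of_characteristic_of_normal
    have hb := hB ((Q : Subgroup K).map K.subtype) (Q.2.map _)
    exact Q.ne_bot_of_dvd_card h7
      ((Subgroup.map_eq_bot_iff_of_injective _ K.subtype_injective).mp hb)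
  have hcop : (Nat.card (P : Subgroup G)).Coprime (Nat.card K) := by
    obtain ⟨n, hn⟩ := IsPGroup.iff_card.mp P.2
    rw [hn]
    exact Nat.Coprime.pow_left _ ((Nat.Prime.coprime_iff_not_dvd (by norm_num)).mpr h7K)
  have hsol : Group.IsSolvable (P : Subgroup G) := by
    have := P.2.isNilpotent
    infer_instance
  obtain ⟨R, hRK, hRc, hPR⟩ := Cfsg.Agent.Lib.Helper1.exists_invariant_sylow (P : Subgroup G) K
    (by rw [Subgroup.normalizer_eq_top]; exact le_top) hcop (Or.inl hsol) 3
  have hRpg : IsPGroup 3 R := IsPGroup.iff_card.mpr ⟨_, hRc⟩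
  set O : Set (Sylow 7 G) := MulAction.orbit R P with hO
  have hO1 : Nat.card O ≡ 1 [MOD 7] := by
    refine card_modEq_one 7 P O (MulAction.mem_orbit_self _) ?_
    rintro x hx Q ⟨r, rfl⟩
    have hxr : x * r * x⁻¹ ∈ R := by
      have := hPR hx
      rw [Subgroup.mem_normalizer_iff] at this
      exact (this r).mp r.2
    refine ⟨⟨x * r * x⁻¹, hxr⟩, ?_⟩
    change (x * r * x⁻¹) • P = x • (r : G) • P
    have hxP : x⁻¹ • P = P := by
      rw [Sylow.smul_eq_iff_mem_normalizer]
      exact Subgroup.le_normalizer (inv_mem hx)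
    rw [mul_smul, mul_smul, hxP]
  have hO2 : ∃ a, Nat.card O = 3 ^ a := hRpg.card_orbit P
  have hO3 : Nat.card O ≤ 15 := by
    rw [← h15]
    exact Finite.card_subtype_le _
  have hO4 : Nat.card O = 1 := by
    obtain ⟨a, ha⟩ := hO2
    have ha2 : a ≤ 2 := by
      by_contra hcon
      have : 3 ^ 3 ≤ 3 ^ a := Nat.pow_le_pow_right (by norm_num) (by omega)
      omega
    rw [ha] at hO1 ⊢
    unfold Nat.ModEq at hO1
    interval_cases a
    · rfl
    · norm_num at hO1
    · norm_num at hO1
  have hRN : R ≤ Subgroup.normalizer ((P : Subgroup G) : Set G) := by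
    intro r hr
    haveI : Subsingleton O := (Nat.card_eq_one_iff_unique.mp hO4).1
    have h1 := Subsingleton.elim (⟨(⟨r, hr⟩ : R) • P, MulAction.mem_orbit _ _⟩ : O)
      ⟨P, MulAction.mem_orbit_self _⟩
    exact Sylow.smul_eq_iff_mem_normalizer.mp (congrArg Subtype.val h1)
  have h1 : Nat.card R ∣ Nat.card (Subgroup.normalizer ((P : Subgroup G) : Set G)) :=
    Subgroup.card_dvd_of_le hRN
  have hGc : Nat.card G = 15 * Nat.card (Subgroup.normalizer ((P : Subgroup G) : Set G)) := by
    rw [← h15, P.card_eq_index_normalizer]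
    exact (Subgroup.index_mul_card _).symm
  have h2 : 3 ^ ((Nat.card K).factorization 3 + 1) ∣ Nat.card G := by
    rw [hGc, pow_succ, ← hRc, mul_comm]
    exact Nat.mul_dvd_mul (by norm_num) h1
  have h3 : K.index ∣ Nat.card (P : Subgroup G) := by
    have := Subgroup.relIndex_sup_right (P : Subgroup G) K
    rw [hA K hKb P, Subgroup.relIndex_top_right] at this
    rw [this]
    exact Subgroup.relIndex_dvd_card _ _
  have h4 := K.card_mul_index
  have h5 : 3 ^ ((Nat.card K).factorization 3 + 1) ∣ Nat.card K := by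
    rw [← h4] at h2
    refine Nat.Coprime.dvd_of_dvd_mul_right ?_ h2
    refine Nat.Coprime.coprime_dvd_right h3 ?_
    obtain ⟨n, hn⟩ := IsPGroup.iff_card.mp P.2
    rw [hn]
    exact Nat.Coprime.pow _ _ (by norm_num)
  exact Nat.pow_succ_factorization_not_dvd Nat.card_pos.ne' (by norm_num) h5

theorem main_aux : ∀ (n : ℕ) (G : Type u) [Group G] [Finite G], Nat.card G = n →
    Nat.card (Sylow 7 G) ≠ 15 := by
  intro n
  induction n using Nat.strong_induction_on with
  | _ n ih =>
  intro G _ _ hn h15
  haveI : Fact (Nat.Prime 7) := ⟨by norm_num⟩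
  have IH : ∀ (H : Type u) [Group H] [Finite H], Nat.card H < Nat.card G →
      Nat.card (Sylow 7 H) ≠ 15 := fun H _ _ h => ih _ (hn ▸ h) H rfl
  obtain ⟨P⟩ : Nonempty (Sylow 7 G) := inferInstance
  have hnn : ¬ (P : Subgroup G).Normal := fun h => by
    have := card_sylow_eq_one_of_normal 7 P h
    omega
  by_cases hs : IsSimpleGroup G
  · by_cases hc : IsMulCommutative G
    · apply hnn
      refine ⟨fun x hx g => ?_⟩
      have : g * x * g⁻¹ = x := by
        rw [hc.is_comm.comm g x, mul_assoc, mul_inv_cancel, mul_one]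
      rw [this]
      exact hx
    · exact simple_case hc h15
  · have hnt : Nontrivial G := by
      by_contra h
      rw [not_nontrivial_iff_subsingleton] at h
      apply hnn
      rw [Subsingleton.elim (P : Subgroup G) ⊥]
      infer_instance
    obtain ⟨K, hKn, hKb, hKt⟩ : ∃ K : Subgroup G, K.Normal ∧ K ≠ ⊥ ∧ K ≠ ⊤ := by
      by_contra h
      push Not at h
      apply hs
      refine ⟨fun H hH => ?_⟩
      by_cases hb : H = ⊥
      · exact Or.inl hb
      · exact Or.inr (h H hH hb)
    exact nonsimple_case IH h15 K hKb hKt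

end Cfsg.Agent.Lib.Helper6.Syl15
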