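import Mathlib
import Cfsg.Agent.Lib.Helper1.Transfer1
import Cfsg.Agent.Lib.Helper6.Nil
import Cfsg.Agent.Lib.Helper6.Syl15

set_option autoImplicit false
set_option maxHeartbeats 400000
set_option linter.style.haveILetI false
set_option linter.unusedSectionVars false

namespace Cfsg.Agent.Lib.Helper6.Hyp

open scoped commutatorElement

universe u

theorem commute_of_coprime (L : Type*) [Group L] [Group.IsNilpotent L] :
    ∀ x y : L, (orderOf x).Coprime (orderOf y) → Commute x y := by
  refine Group.nilpotent_center_quotient_ind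
    (P := fun L _ _ => ∀ x y : L, (orderOf x).Coprime (orderOf y) → Commute x y) L ?_ ?_
  · intro L _ _ x y _
    exact Subsingleton.elim _ _
  · intro L _ _ ih x y hxy
    have h1 := ih (QuotientGroup.mk x) (QuotientGroup.mk y)
      (Nat.Coprime.coprime_dvd_left (orderOf_map_dvd (QuotientGroup.mk' (Subgroup.center L)) x)
        (Nat.Coprime.coprime_dvd_right
          (orderOf_map_dvd (QuotientGroup.mk' (Subgroup.center L)) y) hxy))
    set c := x * y * x⁻¹ * y⁻¹ with hcdef
    have hc : c ∈ Subgroup.center L := by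
      rw [← QuotientGroup.eq_one_iff, hcdef, QuotientGroup.mk_mul, QuotientGroup.mk_mul,
        QuotientGroup.mk_mul, QuotientGroup.mk_inv, QuotientGroup.mk_inv, h1.eq]
      group
    have hcc : ∀ z : L, Commute c z := fun z => ((Subgroup.mem_center_iff.mp hc) z).symm
    have h2 : c ^ orderOf y = 1 := by
      have h : (x * y * x⁻¹) ^ orderOf y = 1 := by
        rw [conj_pow, pow_orderOf_eq_one]; group
      have e : x * y * x⁻¹ = c * y := by rw [hcdef]; group
      rw [e, (hcc y).mul_pow, pow_orderOf_eq_one, mul_one] at h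
      exact h
    have h3 : c ^ orderOf x = 1 := by
      have h : (y * x * y⁻¹) ^ orderOf x = 1 := by
        rw [conj_pow, pow_orderOf_eq_one]; group
      have e : y * x * y⁻¹ = c⁻¹ * x := by rw [hcdef]; group
      rw [e, ((hcc x).inv_left).mul_pow, pow_orderOf_eq_one, mul_one, inv_pow, inv_eq_one] at h
      exact h
    have h4 : orderOf c ∣ 1 := by
      have := Nat.dvd_gcd (orderOf_dvd_of_pow_eq_one h3) (orderOf_dvd_of_pow_eq_one h2)
      rwa [Nat.Coprime.gcd_eq_one hxy] at this
    have h5 : c = 1 := orderOf_eq_one_iff.mp (Nat.dvd_one.mp h4)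
    change x * y = y * x
    calc x * y = c * (y * x) := by rw [hcdef]; group
      _ = y * x := by rw [h5, one_mul]

/-- a nontrivial normal subgroup of a nilpotent group meets the centre. -/
theorem exists_central (Q : Type*) [Group Q] [hQ : Group.IsNilpotent Q] (D : Subgroup Q)
    [hD : D.Normal] (hD1 : D ≠ ⊥) : ∃ n ∈ D, n ≠ 1 ∧ n ∈ Subgroup.center Q := by
  classical
  obtain ⟨c, hc⟩ := hQ.nilpotent'
  have hex : ∃ j : ℕ, D ⊓ Subgroup.upperCentralSeries Q j ≠ ⊥ := ⟨c, by rw [hc, inf_top_eq]; exact hD1⟩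
  have hj := Nat.find_spec hex
  have hmin := fun i => Nat.find_min hex (m := i)
  set j := Nat.find hex with hjdef
  rcases Nat.eq_zero_or_pos j with h0 | h0
  · exfalso
    rw [h0, Subgroup.upperCentralSeries_zero, inf_bot_eq] at hj
    exact hj rfl
  obtain ⟨i, hi⟩ : ∃ i, j = i + 1 := ⟨j - 1, by omega⟩
  have hi' : D ⊓ Subgroup.upperCentralSeries Q i = ⊥ := by
    have := hmin i (by omega)
    push Not at this
    exact this
  obtain ⟨⟨n, hn⟩, hn1'⟩ := Subgroup.ne_bot_iff_exists_ne_one.mp hj
  have hn1 : n ≠ 1 := fun h' => hn1' (Subtype.ext h')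
  refine ⟨n, hn.1, hn1, ?_⟩
  rw [Subgroup.mem_center_iff]
  intro y
  have h1 : ⁅n, y⁆ ∈ Subgroup.upperCentralSeries Q i := by
    have := hn.2
    rw [hi] at this
    exact Subgroup.mem_upperCentralSeries_succ_iff.mp this y
  have h2 : ⁅n, y⁆ ∈ D := by
    rw [commutatorElement_def]
    have := hD.conj_mem n⁻¹ (inv_mem hn.1) y
    have h3 := mul_mem hn.1 this
    simpa [mul_assoc] using h3
  have h3 : ⁅n, y⁆ ∈ D ⊓ Subgroup.upperCentralSeries Q i := ⟨h2, h1⟩
  rw [hi', Subgroup.mem_bot, commutatorElement_eq_one_iff_mul_comm] at h3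
  exact h3.symm

theorem mem_iSup_iff {G : Type*} [Group G] (g : G) :
    g ∈ (⨆ n : ℕ, Subgroup.upperCentralSeries G n) ↔ ∃ n, g ∈ Subgroup.upperCentralSeries G n :=
  Subgroup.mem_iSup_of_directed (Subgroup.upperCentralSeries_mono G).directed_le

theorem forward : ∀ (N : ℕ) (G : Type u) [Group G] [Finite G], Nat.card G = N → ∀ (g : G),
    (∀ x : G, Group.IsNilpotent ↥(Subgroup.closure ({x, g} : Set G))) →
    g ∈ ⨆ n : ℕ, Subgroup.upperCentralSeries G n := by
  intro N
  induction N using Nat.strong_induction_on with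
  | _ N ih =>
  intro G _ _ hN g hg
  by_cases hZ : Subgroup.center G = ⊥
  · -- then `g = 1`
    suffices h : g = 1 by rw [h]; exact one_mem _
    by_contra hg1
    have ho1 : orderOf g ≠ 1 := fun h => hg1 (orderOf_eq_one_iff.mp h)
    obtain ⟨p, hp, hpd⟩ := Nat.exists_prime_and_dvd ho1
    haveI : Fact p.Prime := ⟨hp⟩
    set g0 := g ^ (orderOf g / p) with hg0
    have hog0 : orderOf g0 = p := orderOf_pow_orderOf_div (orderOf_pos g).ne' hpd
    have hg0' : ∀ x : G, Group.IsNilpotent ↥(Subgroup.closure ({x, g0} : Set G)) := by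
      intro x
      apply Nil.nilpotent_of_le _ (hg x)
      rw [Subgroup.closure_le]
      rintro y (rfl | rfl)
      · exact Subgroup.subset_closure (by simp)
      · exact pow_mem (Subgroup.subset_closure (by simp)) _
    have hcomm : ∀ x : G, (orderOf x).Coprime p → x * g0 = g0 * x := by
      intro x hx
      haveI := hg0' x
      have hxm : x ∈ Subgroup.closure ({x, g0} : Set G) := Subgroup.subset_closure (by simp)
      have hgm : g0 ∈ Subgroup.closure ({x, g0} : Set G) := Subgroup.subset_closure (by simp)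
      have := commute_of_coprime ↥(Subgroup.closure ({x, g0} : Set G)) ⟨x, hxm⟩ ⟨g0, hgm⟩
        (by rw [Subgroup.orderOf_mk, Subgroup.orderOf_mk, hog0]; exact hx)
      exact congrArg Subtype.val this.eq
    haveI hRn := Cfsg.Agent.Lib.Helper1.pResidual_normal (G := G) p
    set X := Subgroup.centralizer ((Cfsg.pResidual p G : Subgroup G) : Set G) with hX
    haveI hXn : X.Normal := Subgroup.normal_centralizer
    have hg0X : g0 ∈ X := by
      have h1 : Cfsg.pResidual p G ≤ Subgroup.centralizer ({g0} : Set G) := by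
        rw [Cfsg.pResidual, Subgroup.closure_le]
        intro x hx
        rw [SetLike.mem_coe, Subgroup.mem_centralizer_singleton_iff]
        exact hcomm x hx
      rw [hX, Subgroup.mem_centralizer_iff]
      intro h hh
      have := h1 hh
      rw [Subgroup.mem_centralizer_singleton_iff] at this
      exact this
    have hpg : IsPGroup p (Subgroup.zpowers g0) := by
      apply IsPGroup.of_card (n := 1)
      rw [Nat.card_zpowers, hog0, pow_one]
    obtain ⟨P, hP⟩ := hpg.exists_le_sylow
    have hg0P : g0 ∈ (P : Subgroup G) := hP (Subgroup.mem_zpowers g0)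
    haveI : Group.IsNilpotent ↥(P : Subgroup G) := P.2.isNilpotent
    have hD1 : X.subgroupOf (P : Subgroup G) ≠ ⊥ := by
      intro h
      have h1 : (⟨g0, hg0P⟩ : (P : Subgroup G)) ∈ X.subgroupOf (P : Subgroup G) := by
        rw [Subgroup.mem_subgroupOf]; exact hg0X
      rw [h, Subgroup.mem_bot] at h1
      have h2 : g0 = 1 := congrArg Subtype.val h1
      rw [h2, orderOf_one] at hog0
      exact hp.one_lt.ne hog0
    obtain ⟨n, hnD, hn1, hnc⟩ := exists_central ↥(P : Subgroup G) (X.subgroupOf (P : Subgroup G)) hD1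
    rw [Subgroup.mem_subgroupOf] at hnD
    have htop : Subgroup.centralizer ({(n : G)} : Set G) = ⊤ := by
      rw [eq_top_iff, ← Cfsg.Agent.Lib.Helper1.sylow_sup_pResidual P]
      apply sup_le
      · intro y hy
        rw [Subgroup.mem_centralizer_singleton_iff]
        have := (Subgroup.mem_center_iff.mp hnc) ⟨y, hy⟩
        exact congrArg Subtype.val this
      · intro y hy
        rw [Subgroup.mem_centralizer_singleton_iff]
        exact (Subgroup.mem_centralizer_iff.mp hnD) y hy
    have hcen : (n : G) ∈ Subgroup.center G := by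
      rw [Subgroup.mem_center_iff]
      intro y
      have : y ∈ Subgroup.centralizer ({(n : G)} : Set G) := htop ▸ Subgroup.mem_top y
      rw [Subgroup.mem_centralizer_singleton_iff] at this
      exact this
    rw [hZ, Subgroup.mem_bot] at hcen
    exact hn1 (Subtype.ext hcen)
  · have hlt : Nat.card (G ⧸ Subgroup.center G) < N :=
      hN ▸ Syl15.card_quot_lt_of_ne_bot _ hZ
    have h1 := ih _ hlt (G ⧸ Subgroup.center G) rfl (QuotientGroup.mk g) (by
      intro x
      obtain ⟨x, rfl⟩ := QuotientGroup.mk_surjective x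
      have h2 : Subgroup.closure ({(QuotientGroup.mk x : G ⧸ Subgroup.center G), QuotientGroup.mk g} : Set _) =
          (Subgroup.closure ({x, g} : Set G)).map (QuotientGroup.mk' (Subgroup.center G)) := by
        rw [MonoidHom.map_closure, Set.image_pair]
        rfl
      rw [h2]
      exact Nil.nilpotent_map _ (hg x))
    rw [mem_iSup_iff] at h1 ⊢
    obtain ⟨n, hn⟩ := h1
    refine ⟨n + 1, ?_⟩
    rw [← Nat.succ_eq_add_one, ← Subgroup.comap_upperCentralSeries_quotient_center]
    exact hn

theorem sub_upper {G : Type*} [Group G] (L : Subgroup G) (n : ℕ) :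
    (Subgroup.upperCentralSeries G n).subgroupOf L ≤ Subgroup.upperCentralSeries L n := by
  induction n with
  | zero =>
    intro x hx
    rw [Subgroup.mem_subgroupOf, Subgroup.upperCentralSeries_zero, Subgroup.mem_bot] at hx
    rw [Subgroup.upperCentralSeries_zero, Subgroup.mem_bot]
    exact Subtype.ext hx
  | succ n ih =>
    intro x hx
    rw [Subgroup.mem_subgroupOf, Subgroup.mem_upperCentralSeries_succ_iff] at hx
    rw [Subgroup.mem_upperCentralSeries_succ_iff]
    intro y
    apply ih
    rw [Subgroup.mem_subgroupOf]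
    exact hx y

theorem backward {G : Type*} [Group G] (g : G)
    (hg : g ∈ ⨆ n : ℕ, Subgroup.upperCentralSeries G n) (x : G) :
    Group.IsNilpotent ↥(Subgroup.closure ({x, g} : Set G)) := by
  obtain ⟨n, hn⟩ := (mem_iSup_iff g).mp hg
  set L := Subgroup.closure ({x, g} : Set G) with hL
  have hxm : x ∈ L := Subgroup.subset_closure (by simp)
  have hgm : g ∈ L := Subgroup.subset_closure (by simp)
  set Z := Subgroup.upperCentralSeries L n with hZ
  have hgZ : (⟨g, hgm⟩ : L) ∈ Z := sub_upper L n (Subgroup.mem_subgroupOf.mpr hn)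
  set q : L ⧸ Z := QuotientGroup.mk (⟨x, hxm⟩ : L) with hq
  have key : ∀ a : L, (QuotientGroup.mk a : L ⧸ Z) ∈ Subgroup.zpowers q := by
    have h1 : L ≤ ((Subgroup.zpowers q).comap (QuotientGroup.mk' Z)).map L.subtype := by
      apply (Subgroup.closure_le _).mpr
      rintro y (rfl | rfl)
      · exact ⟨⟨y, hxm⟩, Subgroup.mem_zpowers q, rfl⟩
      · refine ⟨⟨y, hgm⟩, ?_, rfl⟩
        rw [SetLike.mem_coe, Subgroup.mem_comap]
        have : QuotientGroup.mk' Z ⟨y, hgm⟩ = 1 := (QuotientGroup.eq_one_iff _).mpr hgZ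
        rw [this]
        exact one_mem _
    intro a
    obtain ⟨b, hb, hba⟩ := h1 a.2
    have : b = a := Subtype.ext hba
    rw [← this]
    exact hb
  refine ⟨⟨n + 1, ?_⟩⟩
  rw [eq_top_iff]
  intro a _
  rw [Subgroup.mem_upperCentralSeries_succ_iff]
  intro b
  obtain ⟨i, hi⟩ := Subgroup.mem_zpowers_iff.mp (key a)
  obtain ⟨j, hj⟩ := Subgroup.mem_zpowers_iff.mp (key b)
  rw [← hZ, ← QuotientGroup.eq_one_iff, commutatorElement_def, QuotientGroup.mk_mul,
    QuotientGroup.mk_mul, QuotientGroup.mk_mul, QuotientGroup.mk_inv, QuotientGroup.mk_inv,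
    ← hi, ← hj]
  group

end Cfsg.Agent.Lib.Helper6.Hyp
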