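import Mathlib
import Cfsg.Prelude.Def_Blocks
import Cfsg.Agent.Lib.Helper2.BlockSM7
import Cfsg.Agent.Lib.Helper2.CentralMod
import Cfsg.Agent.Lib.Helper7.CharBurnside

set_option autoImplicit false
set_option maxHeartbeats 400000
set_option linter.unusedSectionVars false
set_option linter.unusedVariables false
set_option linter.style.haveILetI false

/-! Kazarin's theorem (character-theoretic part): an element whose class has `p`-power size
is central in a nonprincipal irreducible representation belonging to the principal `r`-block,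
for every prime `r ≠ p` dividing the group order. -/

namespace Cfsg.Agent.Lib.Helper6.Kaz

open Module Representation Cfsg Cfsg.Agent.Lib.Helper7.CharIrr Cfsg.Agent.Lib.Helper7.CharDecomp
  Cfsg.Agent.Lib.Helper7.CharComplete Cfsg.Agent.Lib.Helper7.CharOrth
  Cfsg.Agent.Lib.Helper7.CharIntegral Cfsg.Agent.Lib.Helper7.CharBurnside
  Cfsg.Agent.Lib.Helper2.LocRing Cfsg.Agent.Lib.Helper2.BlockZ
open scoped ComplexConjugate

theorem exists_rep {G : Type*} [Group G] [Finite G] (p r k : ℕ) (hp : p.Prime) (hr : r.Prime)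
    (hpr : p ≠ r) (hrG : r ∣ Nat.card G) (M : Ideal AlgInt) (hM : IsPModular r M) (x : G)
    (hx : (Subgroup.centralizer ({x} : Set G)).index = p ^ k) :
    ∃ (n : ℕ) (ρ : Representation ℂ G (Fin n → ℂ)), ρ.IsIrreducible ∧
      ρ.character ≠ (fun _ => 1) ∧ SameBlock M (fun _ : G => (1 : ℂ)) ρ.character ∧
      ∃ ω : ℂ, ρ x = ω • (LinearMap.id : (Fin n → ℂ) →ₗ[ℂ] (Fin n → ℂ)) := by
  classical
  by_contra hcon
  haveI := Fintype.ofFinite G
  haveI := Fintype.ofFinite (IrrCharacter G)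
  haveI : Fact r.Prime := ⟨hr⟩
  haveI := hM.2.1.isPrime
  have hpC : (p : ℂ) ≠ 0 := by exact_mod_cast hp.ne_zero
  obtain ⟨y, hy⟩ := exists_prime_orderOf_dvd_card' (G := G) r hrG
  have hy1 : y ≠ 1 := by
    intro h
    rw [h, orderOf_one] at hy
    exact hr.one_lt.ne hy
  set B : Set (IrrCharacter G) := principalBlock M G with hB
  let triv : IrrCharacter G := ⟨fun _ => 1, isIrrCharacter_one⟩
  have hBb : IsPBlock M B := ⟨triv, rfl⟩
  have key : ∀ χ : IrrCharacter G, χ ∈ B → (χ : G → ℂ) ≠ (fun _ => 1) →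
      IsIntegral ℤ ((χ : G → ℂ) y * ((χ : G → ℂ) 1⁻¹) / p) := by
    intro χ hχB hχ
    obtain ⟨n, ρ, hρ, hρχ⟩ := χ.2
    haveI := hρ
    have h1 : (χ : G → ℂ) 1 = n := by rw [← hρχ, char_one]; simp
    by_cases hpn : p ∣ n
    · obtain ⟨m, rfl⟩ := hpn
      have h2 : (χ : G → ℂ) y * ((χ : G → ℂ) 1⁻¹) / p = (χ : G → ℂ) y * (m : ℂ) := by
        rw [inv_one, h1, Nat.cast_mul]
        field_simp
      rw [h2, ← hρχ]
      exact (Cfsg.Agent.Lib.Helper7.CharBasic.isIntegral_char ρ y).mul isIntegral_algebraMap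
    · exfalso
      have hcop : Nat.Coprime (finrank ℂ (Fin n → ℂ))
          (Subgroup.centralizer ({x} : Set G)).index := by
        rw [hx, Module.finrank_fin_fun]
        exact Nat.Coprime.pow_right k ((Nat.Prime.coprime_iff_not_dvd hp).mpr hpn).symm
      rcases char_eq_zero_or_norm_eq ρ x hcop with h0 | h0
      · have h3 : MemLocalIdeal M (centralChar (fun _ : G => (1 : ℂ)) x - centralChar (χ : G → ℂ) x) :=
          hχB x
        have h4 : centralChar (fun _ : G => (1 : ℂ)) x - centralChar (χ : G → ℂ) x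
            = ((p ^ k : ℕ) : ℂ) := by
          unfold centralChar
          rw [← hρχ, h0, hx]
          simp
        rw [h4, ← mem_Iloc, natCast_mem_Iloc_iff hM] at h3
        exact hpr ((Nat.prime_dvd_prime_iff_eq hr hp).mp (hr.dvd_of_dvd_pow h3)).symm
      · obtain ⟨ω, hω⟩ := (Cfsg.Agent.Lib.Helper7.CharBasic.norm_char_eq_finrank_iff ρ x).mp h0
        exact hcon ⟨n, ρ, hρ, by rw [hρχ]; exact hχ, by rw [hρχ]; exact hχB, ω, hω⟩
  have hsum := Cfsg.Agent.Lib.Helper2.BlockSM7.block_orth hM y 1 y 1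
    ⟨1, mul_one y, Commute.one_right y, ⟨1, by rw [hy, pow_one]⟩, by
      rw [orderOf_one]; exact hr.one_lt.ne' ∘ Nat.dvd_one.mp⟩
    ⟨1, mul_one 1, Commute.one_right 1, ⟨0, by rw [orderOf_one, pow_zero]⟩, by
      rw [orderOf_one]; exact hr.one_lt.ne' ∘ Nat.dvd_one.mp⟩
    (by intro h; exact hy1 (isConj_one_left.mp h)) hBb
  have htB : triv ∈ Finset.univ.filter (fun χ => χ ∈ B) := by
    rw [Finset.mem_filter]
    exact ⟨Finset.mem_univ _, sameBlock_refl _⟩
  rw [← Finset.add_sum_erase _ _ htB] at hsum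
  have hint : IsIntegral ℤ ((∑ χ ∈ (Finset.univ.filter (fun χ => χ ∈ B)).erase triv,
      (χ : G → ℂ) y * ((χ : G → ℂ) 1⁻¹)) / p) := by
    rw [Finset.sum_div]
    apply IsIntegral.sum
    intro χ hχ
    apply key χ (Finset.mem_filter.mp (Finset.mem_of_mem_erase hχ)).2
    intro h
    exact (Finset.ne_of_mem_erase hχ) (Subtype.ext h)
  have h5 : (∑ χ ∈ (Finset.univ.filter (fun χ => χ ∈ B)).erase triv,
      (χ : G → ℂ) y * ((χ : G → ℂ) 1⁻¹)) = -1 := by
    have h6 : (triv : G → ℂ) y * ((triv : G → ℂ) 1⁻¹) = 1 := by simp [triv]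
    rw [h6] at hsum
    linear_combination hsum
  rw [h5] at hint
  have h7 : IsIntegral ℤ (((1 : ℕ) : ℂ) / (p : ℂ)) := by
    have := hint.neg
    simpa [neg_div] using this
  have h8 := nat_dvd_of_isIntegral_div hp.ne_zero h7
  exact hp.one_lt.ne' (Nat.dvd_one.mp h8)

theorem one_sub_pow_mem {M : Ideal AlgInt} [M.IsPrime] {ω : ℂ} (hω : ω ∈ Rloc M)
    (h : 1 - ω ∈ Iloc M) (i : ℕ) : 1 - ω ^ i ∈ Iloc M := by
  induction i with
  | zero => simp
  | succ i ih =>
    have h1 : 1 - ω ^ (i + 1) = (1 - ω ^ i) + ω ^ i * (1 - ω) := by ring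
    rw [h1]
    exact (Iloc M).add_mem ih (mul_mem_Iloc (pow_mem hω i) h)

theorem exists_normal {G : Type*} [Group G] [Finite G] (p r k : ℕ) (hp : p.Prime) (hr : r.Prime)
    (hpr : p ≠ r) (hrG : r ∣ Nat.card G) (x : G)
    (hx : (Subgroup.centralizer ({x} : Set G)).index = p ^ k) :
    ∃ N : Subgroup G, N.Normal ∧ N ≠ ⊤ ∧ ∃ j : ℕ, x ^ (r ^ j) ∈ N := by
  classical
  obtain ⟨M, hM⟩ := Cfsg.Agent.Lib.Helper2.CentralMod.exists_modular r hr
  haveI := hM.2.1.isPrime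
  obtain ⟨n, ρ, hρ, hne, hblk, ω, hω⟩ := exists_rep p r k hp hr hpr hrG M hM x hx
  haveI := hρ
  set K : Subgroup G := MonoidHom.ker ρ with hK
  have hKn : K.Normal := MonoidHom.normal_ker ρ
  have hKt : K ≠ ⊤ := by
    intro hk
    apply hne
    have hall : ∀ z, ρ z = 1 := fun z =>
      MonoidHom.mem_ker.mp (show z ∈ K from hk ▸ Subgroup.mem_top z)
    have hdim : finrank ℂ (Fin n → ℂ) = 1 :=
      finrank_eq_one_of_forall_scalar ρ (fun z => ⟨1, by rw [hall z, one_smul]; rfl⟩)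
    ext z
    rw [Representation.character, hall z, LinearMap.trace_one, hdim]
    simp
  have hpow : ∀ i : ℕ, ρ (x ^ i) = (ω ^ i) • (LinearMap.id : (Fin n → ℂ) →ₗ[ℂ] (Fin n → ℂ)) := by
    intro i
    induction i with
    | zero => simp; rfl
    | succ i ih =>
      rw [pow_succ, map_mul, ih, hω]
      ext v
      simp [pow_succ, mul_smul, mul_comm]
  have hsc : ∀ z ∈ Subgroup.zpowers x,
      ∃ c : ℂ, ρ z = c • (LinearMap.id : (Fin n → ℂ) →ₗ[ℂ] (Fin n → ℂ)) := by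
    intro z hz
    obtain ⟨i, rfl⟩ := Submonoid.mem_powers_iff _ _ |>.mp (mem_powers_iff_mem_zpowers.mpr hz)
    exact ⟨_, hpow i⟩
  have hcj : ∀ z ∈ Subgroup.zpowers x, ∀ g : G, g * z * g⁻¹ * z⁻¹ ∈ K := by
    intro z hz g
    obtain ⟨c, hc⟩ := hsc z hz
    have h1 : ρ (g * z * g⁻¹) = ρ z := by
      rw [map_mul, map_mul, hc]
      have h2 : ρ g * ρ g⁻¹ = 1 := by rw [← map_mul, mul_inv_cancel, map_one]
      have h3 : ρ g * c • (LinearMap.id : (Fin n → ℂ) →ₗ[ℂ] (Fin n → ℂ)) * ρ g⁻¹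
          = c • (ρ g * ρ g⁻¹) := by
        ext v
        simp
      rw [h3, h2]
      rfl
    rw [hK, MonoidHom.mem_ker, map_mul, h1, ← map_mul, mul_inv_cancel, map_one]
  have hdec : ∀ g ∈ K ⊔ Subgroup.zpowers x, ∃ a ∈ K, ∃ z ∈ Subgroup.zpowers x, g = a * z := by
    intro g hg
    have hg' : g ∈ ((K ⊔ Subgroup.zpowers x : Subgroup G) : Set G) := hg
    rw [Subgroup.normal_mul] at hg'
    obtain ⟨a, ha, z, hz, rfl⟩ := Set.mem_mul.mp hg'
    exact ⟨a, ha, z, hz, rfl⟩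
  have hNn : (K ⊔ Subgroup.zpowers x).Normal := by
    constructor
    intro m hm g
    obtain ⟨a, ha, z, hz, rfl⟩ := hdec m hm
    have h1 : g * (a * z) * g⁻¹ = (g * a * g⁻¹) * (g * z * g⁻¹ * z⁻¹) * z := by group
    rw [h1]
    exact Subgroup.mul_mem _ (Subgroup.mem_sup_left
      (Subgroup.mul_mem _ (hKn.conj_mem a ha g) (hcj z hz g))) (Subgroup.mem_sup_right hz)
  by_cases hN : K ⊔ Subgroup.zpowers x = ⊤
  swap
  · exact ⟨_, hNn, hN, 0, by
      rw [pow_zero, pow_one]; exact Subgroup.mem_sup_right (Subgroup.mem_zpowers x)⟩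
  have hall : ∀ g, ∃ c : ℂ, ρ g = c • (LinearMap.id : (Fin n → ℂ) →ₗ[ℂ] (Fin n → ℂ)) := by
    intro g
    obtain ⟨a, ha, z, hz, rfl⟩ := hdec g (hN ▸ Subgroup.mem_top g)
    obtain ⟨c, hc⟩ := hsc z hz
    refine ⟨c, ?_⟩
    rw [map_mul, MonoidHom.mem_ker.mp ha, one_mul, hc]
  have hdim : finrank ℂ (Fin n → ℂ) = 1 := finrank_eq_one_of_forall_scalar ρ hall
  have htr : ∀ c : ℂ, LinearMap.trace ℂ (Fin n → ℂ)
      (c • (LinearMap.id : (Fin n → ℂ) →ₗ[ℂ] (Fin n → ℂ))) = c := by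
    intro c
    rw [map_smul, LinearMap.trace_id, hdim]
    simp
  have hχx : ρ.character x = ω := by rw [Representation.character, hω, htr]
  have hχ1 : ρ.character 1 = 1 := by rw [char_one, hdim]; simp
  have hord : ω ^ orderOf x = 1 := by
    have h1 := hpow (orderOf x)
    rw [pow_orderOf_eq_one, map_one] at h1
    have h2 := congrArg (LinearMap.trace ℂ (Fin n → ℂ)) h1
    rw [htr, LinearMap.trace_one, hdim] at h2
    simpa using h2.symm
  have hωi : IsIntegral ℤ ω := IsIntegral.of_pow (orderOf_pos x) (by rw [hord]; exact isIntegral_one)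
  have hωR : ω ∈ Rloc M := integral_mem_Rloc hωi
  have h1ω : 1 - ω ∈ Iloc M := by
    have h3 : MemLocalIdeal M (centralChar (fun _ : G => (1 : ℂ)) x - centralChar ρ.character x) :=
      hblk x
    have h4 : centralChar (fun _ : G => (1 : ℂ)) x - centralChar ρ.character x
        = ((p ^ k : ℕ) : ℂ) * (1 - ω) := by
      unfold centralChar
      rw [hχx, hχ1, hx]
      ring
    rw [h4, ← mem_Iloc] at h3
    rcases mem_or_mem_of_mul_mem_Iloc (natCast_mem_Rloc _) h3 with h5 | h5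
    · rw [natCast_mem_Iloc_iff hM] at h5
      exact absurd ((Nat.prime_dvd_prime_iff_eq hr hp).mp (hr.dvd_of_dvd_pow h5)).symm hpr
    · exact h5
  obtain ⟨j, m, hm, hjm⟩ := Nat.exists_eq_pow_mul_and_not_dvd (orderOf_pos x).ne' r hr.ne_one
  have hζm : (ω ^ (r ^ j)) ^ m = 1 := by rw [← pow_mul, ← hjm, hord]
  by_cases hζ : ω ^ (r ^ j) = 1
  · refine ⟨K, hKn, hKt, j, ?_⟩
    rw [hK, MonoidHom.mem_ker, hpow, hζ, one_smul]
    rfl
  exfalso
  have hg := geom_sum_mul (ω ^ (r ^ j)) m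
  rw [hζm, sub_self] at hg
  have hs0 : ∑ i ∈ Finset.range m, (ω ^ (r ^ j)) ^ i = 0 :=
    (mul_eq_zero.mp hg).resolve_right (sub_ne_zero.mpr hζ)
  have hmI : (m : ℂ) ∈ Iloc M := by
    have h6 : (m : ℂ) = ∑ i ∈ Finset.range m, (1 - (ω ^ (r ^ j)) ^ i) := by
      rw [Finset.sum_sub_distrib, hs0]
      simp
    rw [h6]
    apply Submodule.sum_mem
    intro i _
    rw [← pow_mul]
    exact one_sub_pow_mem hωR h1ω _
  rw [natCast_mem_Iloc_iff hM] at hmI
  exact hm hmI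

end Cfsg.Agent.Lib.Helper6.Kaz
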