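import Mathlib
import Cfsg.Agent.Lib.Helper6.Kaz
import Cfsg.Agent.Lib.Helper6.Rad
import Cfsg.Agent.Lib.Helper9.Sig
import Cfsg.Agent.Lib.Helper3.S4Red
import Cfsg.Agent.Lib.Helper1.FittingSolv

set_option autoImplicit false
set_option maxHeartbeats 400000
set_option linter.unusedSectionVars false
set_option linter.unusedVariables false
set_option linter.style.haveILetI false

/-! Kazarin's theorem: an element whose class has prime power size generates a solvable
normal subgroup; its conjugates commute modulo `O_p`. -/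

namespace Cfsg.Agent.Lib.Helper6.Kaz

open Cfsg Cfsg.Agent.Lib.Helper6.Basic Cfsg.Agent.Lib.Helper6.Subn Cfsg.Agent.Lib.Helper6.Quasi
  Cfsg.Agent.Lib.Helper6.Card Cfsg.Agent.Lib.Helper6.Rad Cfsg.Agent.Lib.Helper1

universe u

theorem radClass_solvable {G : Type*} [Group G] :
    RadClass (fun N : Subgroup G => Group.IsSolvable ↥N) where
  bot := inferInstance
  cj := fun g N h => by
    haveI := h
    exact Group.isSolvable_of_surjective
      (f := ((MulAut.conj g).toMonoidHom.subgroupMap N)) (MonoidHom.subgroupMap_surjective _ _)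
  sup := fun M N hM hN h1 _ => Cfsg.Agent.Lib.Helper9.Sig.solvable_sup hM hN h1

theorem relIndex_dvd_index_of_normal' {G : Type*} [Group G] [Finite G] (C N : Subgroup G)
    [hN : N.Normal] : C.relIndex N ∣ C.index := by
  have h1 : Nat.card (N ⊔ C : Subgroup G) * Nat.card (N ⊓ C : Subgroup G)
      = Nat.card N * Nat.card C :=
    card_sup_mul (M := N) (N := C) (by
      have : Nz N = ⊤ := Subgroup.normalizer_eq_top_iff.mpr hN
      rw [this]; exact le_top)
  have h2 := card_mul_relIndex (H := C ⊓ N) (K := N) inf_le_right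
  rw [Subgroup.inf_relIndex_right] at h2
  have h3 := card_mul_relIndex (H := C) (K := N ⊔ C) le_sup_right
  have h4 : C.relIndex N = C.relIndex (N ⊔ C) := by
    have hpos : 0 < Nat.card (C ⊓ N : Subgroup G) * Nat.card C :=
      Nat.mul_pos Nat.card_pos Nat.card_pos
    apply Nat.eq_of_mul_eq_mul_left hpos
    rw [inf_comm] at h1
    calc Nat.card (C ⊓ N : Subgroup G) * Nat.card C * C.relIndex N
        = (Nat.card (C ⊓ N : Subgroup G) * C.relIndex N) * Nat.card C := by ring
      _ = Nat.card N * Nat.card C := by rw [h2]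
      _ = Nat.card (N ⊔ C : Subgroup G) * Nat.card (C ⊓ N : Subgroup G) := h1.symm
      _ = (Nat.card C * C.relIndex (N ⊔ C)) * Nat.card (C ⊓ N : Subgroup G) := by rw [h3]
      _ = Nat.card (C ⊓ N : Subgroup G) * Nat.card C * C.relIndex (N ⊔ C) := by ring
  rw [h4]
  exact Subgroup.relIndex_dvd_index_of_le le_sup_right

theorem two_primes (p n : ℕ) (hp : p.Prime) (hn : n ≠ 0)
    (h2 : ¬ ∃ r₁ r₂ : ℕ, r₁.Prime ∧ r₂.Prime ∧ r₁ ≠ r₂ ∧ p ≠ r₁ ∧ p ≠ r₂ ∧ r₁ ∣ n ∧ r₂ ∣ n) :
    ∃ q a b : ℕ, q.Prime ∧ n = p ^ a * q ^ b := by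
  obtain ⟨a, m, hm, hnm⟩ := Nat.exists_eq_pow_mul_and_not_dvd hn p hp.ne_one
  by_cases hm1 : m = 1
  · exact ⟨2, a, 0, Nat.prime_two, by rw [hnm, hm1, pow_zero]⟩
  have hm0 : m ≠ 0 := by rintro rfl; exact hm (dvd_zero p)
  have hq := Nat.minFac_prime hm1
  have hqm := Nat.minFac_dvd m
  obtain ⟨b, m', hm', hmm⟩ := Nat.exists_eq_pow_mul_and_not_dvd hm0 m.minFac hq.ne_one
  by_cases hm1' : m' = 1
  · exact ⟨m.minFac, a, b, hq, by rw [hnm]; conv_lhs => rw [hmm, hm1', mul_one]⟩
  exfalso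
  have hq' := Nat.minFac_prime hm1'
  have hqm' := Nat.minFac_dvd m'
  have hd' : m'.minFac ∣ m := hqm'.trans ⟨_, by rw [mul_comm]; exact hmm⟩
  have hmn : m ∣ n := ⟨_, by rw [mul_comm]; exact hnm⟩
  refine h2 ⟨m.minFac, m'.minFac, hq, hq', ?_, ?_, ?_, hqm.trans hmn, hd'.trans hmn⟩
  · intro h
    exact hm' (h ▸ hqm')
  · intro h
    exact hm (h ▸ hqm)
  · intro h
    exact hm (h ▸ hd')

theorem mem_solRad_aux (p : ℕ) (hp : p.Prime) (n : ℕ) :
    ∀ (G : Type u) [Group G] [Finite G], Nat.card G = n → ∀ (x : G) (k : ℕ),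
      (Subgroup.centralizer ({x} : Set G)).index = p ^ k →
      x ∈ Rd (fun N : Subgroup G => Group.IsSolvable ↥N) ⊤ := by
  induction n using Nat.strong_induction_on with
  | _ n ih =>
    intro G _ _ hn x k hx
    have claim : ∀ (N : Subgroup G), N.Normal → N ≠ ⊤ → ∀ y ∈ N,
        (∃ k', (Subgroup.centralizer ({y} : Set G)).index = p ^ k') →
        y ∈ Rd (fun N : Subgroup G => Group.IsSolvable ↥N) ⊤ := by
      intro N hN hNt y hy ⟨k', hk'⟩
      haveI := hN
      have hlt : Nat.card N < n := by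
        rw [← hn, ← Subgroup.card_top (G := G)]
        exact Cfsg.Agent.Lib.Helper1.card_lt_of_lt (lt_top_iff_ne_top.mpr hNt)
      have hidx : ∃ k'', (Subgroup.centralizer ({(⟨y, hy⟩ : N)} : Set N)).index = p ^ k'' := by
        have e : Subgroup.centralizer ({(⟨y, hy⟩ : N)} : Set N)
            = (Subgroup.centralizer ({y} : Set G)).subgroupOf N := by
          ext z
          simp [Subgroup.mem_centralizer_singleton_iff, Subgroup.mem_subgroupOf, Subtype.ext_iff]
        rw [e]
        have h3 : (Subgroup.centralizer ({y} : Set G)).relIndex N ∣ p ^ k' :=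
          hk' ▸ relIndex_dvd_index_of_normal' _ N
        obtain ⟨k'', -, h⟩ := (Nat.dvd_prime_pow hp).mp h3
        exact ⟨k'', h⟩
      obtain ⟨k'', hk''⟩ := hidx
      have h1 := ih _ hlt N rfl ⟨y, hy⟩ k'' hk''
      have hR := Rd_mem (radClass_solvable (G := N)) (⊤ : Subgroup N)
      set R := Rd (fun A : Subgroup N => Group.IsSolvable ↥A) ⊤ with hRdef
      have hRn : R.Normal := Subgroup.normalizer_eq_top_iff.mp (top_le_iff.mp hR.1)
      have hsn : SN (R.map N.subtype) ⊤ :=
        SN.step (Subgroup.map_subtype_le R) (normal_iff_map'.mp hRn)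
          (SN.of_normal le_top (by
            have : Nz N = ⊤ := Subgroup.normalizer_eq_top_iff.mpr hN
            rw [this]))
      have hsol : Group.IsSolvable ↥(R.map N.subtype) := by
        haveI := hR.2
        exact Group.isSolvable_of_surjective
          (f := (N.subtype.subgroupMap R)) (MonoidHom.subgroupMap_surjective _ _)
      exact le_Rd_of_sn radClass_solvable hsn hsol (Subgroup.mem_map.mpr ⟨⟨y, hy⟩, h1, rfl⟩)
    by_cases h2 : ∃ r₁ r₂ : ℕ, r₁.Prime ∧ r₂.Prime ∧ r₁ ≠ r₂ ∧ p ≠ r₁ ∧ p ≠ r₂ ∧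
        r₁ ∣ Nat.card G ∧ r₂ ∣ Nat.card G
    · obtain ⟨r₁, r₂, hr₁, hr₂, hne, hp1, hp2, hd1, hd2⟩ := h2
      obtain ⟨N₁, hN₁, hN₁t, j₁, hj₁⟩ := exists_normal p r₁ k hp hr₁ hp1 hd1 x hx
      obtain ⟨N₂, hN₂, hN₂t, j₂, hj₂⟩ := exists_normal p r₂ k hp hr₂ hp2 hd2 x hx
      have hpowidx : ∀ m : ℕ, ∃ k', (Subgroup.centralizer ({x ^ m} : Set G)).index = p ^ k' := by
        intro m
        have hle : Subgroup.centralizer ({x} : Set G) ≤ Subgroup.centralizer ({x ^ m} : Set G) := by
          intro z hz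
          rw [Subgroup.mem_centralizer_singleton_iff] at hz ⊢
          exact ((show Commute z x from hz).pow_right m)
        have h3 := Subgroup.index_dvd_of_le hle
        rw [hx] at h3
        obtain ⟨k', -, h⟩ := (Nat.dvd_prime_pow hp).mp h3
        exact ⟨k', h⟩
      have m1 := claim N₁ hN₁ hN₁t _ hj₁ (hpowidx _)
      have m2 := claim N₂ hN₂ hN₂t _ hj₂ (hpowidx _)
      exact Cfsg.Agent.Lib.Helper3.S4Red.mem_of_coprime_pow
        (Nat.Coprime.pow _ _ ((Nat.coprime_primes hr₁ hr₂).mpr hne)) m1 m2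
    · obtain ⟨q, a, b, hq, hab⟩ := two_primes p (Nat.card G) hp Nat.card_pos.ne' h2
      haveI : Group.IsSolvable G :=
        Cfsg.Agent.Lib.Helper7.CharBurnside.burnside_paqb p q a b hp hq hab
      have hts : Group.IsSolvable ↥(⊤ : Subgroup G) := inferInstance
      exact le_Rd (P := fun N : Subgroup G => Group.IsSolvable ↥N) le_rfl Subgroup.le_normalizer
        hts (Subgroup.mem_top x)

theorem kazarin {G : Type*} [Group G] [Finite G] {p : ℕ} (hp : p.Prime) (x : G) (k : ℕ)
    (hx : (Subgroup.centralizer ({x} : Set G)).index = p ^ k) :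
    Group.IsSolvable ↥(Subgroup.normalClosure ({x} : Set G)) := by
  have h1 := mem_solRad_aux p hp _ G rfl x k hx
  have hR := Rd_mem (radClass_solvable (G := G)) (⊤ : Subgroup G)
  haveI hRn : (Rd (fun A : Subgroup G => Group.IsSolvable ↥A) ⊤).Normal :=
    Subgroup.normalizer_eq_top_iff.mp (top_le_iff.mp hR.1)
  exact isSolvable_of_le (Subgroup.normalClosure_le_normal (Set.singleton_subset_iff.mpr h1)) hR.2

theorem commute_of_pCore_eq_bot {G : Type*} [Group G] [Finite G] {p : ℕ} [hp : Fact p.Prime]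
    (hO : Cfsg.pCore p G = ⊥) (x : G) (k : ℕ)
    (hx : (Subgroup.centralizer ({x} : Set G)).index = p ^ k) :
    ∀ a ∈ Subgroup.normalClosure ({x} : Set G), ∀ b ∈ Subgroup.normalClosure ({x} : Set G),
      a * b = b * a := by
  have hsol := kazarin hp.out x k hx
  have hF : Cfsg.fittingSubgroup G ≤ Subgroup.centralizer ({x} : Set G) := by
    rw [fitting_eq_iSup_pCore]
    apply iSup_le
    intro q
    by_cases hq : (q : ℕ) = p
    · rw [hq, hO]; exact bot_le
    · haveI := pCore_normal (G := G) (q : ℕ)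
      haveI : Fact (q : ℕ).Prime := ⟨q.2⟩
      have h1 := relIndex_dvd_index_of_normal' (Subgroup.centralizer ({x} : Set G))
        (Cfsg.pCore (q : ℕ) G)
      rw [hx] at h1
      have h2 : (Subgroup.centralizer ({x} : Set G)).relIndex (Cfsg.pCore (q : ℕ) G) ∣
          Nat.card (Cfsg.pCore (q : ℕ) G) := Subgroup.relIndex_dvd_card _ _
      obtain ⟨e, he⟩ := (IsPGroup.iff_card).mp (pCore_isPGroup (G := G) (q : ℕ))
      rw [he] at h2
      have h3 : (p ^ k).Coprime ((q : ℕ) ^ e) :=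
        Nat.Coprime.pow _ _ ((Nat.coprime_primes hp.out q.2).mpr (fun h => hq h.symm))
      exact Subgroup.relIndex_eq_one.mp (Nat.eq_one_of_dvd_coprimes h3 h1 h2)
  haveI := fitting_normal (G := G)
  have hxC : x ∈ Subgroup.centralizer (Cfsg.fittingSubgroup G : Set G) := by
    rw [Subgroup.mem_centralizer_iff]
    intro f hf
    have := Subgroup.mem_centralizer_singleton_iff.mp (hF hf)
    exact this
  have hTC : Subgroup.normalClosure ({x} : Set G) ≤
      Subgroup.centralizer (Cfsg.fittingSubgroup G : Set G) :=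
    Subgroup.normalClosure_le_normal (Set.singleton_subset_iff.mpr hxC)
  have hTF := le_fitting_of_le_centralizer_aux _ (Subgroup.normalClosure ({x} : Set G)) rfl
    Subgroup.normalClosure_normal hsol hTC
  intro a ha b hb
  exact ((Subgroup.mem_centralizer_iff.mp (hTC ha)) b (hTF hb)).symm

end Cfsg.Agent.Lib.Helper6.Kaz
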