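import Mathlib
import Cfsg.Prelude.Def_LocalStructure
import Cfsg.Agent.Lib.Helper6.PRed

set_option autoImplicit false
set_option linter.unusedSectionVars false
set_option linter.dupNamespace false

/-! Weakly closed subgroups. -/

namespace Cfsg.Agent.Lib.Helper6.WClosed

open Cfsg.Agent.Lib.Helper6.Basic Cfsg.Agent.Lib.Helper6.Subn Cfsg.Agent.Lib.Helper6.Quasi
  Cfsg.Agent.Lib.Helper6.Comp Cfsg.Agent.Lib.Helper6.Rad Cfsg.Agent.Lib.Helper6.Nil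
  Cfsg.Agent.Lib.Helper6.FStar Cfsg.Agent.Lib.Helper6.FStar2 Cfsg.Agent.Lib.Helper6.PAct
  Cfsg.Agent.Lib.Helper6.CharP Cfsg.Agent.Lib.Helper6.Ores Cfsg.Agent.Lib.Helper6.Trace
  Cfsg.Agent.Lib.Helper6.PRed
open scoped commutatorElement Pointwise

variable {G : Type*} [Group G]

/-- `Q` is a weakly closed subgroup of `K` -/
def WC (p : ℕ) (Q K : Subgroup G) : Prop :=
  ∀ R : Subgroup G, IsPGroup p ↥R → R ≤ K → Q ≤ R → ∀ g ∈ K, cj g Q ≤ R → cj g Q = Q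

theorem WC.mono {p : ℕ} {Q K H : Subgroup G} (h : WC p Q H) (hK : K ≤ H) : WC p Q K :=
  fun R hR hRK hQR g hg hgR => h R hR (hRK.trans hK) hQR g (hK hg) hgR

theorem exists_syl_ge [Finite G] {p : ℕ} [Fact p.Prime] {Q K : Subgroup G} (hQ : IsPGroup p ↥Q)
    (hQK : Q ≤ K) : ∃ S, Syl p S K ∧ Q ≤ S := by
  obtain ⟨S₀, hS₀⟩ := exists_syl p K
  obtain ⟨k, hk, hk2⟩ := hS₀.exists_le_cj hQ hQK
  refine ⟨cj k S₀, ?_, hk2⟩
  have := hS₀.cj k
  rwa [cj_eq_self_of_mem hk] at this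

theorem wc_of_syl [Finite G] {p : ℕ} [Fact p.Prime] {Q T K : Subgroup G} (hT : Syl p T K)
    (h : ∀ g ∈ K, cj g Q ≤ T → cj g Q = Q) : WC p Q K := by
  intro R hR hRK hQR g hg hgR
  obtain ⟨k, hk, hk2⟩ := hT.exists_le_cj hR hRK
  have h1 : cj k⁻¹ Q = Q := by
    apply h _ (K.inv_mem hk)
    rw [cj_le_iff, inv_inv]
    exact hQR.trans hk2
  have h2 : cj (k⁻¹ * g) Q = Q := by
    apply h _ (K.mul_mem (K.inv_mem hk) hg)
    rw [← cj_cj, cj_le_iff, inv_inv]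
    exact hgR.trans hk2
  rw [← cj_cj, cj_eq_iff, inv_inv] at h2
  rw [h2]
  rw [cj_eq_iff, inv_inv] at h1
  exact h1.symm

theorem wc_top_bridge [Finite G] {p : ℕ} [Fact p.Prime] {Q : Subgroup G} (hQ : IsPGroup p ↥Q) :
    Cfsg.IsWeaklyClosedSubgroup p Q ↔ WC p Q ⊤ := by
  constructor
  · rintro ⟨T, _, h⟩
    exact wc_of_syl (syl_of_sylow T) fun g _ hg => h g hg
  · intro h
    obtain ⟨T, hT⟩ := hQ.exists_le_sylow
    exact ⟨T, hT, fun g hg => h T T.2 le_top hT g (Subgroup.mem_top g) hg⟩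

theorem cj_subgroupOf {K : Subgroup G} (g : ↥K) (Q : Subgroup G) :
    cj g (Q.subgroupOf K) = (cj (g : G) Q).subgroupOf K := by
  ext x
  rw [mem_cj, Subgroup.mem_subgroupOf, Subgroup.mem_subgroupOf, mem_cj]
  rfl

theorem wc_subgroupOf_iff {p : ℕ} {Q K : Subgroup G} (hQK : Q ≤ K) :
    WC p (Q.subgroupOf K) (⊤ : Subgroup ↥K) ↔ WC p Q K := by
  constructor
  · intro h R hR hRK hQR g hg hgR
    have := h (R.subgroupOf K) hR.comap_subtype le_top (Subgroup.comap_mono hQR) ⟨g, hg⟩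
      (Subgroup.mem_top _) (by rw [cj_subgroupOf]; exact Subgroup.comap_mono hgR)
    rw [cj_subgroupOf] at this
    have h2 := congrArg (Subgroup.map K.subtype) this
    rwa [Subgroup.map_subgroupOf_eq_of_le (hgR.trans hRK), Subgroup.map_subgroupOf_eq_of_le hQK]
      at h2
  · intro h R hR _ hQR g _ hgR
    have hQR' : Q ≤ R.map K.subtype := by
      rw [← Subgroup.map_subgroupOf_eq_of_le hQK]; exact Subgroup.map_mono hQR
    have hc : cj (g : G) Q ≤ K := by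
      have h1 : cj (g : G) Q ≤ cj (g : G) K := cj_mono hQK
      rwa [cj_eq_self_of_mem g.2] at h1
    have := h (R.map K.subtype) (hR.map _) (Subgroup.map_subtype_le R) hQR' g g.2 (by
      rw [cj_subgroupOf] at hgR
      rw [← Subgroup.map_subgroupOf_eq_of_le hc]; exact Subgroup.map_mono hgR)
    rw [cj_subgroupOf, this]

theorem wc_bridge [Finite G] {p : ℕ} [Fact p.Prime] {Q K : Subgroup G} (hQ : IsPGroup p ↥Q)
    (hQK : Q ≤ K) : Cfsg.IsWeaklyClosedSubgroup p (Q.subgroupOf K) ↔ WC p Q K := by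
  have hQ' : IsPGroup p ↥(Q.subgroupOf K) := hQ.comap_subtype
  rw [wc_top_bridge hQ', wc_subgroupOf_iff hQK]

theorem WC.conj [Finite G] {p : ℕ} [Fact p.Prime] {Q K H : Subgroup G} (h : WC p Q H)
    (hQ : IsPGroup p ↥Q) (hQK : Q ≤ K) (hKH : K ≤ H) {g : G} (hg : g ∈ H) (hgK : cj g Q ≤ K) :
    ∃ k ∈ K, cj g Q = cj k Q := by
  obtain ⟨S, hS, hQS⟩ := exists_syl_ge hQ hQK
  obtain ⟨k, hk, hk2⟩ := hS.exists_le_cj (isPGroup_cj hQ g) hgK
  refine ⟨k, hk, ?_⟩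
  have := h S hS.isPGroup (hS.le.trans hKH) hQS (k⁻¹ * g) (H.mul_mem (H.inv_mem (hKH hk)) hg) (by
    rw [← cj_cj, cj_le_iff, inv_inv]; exact hk2)
  rwa [← cj_cj, cj_eq_iff, inv_inv] at this

/-- `p`-overgroups of `Q` normalize `Q` -/
theorem WC.le_Nz {p : ℕ} {Q K R : Subgroup G} (h : WC p Q K) (hR : IsPGroup p ↥R) (hRK : R ≤ K)
    (hQR : Q ≤ R) : R ≤ Nz Q := by
  intro r hr
  rw [← cj_eq_self_iff]
  apply h R hR hRK hQR r (hRK hr)
  rw [← cj_eq_self_of_mem hr]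
  exact cj_mono hQR

theorem WC.Nz_le_Nz {p : ℕ} {Q K R : Subgroup G} (h : WC p Q K) (hR : IsPGroup p ↥R)
    (hRK : R ≤ K) (hQR : Q ≤ R) : K ⊓ Nz R ≤ Nz Q := by
  intro r hr
  rw [← cj_eq_self_iff]
  apply h R hR hRK hQR r hr.1
  rw [← cj_eq_self_iff.mpr hr.2]
  exact cj_mono hQR

/-- a `p`-subgroup normalized by `Q` normalizes `Q` -/
theorem WC.le_Nz_of_le_Nz {p : ℕ} {Q K R : Subgroup G} (h : WC p Q K) (hQ : IsPGroup p ↥Q)
    (hR : IsPGroup p ↥R) (hQK : Q ≤ K) (hRK : R ≤ K) (hQR : Q ≤ Nz R) : R ≤ Nz Q :=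
  le_sup_left.trans (h.le_Nz (hR.to_sup_of_normal_left' hQ hQR) (sup_le hRK hQK) le_sup_right)

theorem WC.cj {p : ℕ} {Q K : Subgroup G} (h : WC p Q K) (x : G) : WC p (cj x Q) (cj x K) := by
  intro R hR hRK hQR g hg hgR
  have h1 := h (Basic.cj x⁻¹ R) (isPGroup_cj hR _) (by rwa [cj_le_iff, inv_inv])
    (by rwa [← cj_le_iff]) (x⁻¹ * g * x) (by rwa [mem_cj] at hg) (by
      rw [← cj_le_iff (g := x), cj_cj]
      have e : x * (x⁻¹ * g * x) = g * x := by group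
      rw [e, ← cj_cj]
      exact hgR)
  have h2 := congrArg (Basic.cj x) h1
  rw [cj_cj] at h2
  have e : x * (x⁻¹ * g * x) = g * x := by group
  rw [e, ← cj_cj] at h2
  exact h2

theorem map_cj {G' : Type*} [Group G'] (f : G →* G') (g : G) (Q : Subgroup G) :
    (cj g Q).map f = cj (f g) (Q.map f) := by
  ext x
  constructor
  · rintro ⟨_, ⟨y, hy, rfl⟩, rfl⟩
    exact ⟨f y, Subgroup.mem_map_of_mem f hy, by simp⟩
  · rintro ⟨_, ⟨y, hy, rfl⟩, rfl⟩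
    exact ⟨g * y * g⁻¹, ⟨y, hy, by simp⟩, by simp⟩

/-- all conjugates of `Q` lie in every subnormal subgroup containing `Q` -/
theorem WC.NC_le_of_sn [Finite G] {p : ℕ} [Fact p.Prime] {Q K Y : Subgroup G} (h : WC p Q K)
    (hQ : IsPGroup p ↥Q) (hY : SN Y K) (hQY : Q ≤ Y) : NC Q K ≤ Y := by
  induction hY with
  | refl K => exact NC_le hQY Subgroup.le_normalizer
  | @step Y M K a b c ih =>
    have h1 := ih h (hQY.trans a)
    apply sSup_le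
    rintro _ ⟨k, hk, rfl⟩
    obtain ⟨m, hm, hm2⟩ := h.conj hQ (hQY.trans a) c.le hk ((cj_le_NC hk).trans h1)
    rw [hm2, ← cj_eq_self_iff.mpr (b hm)]
    exact cj_mono hQY

theorem weakClosure_eq [Finite G] {p : ℕ} [Fact p.Prime] {Q K : Subgroup G} (h : WC p Q ⊤)
    (hQ : IsPGroup p ↥Q) (hQK : Q ≤ K) : Cfsg.weakClosure Q K = NC Q K := by
  unfold Cfsg.weakClosure
  apply le_antisymm
  · apply iSup_le
    rintro ⟨g, hg⟩
    obtain ⟨k, hk, hk2⟩ := h.conj hQ hQK le_top (Subgroup.mem_top g) hg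
    have : cj g Q ≤ NC Q K := by rw [hk2]; exact cj_le_NC hk
    exact this
  · apply sSup_le
    rintro _ ⟨k, hk, rfl⟩
    have hk2 : cj k Q ≤ K := by
      have h1 : cj k Q ≤ cj k K := cj_mono hQK
      rwa [cj_eq_self_of_mem hk] at h1
    exact le_iSup (fun g : {g : G // Q.map (MulAut.conj g).toMonoidHom ≤ K} =>
      Q.map (MulAut.conj (g : G)).toMonoidHom) ⟨k, hk2⟩

/-! ### stabilizers of chains, subnormality in nilpotent groups, characteristic `p` -/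

/-- the elements normalizing `B` and centralizing `A` modulo `B` -/
def Stb (A B : Subgroup G) : Subgroup G where
  carrier := {g | g ∈ Nz B ∧ ∀ a ∈ A, ⁅a, g⁆ ∈ B}
  one_mem' := ⟨Subgroup.one_mem _, fun a _ => by simp⟩
  mul_mem' := by
    rintro g h ⟨hg1, hg2⟩ ⟨hh1, hh2⟩
    refine ⟨Subgroup.mul_mem _ hg1 hh1, fun a ha => ?_⟩
    have e : ⁅a, g * h⁆ = ⁅a, g⁆ * (g * ⁅a, h⁆ * g⁻¹) := by
      simp only [commutatorElement_def]; group
    rw [e]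
    exact B.mul_mem (hg2 a ha) ((Subgroup.mem_normalizer_iff.mp hg1 _).mp (hh2 a ha))
  inv_mem' := by
    rintro g ⟨hg1, hg2⟩
    refine ⟨Subgroup.inv_mem _ hg1, fun a ha => ?_⟩
    have e : ⁅a, g⁻¹⁆ = g⁻¹ * ⁅a, g⁆⁻¹ * g⁻¹⁻¹ := by
      simp only [commutatorElement_def]; group
    rw [e]
    exact (Subgroup.mem_normalizer_iff.mp (Subgroup.inv_mem _ hg1) _).mp (B.inv_mem (hg2 a ha))

theorem mem_Stb {A B : Subgroup G} {g : G} : g ∈ Stb A B ↔ g ∈ Nz B ∧ ∀ a ∈ A, ⁅a, g⁆ ∈ B :=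
  Iff.rfl

theorem le_Stb {A B X : Subgroup G} (h1 : X ≤ Nz B) (h2 : ⁅A, X⁆ ≤ B) : X ≤ Stb A B :=
  fun _ hx => ⟨h1 hx, fun _ ha => h2 (Subgroup.commutator_mem_commutator ha hx)⟩

theorem le_Nz_Stb {D A B : Subgroup G} (hA : D ≤ Nz A) (hB : D ≤ Nz B) : D ≤ Nz (Stb A B) := by
  apply le_Nz_of_cj_le
  rintro d hd _ ⟨g, ⟨hg1, hg2⟩, rfl⟩
  show d * g * d⁻¹ ∈ Stb A B
  refine ⟨Subgroup.mul_mem _ (Subgroup.mul_mem _ (hB hd) hg1) (Subgroup.inv_mem _ (hB hd)),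
    fun a ha => ?_⟩
  have e : ⁅a, d * g * d⁻¹⁆ = d * ⁅d⁻¹ * a * d⁻¹⁻¹, g⁆ * d⁻¹ := by
    simp only [commutatorElement_def]; group
  rw [e]
  apply (Subgroup.mem_normalizer_iff.mp (hB hd) _).mp
  apply hg2
  exact (Subgroup.mem_normalizer_iff.mp (Subgroup.inv_mem _ (hA hd)) _).mp ha

/-- `p'`-elements stabilizing `A ≥ B ≥ 1` centralize `A` -/
theorem mem_Cz_of_mem_Stb {p : ℕ} {A B : Subgroup G} {x : G} (hB : IsPGroup p ↥B)
    (hx : (orderOf x).Coprime p) (h1 : x ∈ Stb A B) (h2 : x ∈ Cz B) : x ∈ Cz A :=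
  mem_Cz_of_step hB hx h2 h1.2

theorem sn_of_nilpotent [Finite G] {P : Subgroup G} (hP : Group.IsNilpotent ↥P) :
    ∀ (n : ℕ) (U : Subgroup G), U ≤ P → Nat.card P - Nat.card U ≤ n → SN U P := by
  intro n
  induction n with
  | zero =>
    intro U hU hn
    have : U = P := Subgroup.eq_of_le_of_card_ge hU (by omega)
    rw [this]; exact SN.refl _
  | succ n ih =>
    intro U hU hn
    by_cases he : U = P
    · rw [he]; exact SN.refl _
    · obtain ⟨s, hs1, hs2, hs3⟩ := exists_mem_Nz_of_lt hP (lt_of_le_of_ne hU he)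
      have hlt : U < P ⊓ Nz U := by
        apply lt_of_le_of_ne (le_inf hU Subgroup.le_normalizer)
        intro h
        apply hs2
        rw [h]
        exact ⟨hs1, hs3⟩
      have h1 := card_lt_of_lt hlt
      have h2 : Nat.card ↥(P ⊓ Nz U : Subgroup G) ≤ Nat.card P := Subgroup.card_le_of_le inf_le_left
      exact SN.step hlt.le inf_le_right (ih _ inf_le_left (by omega))

theorem SN.of_nilpotent [Finite G] {U P : Subgroup G} (hP : Group.IsNilpotent ↥P) (h : U ≤ P) :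
    SN U P := sn_of_nilpotent hP _ U h le_rfl

theorem ChP.Cz_step [Finite G] {p : ℕ} [Fact p.Prime] {U U₁ : Subgroup G}
    (hU₁ : IsPGroup p ↥U₁) (h1 : U ≤ U₁) (h2 : U₁ ≤ Nz U) (hc : ChP p (Cz U)) :
    ChP p (Cz U₁) := by
  have h3 : U₁ ≤ Nz (Cz U) := h2.trans (Nz_le_Nz_Cz U)
  have hX : ChP p (Cz U ⊔ U₁) :=
    ChP.of_pquot le_sup_left (sup_le Subgroup.le_normalizer h3) hc
      fun x hx => exists_pow_mem_of_sup hU₁ h3 hx
  have hN : ChP p ((Cz U ⊔ U₁) ⊓ Nz U₁) := hX.normalizer hU₁ le_sup_right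
  apply hN.sn
  exact SN.of_normal (le_inf ((Cz_anti h1).trans le_sup_left) (Cz_le_Nz U₁))
    (inf_le_right.trans (Nz_le_Nz_Cz U₁))

theorem ChP.Cz_of_le [Finite G] {p : ℕ} [Fact p.Prime] {U P : Subgroup G} (hP : IsPGroup p ↥P)
    (h : U ≤ P) (hc : ChP p (Cz U)) : ChP p (Cz P) := by
  have hsn : SN U P := SN.of_nilpotent hP.isNilpotent h
  induction hsn with
  | refl K => exact hc
  | @step U M K a b c ih => exact ih hP c.le (ChP.Cz_step (hP.to_le c.le) a b hc)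

theorem ChP.Nz_of_Cz [Finite G] {p : ℕ} [Fact p.Prime] {P : Subgroup G} (hP : IsPGroup p ↥P)
    (hc : ChP p (Cz P)) : ChP p (Nz P) := by
  have hPO : P ≤ Op p (Nz P) := le_Op_of_sn (SN.of_normal Subgroup.le_normalizer le_rfl) hP
  have hn : Nz P ≤ Nz (Nz P ⊓ Cz (Op p (Nz P))) :=
    le_Nz_inf Subgroup.le_normalizer ((le_Nz_Op p _).trans (Nz_le_Nz_Cz _))
  have hX : ChP p (Nz P ⊓ Cz (Op p (Nz P))) := by
    apply hc.sn
    exact SN.of_normal (inf_le_right.trans (Cz_anti hPO)) ((Cz_le_Nz P).trans hn)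
  have h1 : Op p (Nz P ⊓ Cz (Op p (Nz P))) ≤ Op p (Nz P) := Op_sn (SN.of_normal inf_le_left hn)
  intro x hx
  exact h1 (hX ⟨hx, Cz_anti h1 hx.2⟩)

/-- weakly closed self-centralizing subgroups in groups of characteristic `p` -/
theorem WC.charp [Finite G] {p : ℕ} [Fact p.Prime] {Q L H : Subgroup G} (h : WC p Q H)
    (hQ : IsPGroup p ↥Q) (hH : ChP p H) (hCQ : H ⊓ Cz Q ≤ Q) (hQL : Q ≤ L) (hLH : L ≤ H) :
    ⁅Q, H ⊓ Cz (Op p L)⁆ ≤ Q ⊓ Op p L ∧ IsPGroup p ↥(H ⊓ Cz (Op p L) : Subgroup G) ∧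
      ChP p L := by
  have hQH := hQL.trans hLH
  have hRQ : Op p H ≤ Nz Q :=
    h.le_Nz_of_le_Nz hQ (Op_isPGroup p H) hQH (Op_le p H) (hQH.trans (le_Nz_Op p H))
  have hLD : L ≤ Nz (H ⊓ Cz (Op p L)) :=
    le_Nz_inf (hLH.trans Subgroup.le_normalizer) ((le_Nz_Op p L).trans (Nz_le_Nz_Cz _))
  have hL0L : NC Q L ≤ L := NC_le hQL Subgroup.le_normalizer
  have hRL0 : Op p H ≤ Nz (NC Q L) := by
    apply le_Nz_sSup
    rintro _ ⟨l, hl, rfl⟩
    have h1 := cj_mono (g := l) hRQ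
    rwa [cj_normalizer, cj_eq_self_iff.mpr (le_Nz_Op p H (hLH hl))] at h1
  have h3 : Op p H ⊓ NC Q L ≤ Op p L :=
    le_Op_of_sn (SN.of_normal (inf_le_right.trans hL0L)
      (le_Nz_inf (hLH.trans (le_Nz_Op p H)) (le_Nz_NC Q L))) ((Op_isPGroup p H).to_le inf_le_left)
  have h4 : ⁅Op p H, NC Q L⁆ ≤ Op p H ⊓ Op p L := by
    have h5 : ⁅Op p H, NC Q L⁆ ≤ Op p H ⊓ NC Q L :=
      le_inf (comm_le_of_Nz' le_rfl ((hL0L.trans hLH).trans (le_Nz_Op p H)))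
        (comm_le_of_Nz hRL0 le_rfl)
    exact le_inf (h5.trans inf_le_left) (h5.trans h3)
  have hLR1 : L ≤ Nz (Op p H ⊓ Op p L) := le_Nz_inf (hLH.trans (le_Nz_Op p H)) (le_Nz_Op p L)
  have hDR1 : H ⊓ Cz (Op p L) ≤ Cz (Op p H ⊓ Op p L) := inf_le_right.trans (Cz_anti inf_le_right)
  have hW1 : ⁅NC Q L, H ⊓ Cz (Op p L)⁆ ≤ Stb (Op p H) (Op p H ⊓ Op p L) :=
    comm_le_of_Nz' (le_Stb (hL0L.trans hLR1) h4)
      (le_Nz_Stb (inf_le_left.trans (le_Nz_Op p H)) (hDR1.trans (Cz_le_Nz _)))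
  have hW2 : ⁅NC Q L, H ⊓ Cz (Op p L)⁆ ≤ Cz (Op p H ⊓ Op p L) :=
    comm_le_of_Nz ((hL0L.trans hLR1).trans (Nz_le_Nz_Cz _)) hDR1
  have hW3 : ⁅NC Q L, H ⊓ Cz (Op p L)⁆ ≤ H := by
    rw [Subgroup.commutator_le]
    intro a ha b hb
    exact H.mul_mem (H.mul_mem (H.mul_mem (hLH (hL0L ha)) hb.1) (H.inv_mem (hLH (hL0L ha))))
      (H.inv_mem hb.1)
  have hWp : IsPGroup p ↥⁅NC Q L, H ⊓ Cz (Op p L)⁆ := by
    apply isPGroup_of_p'_trivial
    intro x hx hxc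
    have h5 : x ∈ Cz (Op p H) :=
      mem_Cz_of_mem_Stb ((Op_isPGroup p H).to_le inf_le_left) hxc (hW1 hx) (hW2 hx)
    exact eq_one_of_pGroup_of_coprime (Op_isPGroup p H) (hH ⟨hW3 hx, h5⟩) hxc
  have hDQ : H ⊓ Cz (Op p L) ≤ Nz Q := by
    intro d hd
    rw [← cj_eq_self_iff]
    apply h (⁅NC Q L, H ⊓ Cz (Op p L)⁆ ⊔ Q)
      (hWp.to_sup_of_normal_left' hQ
        ((le_NC Q L).trans (Subgroup.normalizer_commutator_ge_left _ _)))
      (sup_le hW3 hQH) le_sup_right d hd.1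
    rintro _ ⟨q, hq, rfl⟩
    show d * q * d⁻¹ ∈ _
    have e : d * q * d⁻¹ = ⁅d, q⁆ * q := by rw [commutatorElement_def]; group
    rw [e]
    apply Subgroup.mul_mem _ _ ((le_sup_right (a := ⁅NC Q L, H ⊓ Cz (Op p L)⁆)) hq)
    apply (le_sup_left (a := ⁅NC Q L, H ⊓ Cz (Op p L)⁆) (b := Q))
    rw [Subgroup.commutator_comm]
    exact Subgroup.commutator_mem_commutator hd (le_NC Q L hq)
  have hDL0 : H ⊓ Cz (Op p L) ≤ Nz (NC Q L) := by
    apply le_Nz_sSup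
    rintro _ ⟨l, hl, rfl⟩
    have h1 := cj_mono (g := l) hDQ
    rwa [cj_normalizer, cj_eq_self_iff.mpr (hLD hl)] at h1
  have hWP : ⁅NC Q L, H ⊓ Cz (Op p L)⁆ ≤ Op p L :=
    le_Op_of_sn (SN.of_normal ((comm_le_of_Nz' le_rfl hDL0).trans hL0L)
      (le_Nz_comm (le_Nz_NC Q L) hLD)) hWp
  have hc1 : ⁅Q, H ⊓ Cz (Op p L)⁆ ≤ Q ⊓ Op p L :=
    le_inf (comm_le_of_Nz' le_rfl hDQ) ((Subgroup.commutator_mono (le_NC Q L) le_rfl).trans hWP)
  have hDp : IsPGroup p ↥(H ⊓ Cz (Op p L) : Subgroup G) := by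
    apply isPGroup_of_p'_trivial
    intro x hx hxc
    have h5 : x ∈ Cz Q := by
      apply mem_Cz_of_step (hQ.to_le (inf_le_left : Q ⊓ Op p L ≤ Q)) hxc
        (Cz_anti inf_le_right hx.2)
      intro a ha
      exact hc1 (Subgroup.commutator_mem_commutator ha hx)
    exact eq_one_of_pGroup_of_coprime hQ (hCQ ⟨hx.1, h5⟩) hxc
  refine ⟨hc1, hDp, ?_⟩
  exact le_Op_of_sn (SN.of_normal inf_le_left
    (le_Nz_inf Subgroup.le_normalizer ((le_Nz_Op p L).trans (Nz_le_Nz_Cz _))))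
    (hDp.to_le (inf_le_inf_right _ hLH))

end Cfsg.Agent.Lib.Helper6.WClosed
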