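import Mathlib
import Cfsg.Prelude.Def_LocalStructure
import Cfsg.Agent.Lib.Helper6.WClosed
import Cfsg.Agent.S2838

set_option autoImplicit false
set_option linter.unusedSectionVars false
set_option linter.dupNamespace false

/-! Large subgroups. -/

namespace Cfsg.Agent.Lib.Helper6.Large

open Cfsg.Agent.Lib.Helper6.Basic Cfsg.Agent.Lib.Helper6.Subn Cfsg.Agent.Lib.Helper6.Quasi
  Cfsg.Agent.Lib.Helper6.Comp Cfsg.Agent.Lib.Helper6.Rad Cfsg.Agent.Lib.Helper6.Nil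
  Cfsg.Agent.Lib.Helper6.FStar Cfsg.Agent.Lib.Helper6.FStar2 Cfsg.Agent.Lib.Helper6.PAct
  Cfsg.Agent.Lib.Helper6.CharP Cfsg.Agent.Lib.Helper6.Ores Cfsg.Agent.Lib.Helper6.Trace
  Cfsg.Agent.Lib.Helper6.PRed Cfsg.Agent.Lib.Helper6.WClosed
open scoped commutatorElement Pointwise

variable {G : Type*} [Group G]

theorem center_ne_bot [Finite G] {p : ℕ} [Fact p.Prime] {R : Subgroup G} (hR : IsPGroup p ↥R)
    (h : R ≠ ⊥) : R ⊓ Cz R ≠ ⊥ :=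
  inf_Cz_ne_bot hR.isNilpotent le_rfl Subgroup.le_normalizer h

theorem Nz_le_Nz_center (R : Subgroup G) : Nz R ≤ Nz (R ⊓ Cz R) :=
  le_Nz_inf le_rfl (Nz_le_Nz_Cz R)

theorem IsLarge.Nz_le [Finite G] {p : ℕ} [Fact p.Prime] {Q R : Subgroup G} (h : Cfsg.IsLarge Q)
    (hQ1 : Q ≠ ⊥) (hR : IsPGroup p ↥R) (hQR : Q ≤ R) : Nz R ≤ Nz Q := by
  have hR1 : R ≠ ⊥ := fun he => hQ1 (le_bot_iff.mp (he ▸ hQR))
  exact (Nz_le_Nz_center R).trans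
    (h.2 _ (inf_le_right.trans (Cz_anti hQR)) (center_ne_bot hR hR1))

theorem IsLarge.wc [Finite G] {p : ℕ} [Fact p.Prime] {Q : Subgroup G} (h : Cfsg.IsLarge Q)
    (hQ : IsPGroup p ↥Q) (hQ1 : Q ≠ ⊥) : WC p Q ⊤ := by
  rw [← wc_top_bridge hQ]
  exact (Cfsg.Agent.S2838.result Q hQ hQ1).2.mpr fun R hR hQR => IsLarge.Nz_le h hQ1 hR hQR

theorem IsLarge.cj {Q : Subgroup G} (h : Cfsg.IsLarge Q) (g : G) : Cfsg.IsLarge (cj g Q) := by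
  refine ⟨?_, ?_⟩
  · have := cj_mono (g := g) h.1
    rwa [cj_centralizer] at this
  · intro U hU hU1
    have h1 := h.2 (Basic.cj g⁻¹ U) (by
      rw [cj_le_iff, inv_inv, cj_centralizer]; exact hU) (by rwa [Ne, cj_eq_bot_iff])
    have h2 := cj_mono (g := g) h1
    rwa [cj_normalizer, cj_normalizer, cj_cj_inv] at h2

/-- a nontrivial `p`-subgroup normalized by `Q` has centralizer inside `N(Q)` -/
theorem IsLarge.Cz_le_Nz [Finite G] {p : ℕ} [Fact p.Prime] {Q Y : Subgroup G}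
    (h : Cfsg.IsLarge Q) (hQ : IsPGroup p ↥Q) (hY : IsPGroup p ↥Y) (hY1 : Y ≠ ⊥)
    (hQY : Q ≤ Nz Y) : Cz Y ≤ Nz Q := by
  have h1 : Y ⊓ Cz (Y ⊔ Q) ≠ ⊥ :=
    inf_Cz_ne_bot (hY.to_sup_of_normal_left' hQ hQY).isNilpotent le_sup_left
      (sup_le Subgroup.le_normalizer hQY) hY1
  have h2 := h.2 _ (inf_le_right.trans (Cz_anti le_sup_right)) h1
  exact ((Cz_anti inf_le_left).trans (Quasi.Cz_le_Nz _)).trans h2

theorem exists_mem_ne_one {U : Subgroup G} (h : U ≠ ⊥) : ∃ y ∈ U, y ≠ 1 := by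
  by_contra hcon
  push Not at hcon
  exact h (le_bot_iff.mp fun y hy => Subgroup.mem_bot.mpr (hcon y hy))

theorem WC.charp' [Finite G] {p : ℕ} [Fact p.Prime] {Q L : Subgroup G} (h : WC p Q ⊤)
    (hQ : IsPGroup p ↥Q) (hCQ : Cz Q ≤ Q) (hQL : Q ≤ L) {y : G} (hy : y ∈ Op p L)
    (hc : ChP p (Cz (Subgroup.zpowers y))) :
    ⁅Q, Cz (Op p L)⁆ ≤ Q ⊓ Op p L ∧ IsPGroup p ↥(Cz (Op p L)) ∧ ChP p L := by
  have h1 : ChP p (Cz (Op p L)) :=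
    ChP.Cz_of_le (Op_isPGroup p L) (Subgroup.zpowers_le.mpr hy) hc
  have h2 : ChP p (Nz (Op p L)) := ChP.Nz_of_Cz (Op_isPGroup p L) h1
  have := WC.charp (h.mono le_top) hQ h2 (inf_le_right.trans hCQ) hQL (le_Nz_Op p L)
  rwa [inf_eq_right.mpr (Cz_le_Nz _)] at this

theorem IsLarge.charp [Finite G] {p : ℕ} [Fact p.Prime] {Q L : Subgroup G} (h : Cfsg.IsLarge Q)
    (hQ : IsPGroup p ↥Q) (hQ1 : Q ≠ ⊥) (hQL : Q ≤ L) (hL : Op p L ≠ ⊥) :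
    ⁅Q, Cz (Op p L)⁆ ≤ Q ⊓ Op p L ∧ IsPGroup p ↥(Cz (Op p L)) ∧ ChP p L := by
  have h1 : Op p L ⊓ Cz (Op p L ⊔ Q) ≠ ⊥ :=
    inf_Cz_ne_bot ((Op_isPGroup p L).to_sup_of_normal_left' hQ
      (hQL.trans (le_Nz_Op p L))).isNilpotent le_sup_left
      (sup_le Subgroup.le_normalizer (hQL.trans (le_Nz_Op p L))) hL
  obtain ⟨y, hy, hy1⟩ := exists_mem_ne_one h1
  have hyQ : Subgroup.zpowers y ≤ Cz Q := Subgroup.zpowers_le.mpr (Cz_anti le_sup_right hy.2)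
  have hK : Cz (Subgroup.zpowers y) ≤ Nz Q :=
    (Quasi.Cz_le_Nz _).trans (h.2 _ hyQ (by rwa [Ne, Subgroup.zpowers_eq_bot]))
  have hQK : Q ≤ Op p (Cz (Subgroup.zpowers y)) :=
    le_Op_of_sn (SN.of_normal (le_Cz_comm.mp hyQ) hK) hQ
  apply WC.charp' (IsLarge.wc h hQ hQ1) hQ h.1 hQL hy.1
  intro x hx
  exact hQK (h.1 (Cz_anti hQK hx.2))

end Cfsg.Agent.Lib.Helper6.Large
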