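import Mathlib
import Cfsg.Agent.Lib.Helper6.Syl15

set_option autoImplicit false
set_option maxHeartbeats 400000
set_option linter.style.haveILetI false
set_option linter.unusedSectionVars false

namespace Cfsg.Agent.Lib.Helper6.Syl21

open Cfsg.Agent.Lib.Helper6.Syl15 (relIndex_dvd false_of_sylow_prime card_modEq_one
  sign_toPerm_eq_one card_sylow_of_dvd card_sylow_eq_one_of_normal card_lt_of_ne_top
  card_quot_lt_of_ne_bot)

universe u

variable {G : Type u} [Group G] [Finite G]

/-- abstract evaluation of the transfer -/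
theorem transfer_eq_pow_index (H : Subgroup G) {A : Type*} [CommGroup A] (ϕ : H →* A) (u : G)
    (c : A)
    (key : ∀ (a : G ⧸ H) (h : a.out⁻¹ * u ^ Function.minimalPeriod (u • ·) a * a.out ∈ H),
      ϕ ⟨_, h⟩ = c ^ Function.minimalPeriod (u • ·) a) :
    MonoidHom.transfer ϕ u = c ^ H.index := by
  classical
  letI : Fintype (Quotient (MulAction.orbitRel (Subgroup.zpowers u) (G ⧸ H))) := Fintype.ofFinite _
  rw [MonoidHom.transfer_eq_prod_quotient_orbitRel_zpowers_quot, H.index_eq_sum_minimalPeriod u,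
    ← Finset.prod_pow_eq_pow_sum]
  apply Finset.prod_congr rfl
  intro q _
  exact key q.out _

theorem false_of_normalizer_le [IsSimpleGroup G] (hG : ¬ IsMulCommutative G)
    (p : ℕ) [Fact p.Prime] (R : Sylow p G) (hR : Nat.card R = p)
    (hNC : Subgroup.normalizer ((R : Subgroup G) : Set G) ≤
      Subgroup.centralizer ((R : Subgroup G) : Set G)) : False := by
  have hp : p.Prime := Fact.out
  have hcomp := MonoidHom.ker_transferSylow_isComplement' R hNC
  have hcard := hcomp.card_mul_card
  rcases (MonoidHom.normal_ker (MonoidHom.transferSylow R hNC)).eq_bot_or_eq_top with h | h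
  · rw [h, Subgroup.card_bot, one_mul] at hcard
    apply hG
    have hcyc : IsCyclic G := isCyclic_of_prime_card (hcard.symm.trans hR)
    exact ⟨⟨fun a b => hcyc.commGroup.mul_comm a b⟩⟩
  · rw [h, Subgroup.card_top] at hcard
    have : Nat.card (R : Subgroup G) = 1 := by
      have h0 : 0 < Nat.card G := Nat.card_pos
      exact Nat.eq_of_mul_eq_mul_left h0 (by rw [hcard, mul_one])
    rw [hR] at this
    exact hp.one_lt.ne' this

theorem hom_trivial [IsSimpleGroup G] (hG : ¬ IsMulCommutative G) {A : Type*} [CommGroup A]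
    (V : G →* A) (g : G) : V g = 1 := by
  rcases (MonoidHom.normal_ker V).eq_bot_or_eq_top with h | h
  · exfalso
    apply hG
    have hinj : Function.Injective V := (MonoidHom.ker_eq_bot_iff V).mp h
    exact ⟨⟨fun a b => hinj (by rw [map_mul, map_mul, mul_comm])⟩⟩
  · have : g ∈ V.ker := h ▸ Subgroup.mem_top g
    exact this

theorem sign_of_order_two {Ω : Type*} [Fintype Ω] [DecidableEq Ω] (σ : Equiv.Perm Ω)
    (h2 : orderOf σ = 2) (hs : σ.support.card = 10) : Equiv.Perm.sign σ = -1 := by
  obtain ⟨n, hn⟩ := Equiv.Perm.cycleType_prime_order (σ := σ) (by rw [h2]; exact Nat.prime_two)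
  have h1 := Equiv.Perm.sum_cycleType σ
  rw [hn, h2, Multiset.sum_replicate, hs] at h1
  have h6 : n = 4 := by
    simp only [smul_eq_mul] at h1
    omega
  rw [Equiv.Perm.sign_of_cycleType, hn, h2, h6]
  simp
  decide

/-- The transfer contradiction: `u ∈ N(P)` a `2`-element acting on `P` as an involution, while
involutions centralizing a Sylow `p`-subgroup normalize no other one, and `n_p` is odd. -/
theorem transfer_contra [IsSimpleGroup G] (hG : ¬ IsMulCommutative G) (p : ℕ) [Fact p.Prime]
    (P : Sylow p G) (hodd : Odd (Nat.card (Sylow p G)))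
    (hK : ∀ k ∈ Subgroup.centralizer ((P : Subgroup G) : Set G), orderOf k = 2 →
      ∀ Q' : Sylow p G, k • Q' = Q' → Q' = P)
    {A : Type*} [CommGroup A] (N : Subgroup G)
    (hN : N = Subgroup.normalizer ((P : Subgroup G) : Set G))
    (ϕ : N →* A)
    (hker : ∀ x : N, ϕ x = 1 →
      (x : G) ∈ Subgroup.centralizer ((P : Subgroup G) : Set G))
    (huniq : ∀ a b : A, a ≠ 1 → b ≠ 1 → a * a = 1 → b * b = 1 → a = b)
    (u : N) (hu1 : ϕ u ≠ 1) (hu2 : ϕ u * ϕ u = 1)
    (a : ℕ) (hua : orderOf (u : G) = 2 ^ a) : False := by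
  set c := ϕ u with hc
  have hc2 : c ^ 2 = 1 := by rw [pow_two]; exact hu2
  have hceven : ∀ n : ℕ, Even n → c ^ n = 1 := by
    rintro n ⟨m, rfl⟩
    rw [← two_mul, pow_mul, hc2, one_pow]
  have ha0 : a ≠ 0 := by
    intro h
    rw [h, pow_zero, orderOf_eq_one_iff] at hua
    apply hu1
    have : u = 1 := Subtype.ext hua
    rw [hc, this, map_one]
  have hmemN : ∀ g : G, g • P = P → g ∈ N := fun g h => by
    rw [hN]; exact Sylow.smul_eq_iff_mem_normalizer.mp h
  have hsmulN : ∀ g : G, g ∈ N → g • P = P := fun g h => by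
    rw [hN] at h; exact Sylow.smul_eq_iff_mem_normalizer.mpr h
  have key' : ∀ (g : G) (L : ℕ), L ∣ 2 ^ a → ∀ h : g⁻¹ * (u : G) ^ L * g ∈ N,
      ϕ ⟨_, h⟩ = c ^ L := by
    intro g L hLd h
    by_cases hgN : g ∈ N
    · have : (⟨g⁻¹ * (u : G) ^ L * g, h⟩ : N) = (⟨g, hgN⟩ : N)⁻¹ * u ^ L * ⟨g, hgN⟩ := by
        apply Subtype.ext
        rfl
      rw [this, map_mul, map_mul, map_inv, map_pow, mul_comm, ← mul_assoc, mul_inv_cancel, one_mul]
    obtain ⟨j, hja, hj⟩ := (Nat.dvd_prime_pow Nat.prime_two).mp hLd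
    -- u ^ L fixes g • P
    have hfix : ((u : G) ^ L) • (g • P) = g • P := by
      have h1 : (g⁻¹ * (u : G) ^ L * g) • P = P := hsmulN _ h
      calc ((u : G) ^ L) • (g • P) = g • ((g⁻¹ * (u : G) ^ L * g) • P) := by
            rw [smul_smul, smul_smul]; congr 1; group
        _ = g • P := by rw [h1]
    by_cases ha1 : a = 1
    · -- u is an involution
      subst ha1
      rw [pow_one] at hua
      have huu : (u : G) ^ 2 = 1 := by rw [← hua, pow_orderOf_eq_one]
      have hj' : j = 0 ∨ j = 1 := by omega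
      rcases hj' with rfl | rfl
      · rw [pow_zero] at hj
        have hb : ϕ ⟨g⁻¹ * (u : G) ^ L * g, h⟩ * ϕ ⟨g⁻¹ * (u : G) ^ L * g, h⟩ = 1 := by
          rw [← map_mul]
          have : (⟨g⁻¹ * (u : G) ^ L * g, h⟩ : N) * ⟨g⁻¹ * (u : G) ^ L * g, h⟩ = 1 := by
            apply Subtype.ext
            change g⁻¹ * (u : G) ^ L * g * (g⁻¹ * (u : G) ^ L * g) = 1
            rw [hj, pow_one]
            calc g⁻¹ * (u : G) * g * (g⁻¹ * (u : G) * g) = g⁻¹ * ((u : G) ^ 2) * g := by
                  rw [pow_two]; group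
              _ = 1 := by rw [huu]; group
          rw [this, map_one]
        have hb1 : ϕ ⟨g⁻¹ * (u : G) ^ L * g, h⟩ ≠ 1 := by
          intro hcon
          have h1 := hker _ hcon
          have h2 : orderOf (g⁻¹ * (u : G) ^ L * g) = 2 := by
            rw [hj, pow_one]
            have : g⁻¹ * (u : G) * g = g⁻¹ * (u : G) * (g⁻¹)⁻¹ := by rw [inv_inv]
            rw [this]
            exact (orderOf_injective (MulAut.conj g⁻¹).toMonoidHom (MulAut.conj g⁻¹).injective
              (u : G)).trans hua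
          have h3 : (g⁻¹ * (u : G) ^ L * g) • (g⁻¹ • P) = g⁻¹ • P := by
            have hu : (u : G) • P = P := hsmulN _ u.2
            rw [hj, pow_one]
            calc (g⁻¹ * (u : G) * g) • (g⁻¹ • P) = g⁻¹ • ((u : G) • P) := by
                  rw [smul_smul, smul_smul]; congr 1; group
              _ = g⁻¹ • P := by rw [hu]
          have h4 := hK _ h1 h2 _ h3
          exact hgN (inv_mem_iff.mp (hmemN _ h4))
        have := huniq _ _ hb1 hu1 hb hu2
        rw [this, hj, pow_one]
      · rw [pow_one] at hj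
        have : (⟨g⁻¹ * (u : G) ^ L * g, h⟩ : N) = 1 := by
          apply Subtype.ext
          change g⁻¹ * (u : G) ^ L * g = 1
          rw [hj, huu]; group
        rw [this, map_one, hj, hc2]
    · -- a ≥ 2 : the involution of ⟨u⟩ centralizes P
      have ha2 : 2 ≤ a := by omega
      have hw1 : ϕ (u ^ 2 ^ (a - 1)) = 1 := by
        rw [map_pow]
        apply hceven
        exact (Nat.even_pow.mpr ⟨even_two, by omega⟩)
      have hwC := hker _ hw1
      have hw2 : orderOf ((u : G) ^ 2 ^ (a - 1)) = 2 := by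
        rw [orderOf_pow_of_dvd (by positivity) (by rw [hua]; exact pow_dvd_pow 2 (by omega)), hua]
        rw [Nat.pow_div (by omega) (by norm_num)]
        have : a - (a - 1) = 1 := by omega
        rw [this, pow_one]
      by_cases hja' : j = a
      · have : (⟨g⁻¹ * (u : G) ^ L * g, h⟩ : N) = 1 := by
          apply Subtype.ext
          change g⁻¹ * (u : G) ^ L * g = 1
          rw [hj, hja', ← hua, pow_orderOf_eq_one]; group
        rw [this, map_one, hj, hja']
        exact (hceven _ (Nat.even_pow.mpr ⟨even_two, ha0⟩)).symm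
      · exfalso
        have hlt : j < a := lt_of_le_of_ne hja hja'
        have hpow : (u : G) ^ 2 ^ (a - 1) = ((u : G) ^ L) ^ 2 ^ (a - 1 - j) := by
          rw [hj, ← pow_mul, ← pow_add]
          congr 2
          omega
        have hfix' : ((u : G) ^ 2 ^ (a - 1)) • (g • P) = g • P := by
          rw [hpow]
          exact MulAction.mem_stabilizer_iff.mp
            (pow_mem (MulAction.mem_stabilizer_iff.mpr hfix) _)
        have h4 := hK _ hwC hw2 _ hfix'
        exact hgN (hmemN _ h4)
  have key : ∀ (b : G ⧸ N)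
      (h : b.out⁻¹ * (u : G) ^ Function.minimalPeriod ((u : G) • ·) b * b.out ∈ N),
      ϕ ⟨_, h⟩ = c ^ Function.minimalPeriod ((u : G) • ·) b := by
    intro b h
    refine key' _ _ ?_ h
    rw [← MulAction.pow_smul_eq_iff_minimalPeriod_dvd, ← hua, pow_orderOf_eq_one, one_smul]
  have h1 := transfer_eq_pow_index N ϕ (u : G) c key
  rw [hom_trivial hG] at h1
  have hidx : N.index = Nat.card (Sylow p G) := by
    rw [hN]; exact (P.card_eq_index_normalizer).symm
  rw [hidx] at h1
  obtain ⟨m, hm⟩ := hodd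
  rw [hm, pow_succ, pow_mul, hc2, one_pow, one_mul] at h1
  exact hu1 h1.symm

theorem simple_case [IsSimpleGroup G] (hG : ¬ IsMulCommutative G)
    (h21 : Nat.card (Sylow 5 G) = 21) : False := by
  haveI : Fact (Nat.Prime 5) := ⟨by norm_num⟩
  haveI : Fact (Nat.Prime 2) := ⟨Nat.prime_two⟩
  classical
  letI : Fintype (Sylow 5 G) := Fintype.ofFinite _
  obtain ⟨P⟩ : Nonempty (Sylow 5 G) := inferInstance
  have hnn : ¬ (P : Subgroup G).Normal := fun h => by
    have := card_sylow_eq_one_of_normal 5 P h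
    omega
  have h7 : 5 ∣ Nat.card G := by
    by_contra h
    apply hnn
    have h1 : Nat.card (P : Subgroup G) = 1 := by
      rw [P.card_eq_multiplicity, Nat.factorization_eq_zero_of_not_dvd h, pow_zero]
    rw [Subgroup.card_eq_one.mp h1]
    infer_instance
  have hP5 : Nat.card P = 5 := Cfsg.Agent.S4343.result hG 5 h7 (by rw [h21]; norm_num) P
  have hker : ∀ g : G, (∀ Q : Sylow 5 G, g • Q = Q) → g = 1 := by
    intro g hg
    rcases (MonoidHom.normal_ker (MulAction.toPermHom G (Sylow 5 G))).eq_bot_or_eq_top with h | h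
    · have : g ∈ (MulAction.toPermHom G (Sylow 5 G)).ker := by
        rw [MonoidHom.mem_ker]
        ext1 Q
        exact hg Q
      rw [h] at this
      exact Subgroup.mem_bot.mp this
    · exfalso
      apply hnn
      rw [← Subgroup.normalizer_eq_top_iff, eq_top_iff]
      intro x _
      have : x ∈ (MulAction.toPermHom G (Sylow 5 G)).ker := h ▸ Subgroup.mem_top x
      rw [MonoidHom.mem_ker] at this
      exact Sylow.smul_eq_iff_mem_normalizer.mp
        (congrArg (fun σ : Equiv.Perm (Sylow 5 G) => σ P) this)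
  have hK : ∀ k ∈ Subgroup.centralizer ((P : Subgroup G) : Set G), orderOf k = 2 →
      ∀ Q' : Sylow 5 G, k • Q' = Q' → Q' = P := by
    intro k hk hkq Q' hQ'
    set F : Set (Sylow 5 G) := {Q | k • Q = Q} with hF
    have hPF : P ∈ F := by
      change k • P = P
      rw [Sylow.smul_eq_iff_mem_normalizer]
      exact Subgroup.centralizer_le_normalizer _ hk
    have a : Nat.card F ≡ 1 [MOD 5] := by
      refine card_modEq_one 5 P F hPF ?_
      intro x hx Q hQ
      change k • x • Q = x • Q
      have hQ' : k • Q = Q := hQ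
      rw [smul_smul, ← (Subgroup.mem_centralizer_iff.mp hk x hx), ← smul_smul, hQ']
    have b : 21 ≡ Nat.card F [MOD 2] := by
      have hpg : IsPGroup 2 (Subgroup.zpowers k) := by
        rw [IsPGroup.iff_card]
        exact ⟨1, by rw [Nat.card_zpowers, hkq, pow_one]⟩
      have := hpg.card_modEq_card_fixedPoints (Sylow 5 G)
      rw [h21] at this
      have hset : (MulAction.fixedPoints (Subgroup.zpowers k) (Sylow 5 G)) = F := by
        ext Q
        constructor
        · intro h
          exact h ⟨k, Subgroup.mem_zpowers k⟩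
        · intro h x
          have hle : Subgroup.zpowers k ≤ MulAction.stabilizer G Q := by
            rw [Subgroup.zpowers_le]
            exact h
          exact hle x.2
      rw [hset] at this
      exact this
    have c : Nat.card F ≤ 21 := by
      rw [← h21]
      exact Finite.card_subtype_le _
    have hk1 : k ≠ 1 := by
      intro h
      rw [h, orderOf_one] at hkq
      norm_num at hkq
    have d : Nat.card F ≠ 21 := by
      intro h
      apply hk1
      apply hker
      have huniv : F = Set.univ := by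
        apply Set.eq_of_subset_of_ncard_le (Set.subset_univ _) _ Set.finite_univ
        rw [Set.ncard_univ, h21, ← Nat.card_coe_set_eq, h]
      intro Q
      have : Q ∈ F := huniv ▸ Set.mem_univ Q
      exact this
    have e : Nat.card F = 1 ∨ Nat.card F = 11 := by
      unfold Nat.ModEq at a b
      omega
    rcases e with e | e
    · haveI : Subsingleton F := (Nat.card_eq_one_iff_unique.mp e).1
      exact congrArg Subtype.val (Subsingleton.elim (⟨Q', hQ'⟩ : F) ⟨P, hPF⟩)
    · exfalso
      have hs1 := sign_toPerm_eq_one hG (Ω := Sylow 5 G) k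
      have hinj : Function.Injective (MulAction.toPermHom G (Sylow 5 G)) := by
        rw [injective_iff_map_eq_one]
        intro g hg
        apply hker
        intro Q
        exact congrArg (fun σ : Equiv.Perm (Sylow 5 G) => σ Q) hg
      have ho : orderOf (MulAction.toPermHom G (Sylow 5 G) k) = 2 := by
        rw [orderOf_injective _ hinj, hkq]
      have hsupp : (MulAction.toPermHom G (Sylow 5 G) k).support.card = 10 := by
        have h1 : (MulAction.toPermHom G (Sylow 5 G) k).support =
            Finset.univ.filter (fun Q : Sylow 5 G => ¬ (k • Q = Q)) := by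
          ext Q
          simp
        have h2 : Nat.card F = (Finset.univ.filter (fun Q : Sylow 5 G => k • Q = Q)).card := by
          rw [Nat.card_eq_fintype_card, Fintype.card_subtype]
          rfl
        have h3 := Finset.card_filter_add_card_filter_not (s := (Finset.univ : Finset (Sylow 5 G)))
          (fun Q : Sylow 5 G => k • Q = Q)
        rw [Finset.card_univ, ← Nat.card_eq_fintype_card, h21, ← h2, e] at h3
        rw [h1]
        omega
      rw [sign_of_order_two _ ho hsupp] at hs1
      exact absurd hs1 (by decide)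
  have hP5' : Nat.card (P : Subgroup G) = 5 := hP5
  haveI : Fact (Nat.card (P : Subgroup G)).Prime := ⟨by rw [hP5']; norm_num⟩
  haveI hcyc : IsCyclic (P : Subgroup G) := isCyclic_of_prime_card hP5'
  let ϕ : Subgroup.normalizer ((P : Subgroup G) : Set G) →* (ZMod (Nat.card (P : Subgroup G)))ˣ :=
    (IsCyclic.mulAutMulEquiv (P : Subgroup G)).toMonoidHom.comp
      (P : Subgroup G).normalizerMonoidHom
  have hkerϕ : ∀ x : Subgroup.normalizer ((P : Subgroup G) : Set G), ϕ x = 1 →
      (x : G) ∈ Subgroup.centralizer ((P : Subgroup G) : Set G) := by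
    intro x hx
    have h1 : (P : Subgroup G).normalizerMonoidHom x = 1 := by
      apply (IsCyclic.mulAutMulEquiv (P : Subgroup G)).injective
      rw [map_one]
      exact hx
    have h2 : x ∈ (P : Subgroup G).normalizerMonoidHom.ker := h1
    rw [Subgroup.normalizerMonoidHom_ker, Subgroup.mem_subgroupOf] at h2
    exact h2
  have hpm : ∀ a : (ZMod (Nat.card (P : Subgroup G)))ˣ, a * a = 1 → a = 1 ∨ a = -1 := by
    intro a h
    have h' : (a : ZMod (Nat.card (P : Subgroup G))) * a = 1 := by
      rw [← Units.val_mul, h, Units.val_one]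
    rcases mul_self_eq_one_iff.mp h' with h1 | h1
    · left; exact Units.ext h1
    · right; exact Units.ext (by rw [h1, Units.val_neg, Units.val_one])
  have huniq : ∀ a b : (ZMod (Nat.card (P : Subgroup G)))ˣ, a ≠ 1 → b ≠ 1 → a * a = 1 →
      b * b = 1 → a = b := by
    intro a b ha hb ha2 hb2
    rcases hpm a ha2 with h | h
    · exact absurd h ha
    · rcases hpm b hb2 with h' | h'
      · exact absurd h' hb
      · rw [h, h']
  by_cases hNC : Subgroup.normalizer ((P : Subgroup G) : Set G) ≤
      Subgroup.centralizer ((P : Subgroup G) : Set G)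
  · exact false_of_normalizer_le hG 5 P hP5 hNC
  obtain ⟨g, hgN, hgC⟩ := SetLike.not_le_iff_exists.mp hNC
  have hb1 : ϕ ⟨g, hgN⟩ ≠ 1 := fun h => hgC (hkerϕ _ h)
  have hb4 : ϕ ⟨g, hgN⟩ ^ 4 = 1 := by
    have := ZMod.units_pow_card_sub_one_eq_one _ (ϕ ⟨g, hgN⟩)
    have h4 : Nat.card (P : Subgroup G) - 1 = 4 := by rw [hP5']
    rw [h4] at this
    exact this
  obtain ⟨x1, hx1a, hx1b⟩ : ∃ x1 : Subgroup.normalizer ((P : Subgroup G) : Set G),
      ϕ x1 ≠ 1 ∧ ϕ x1 * ϕ x1 = 1 := by
    by_cases h2 : ϕ ⟨g, hgN⟩ * ϕ ⟨g, hgN⟩ = 1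
    · exact ⟨_, hb1, h2⟩
    · refine ⟨⟨g, hgN⟩ * ⟨g, hgN⟩, by rw [map_mul]; exact h2, ?_⟩
      rw [map_mul, ← hb4]
      simp only [pow_succ, pow_zero, one_mul, mul_assoc]
  obtain ⟨a, m, hm, hord⟩ := Nat.exists_eq_two_pow_mul_odd (orderOf_pos (x1 : G)).ne'
  have hum : ϕ (x1 ^ m) = ϕ x1 := by
    obtain ⟨r, hr⟩ := hm
    rw [map_pow, hr, pow_succ, pow_mul, pow_two, hx1b, one_pow, one_mul]
  refine transfer_contra hG 5 P (by rw [h21]; decide) hK _ rfl ϕ hkerϕ huniq (x1 ^ m)
    (by rw [hum]; exact hx1a) (by rw [hum]; exact hx1b) a ?_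
  have hm0 : m ≠ 0 := by
    rintro rfl
    exact (Nat.not_odd_iff_even.mpr (by decide : Even 0)) hm
  rw [Subgroup.coe_pow, orderOf_pow_of_dvd hm0 (by rw [hord]; exact Dvd.intro_left _ rfl), hord]
  exact Nat.mul_div_cancel _ (Nat.pos_of_ne_zero hm0)

theorem eq_one_of_dvd_fifteen {a : ℕ} (ha : a ≡ 1 [MOD 5]) (hd : a ∣ 21) (hne : a ≠ 21) :
    a = 1 := by
  have hle : a ≤ 21 := Nat.le_of_dvd (by norm_num) hd
  unfold Nat.ModEq at ha
  have : a = 1 ∨ a = 6 ∨ a = 11 ∨ a = 16 := by omega
  rcases this with h | h | h | h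
  · exact h
  · rw [h] at hd
    norm_num at hd
  · rw [h] at hd
    norm_num at hd
  · rw [h] at hd
    norm_num at hd

theorem nonsimple_case
    (IH : ∀ (H : Type u) [Group H] [Finite H], Nat.card H < Nat.card G →
      Nat.card (Sylow 5 H) ≠ 21)
    (h21 : Nat.card (Sylow 5 G) = 21) (K : Subgroup G) [K.Normal] (hKb : K ≠ ⊥) (hKt : K ≠ ⊤) :
    False := by
  haveI : Fact (Nat.Prime 5) := ⟨by norm_num⟩
  haveI : Fact (Nat.Prime 3) := ⟨by norm_num⟩
  have hA : ∀ (M : Subgroup G) [M.Normal], M ≠ ⊥ → ∀ P : Sylow 5 G,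
      (P : Subgroup G) ⊔ M = ⊤ := by
    intro M _ hM P
    have h1 := Cfsg.Agent.Lib.Helper2.SylowNumber.card_sylow_eq_mul M P
    rw [h21] at h1
    have h2 : Nat.card (Sylow 5 (G ⧸ M)) = 1 :=
      eq_one_of_dvd_fifteen (card_sylow_modEq_one 5 _) (Dvd.intro _ h1.symm)
        (IH _ (card_quot_lt_of_ne_bot M hM))
    rw [h2, one_mul] at h1
    by_contra hne
    exact IH _ (card_lt_of_ne_top _ hne) h1.symm
  have hB : ∀ (M : Subgroup G) [M.Normal], IsPGroup 5 M → M = ⊥ := by
    intro M _ hM
    by_contra hne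
    obtain ⟨P', hP'⟩ := hM.exists_le_sylow
    have h1 := hA M hne P'
    rw [sup_eq_left.mpr hP'] at h1
    have h2 := card_sylow_eq_one_of_normal 5 P' (h1 ▸ inferInstance)
    omega
  obtain ⟨P⟩ : Nonempty (Sylow 5 G) := inferInstance
  have hnK : Nat.card (Sylow 5 K) = 1 := by
    haveI : (((P : Subgroup G) ⊓ K).subgroupOf (((P : Subgroup G) ⊔ K) ⊓
        Subgroup.normalizer (((P : Subgroup G) ⊓ K : Subgroup G) : Set G))).Normal :=
      Subgroup.normal_subgroupOf_of_le_normalizer inf_le_right
    have h := Cfsg.Agent.S4341.result 5 K P _ rfl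
    rw [h21] at h
    refine eq_one_of_dvd_fifteen (card_sylow_modEq_one 5 _) ?_ (IH _ (card_lt_of_ne_top K hKt))
    rw [h]
    exact Dvd.dvd.mul_right (Dvd.intro_left _ rfl) _
  have h7K : ¬ 5 ∣ Nat.card K := by
    intro h7
    obtain ⟨Q⟩ : Nonempty (Sylow 5 K) := inferInstance
    haveI : Subsingleton (Sylow 5 K) := (Nat.card_eq_one_iff_unique.mp hnK).1
    haveI : (Q : Subgroup K).Characteristic := Sylow.characteristic_of_subsingleton Q
    haveI hn : ((Q : Subgroup K).map K.subtype).Normal :=
      ConjAct.normal_of_characteristic_of_normal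
    have hb := hB ((Q : Subgroup K).map K.subtype) (Q.2.map _)
    exact Q.ne_bot_of_dvd_card h7
      ((Subgroup.map_eq_bot_iff_of_injective _ K.subtype_injective).mp hb)
  have hcop : (Nat.card (P : Subgroup G)).Coprime (Nat.card K) := by
    obtain ⟨n, hn⟩ := IsPGroup.iff_card.mp P.2
    rw [hn]
    exact Nat.Coprime.pow_left _ ((Nat.Prime.coprime_iff_not_dvd (by norm_num)).mpr h7K)
  have hsol : Group.IsSolvable (P : Subgroup G) := by
    have := P.2.isNilpotent
    infer_instance
  obtain ⟨R, hRK, hRc, hPR⟩ := Cfsg.Agent.Lib.Helper1.exists_invariant_sylow (P : Subgroup G) K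
    (by rw [Subgroup.normalizer_eq_top]; exact le_top) hcop (Or.inl hsol) 3
  have hRpg : IsPGroup 3 R := IsPGroup.iff_card.mpr ⟨_, hRc⟩
  set O : Set (Sylow 5 G) := MulAction.orbit R P with hO
  have hO1 : Nat.card O ≡ 1 [MOD 5] := by
    refine card_modEq_one 5 P O (MulAction.mem_orbit_self _) ?_
    rintro x hx Q ⟨r, rfl⟩
    have hxr : x * r * x⁻¹ ∈ R := by
      have := hPR hx
      rw [Subgroup.mem_normalizer_iff] at this
      exact (this r).mp r.2
    refine ⟨⟨x * r * x⁻¹, hxr⟩, ?_⟩
    change (x * r * x⁻¹) • P = x • (r : G) • P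
    have hxP : x⁻¹ • P = P := by
      rw [Sylow.smul_eq_iff_mem_normalizer]
      exact Subgroup.le_normalizer (inv_mem hx)
    rw [mul_smul, mul_smul, hxP]
  have hO2 : ∃ a, Nat.card O = 3 ^ a := hRpg.card_orbit P
  have hO3 : Nat.card O ≤ 21 := by
    rw [← h21]
    exact Finite.card_subtype_le _
  have hO4 : Nat.card O = 1 := by
    obtain ⟨a, ha⟩ := hO2
    have ha2 : a ≤ 2 := by
      by_contra hcon
      have : 3 ^ 3 ≤ 3 ^ a := Nat.pow_le_pow_right (by norm_num) (by omega)
      omega
    rw [ha] at hO1 ⊢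
    unfold Nat.ModEq at hO1
    interval_cases a
    · rfl
    · norm_num at hO1
    · norm_num at hO1
  have hRN : R ≤ Subgroup.normalizer ((P : Subgroup G) : Set G) := by
    intro r hr
    haveI : Subsingleton O := (Nat.card_eq_one_iff_unique.mp hO4).1
    have h1 := Subsingleton.elim (⟨(⟨r, hr⟩ : R) • P, MulAction.mem_orbit _ _⟩ : O)
      ⟨P, MulAction.mem_orbit_self _⟩
    exact Sylow.smul_eq_iff_mem_normalizer.mp (congrArg Subtype.val h1)
  have h1 : Nat.card R ∣ Nat.card (Subgroup.normalizer ((P : Subgroup G) : Set G)) :=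
    Subgroup.card_dvd_of_le hRN
  have hGc : Nat.card G = 21 * Nat.card (Subgroup.normalizer ((P : Subgroup G) : Set G)) := by
    rw [← h21, P.card_eq_index_normalizer]
    exact (Subgroup.index_mul_card _).symm
  have h2 : 3 ^ ((Nat.card K).factorization 3 + 1) ∣ Nat.card G := by
    rw [hGc, pow_succ, ← hRc, mul_comm]
    exact Nat.mul_dvd_mul (by norm_num) h1
  have h3 : K.index ∣ Nat.card (P : Subgroup G) := by
    have := Subgroup.relIndex_sup_right (P : Subgroup G) K
    rw [hA K hKb P, Subgroup.relIndex_top_right] at this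
    rw [this]
    exact Subgroup.relIndex_dvd_card _ _
  have h4 := K.card_mul_index
  have h5 : 3 ^ ((Nat.card K).factorization 3 + 1) ∣ Nat.card K := by
    rw [← h4] at h2
    refine Nat.Coprime.dvd_of_dvd_mul_right ?_ h2
    refine Nat.Coprime.coprime_dvd_right h3 ?_
    obtain ⟨n, hn⟩ := IsPGroup.iff_card.mp P.2
    rw [hn]
    exact Nat.Coprime.pow _ _ (by norm_num)
  exact Nat.pow_succ_factorization_not_dvd Nat.card_pos.ne' (by norm_num) h5

theorem main_aux : ∀ (n : ℕ) (G : Type u) [Group G] [Finite G], Nat.card G = n →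
    Nat.card (Sylow 5 G) ≠ 21 := by
  intro n
  induction n using Nat.strong_induction_on with
  | _ n ih =>
  intro G _ _ hn h21
  haveI : Fact (Nat.Prime 5) := ⟨by norm_num⟩
  have IH : ∀ (H : Type u) [Group H] [Finite H], Nat.card H < Nat.card G →
      Nat.card (Sylow 5 H) ≠ 21 := fun H _ _ h => ih _ (hn ▸ h) H rfl
  obtain ⟨P⟩ : Nonempty (Sylow 5 G) := inferInstance
  have hnn : ¬ (P : Subgroup G).Normal := fun h => by
    have := card_sylow_eq_one_of_normal 5 P h
    omega
  by_cases hs : IsSimpleGroup G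
  · by_cases hc : IsMulCommutative G
    · apply hnn
      refine ⟨fun x hx g => ?_⟩
      have : g * x * g⁻¹ = x := by
        rw [hc.is_comm.comm g x, mul_assoc, mul_inv_cancel, mul_one]
      rw [this]
      exact hx
    · exact simple_case hc h21
  · have hnt : Nontrivial G := by
      by_contra h
      rw [not_nontrivial_iff_subsingleton] at h
      apply hnn
      rw [Subsingleton.elim (P : Subgroup G) ⊥]
      infer_instance
    obtain ⟨K, hKn, hKb, hKt⟩ : ∃ K : Subgroup G, K.Normal ∧ K ≠ ⊥ ∧ K ≠ ⊤ := by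
      by_contra h
      push Not at h
      apply hs
      refine ⟨fun H hH => ?_⟩
      by_cases hb : H = ⊥
      · exact Or.inl hb
      · exact Or.inr (h H hH hb)
    exact nonsimple_case IH h21 K hKb hKt

end Cfsg.Agent.Lib.Helper6.Syl21
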