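import Mathlib
import Cfsg.Agent.Lib.Helper6.Syl21

set_option autoImplicit false
set_option maxHeartbeats 400000
set_option linter.style.haveILetI false
set_option linter.unusedSectionVars false

namespace Cfsg.Agent.Lib.Helper6.NS

universe u

variable {G : Type u} [Group G] [Finite G]

theorem not_normal_sylow [IsSimpleGroup G] (p : ℕ) [Fact p.Prime] (P : Sylow p G)
    (h1 : Nat.card P ≠ 1) (h2 : Nat.card P ≠ Nat.card G) : ¬ (P : Subgroup G).Normal := by
  intro h
  rcases h.eq_bot_or_eq_top with h' | h'
  · apply h1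
    rw [h', Subgroup.card_bot]
  · apply h2
    rw [h', Subgroup.card_top]

theorem not_comm (H : Subgroup G) (hn : ¬ H.Normal) : ¬ IsMulCommutative G := by
  intro hc
  apply hn
  refine ⟨fun n hn g => ?_⟩
  have : g * n * g⁻¹ = n := by
    rw [hc.is_comm.comm g n]; group
  rw [this]; exact hn

/-- data about a Sylow subgroup of prime order in a simple group -/
theorem prime_sylow [IsSimpleGroup G] (p : ℕ) [Fact p.Prime] (h1 : p ∣ Nat.card G)
    (h2 : ¬ p ^ 2 ∣ Nat.card G) (h3 : Nat.card G ≠ p) (P : Sylow p G) :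
    Nat.card P = p ∧ ¬ IsMulCommutative G ∧ Nat.card (Sylow p G) ≠ 1 ∧
    Nat.card (Sylow p G) ≡ 1 [MOD p] ∧
    Nat.card (Subgroup.normalizer ((P : Subgroup G) : Set G)) * Nat.card (Sylow p G) = Nat.card G ∧
    (Subgroup.centralizer ((P : Subgroup G) : Set G)).relIndex
      (Subgroup.normalizer ((P : Subgroup G) : Set G)) ∣ p - 1 ∧
    (Subgroup.centralizer ((P : Subgroup G) : Set G)).relIndex
      (Subgroup.normalizer ((P : Subgroup G) : Set G)) ∣
        Nat.card (Subgroup.normalizer ((P : Subgroup G) : Set G)) ∧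
    (Subgroup.centralizer ((P : Subgroup G) : Set G)).relIndex
      (Subgroup.normalizer ((P : Subgroup G) : Set G)) ≠ 1 := by
  have hp : p.Prime := Fact.out
  have hP : Nat.card P = p := Syl15.card_sylow_of_dvd p h1 h2 P
  have hnn : ¬ (P : Subgroup G).Normal :=
    not_normal_sylow p P (by rw [hP]; exact hp.one_lt.ne') (by rw [hP]; exact h3.symm)
  have hG := not_comm _ hnn
  refine ⟨hP, hG, ?_, card_sylow_modEq_one p G, ?_, Syl15.relIndex_dvd p P hP,
    Subgroup.relIndex_dvd_card _ _, ?_⟩
  · intro h
    apply hnn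
    rw [P.card_eq_index_normalizer] at h
    exact Subgroup.normalizer_eq_top_iff.mp (Subgroup.index_eq_one.mp h)
  · rw [P.card_eq_index_normalizer]
    exact Subgroup.card_mul_index _
  · intro h
    exact Syl21.false_of_normalizer_le hG p P hP (Subgroup.relIndex_eq_one.mp h)

theorem sign_of_order_two_gen {Ω : Type*} [Fintype Ω] [DecidableEq Ω] (σ : Equiv.Perm Ω)
    (h2 : orderOf σ = 2) (k : ℕ) (hk : Odd k) (hs : σ.support.card = 2 * k) :
    Equiv.Perm.sign σ = -1 := by
  obtain ⟨n, hn⟩ := Equiv.Perm.cycleType_prime_order (σ := σ) (by rw [h2]; exact Nat.prime_two)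
  have h1 := Equiv.Perm.sum_cycleType σ
  rw [hn, h2, Multiset.sum_replicate, hs] at h1
  have h6 : n + 1 = k := by
    simp only [smul_eq_mul] at h1
    omega
  rw [Equiv.Perm.sign_of_cycleType, hn, h2, h6, Multiset.sum_replicate, Multiset.card_replicate,
    smul_eq_mul, pow_add, pow_mul, hk.neg_one_pow]
  simp

/-- `n_p = p + 1`, `|P| = p ≡ 3 mod 4`, and an involution of `N(P)` outside `C(P)`: odd
permutation. -/
theorem invol_sign [IsSimpleGroup G] (hG : ¬ IsMulCommutative G) (p : ℕ) [Fact p.Prime]
    (P : Sylow p G) (hP : Nat.card P = p) (hn : Nat.card (Sylow p G) = p + 1)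
    (k : ℕ) (hk : Odd k) (hpk : p = 2 * k + 1)
    (t : G) (ht : orderOf t = 2) (htN : t ∈ Subgroup.normalizer ((P : Subgroup G) : Set G))
    (htC : t ∉ Subgroup.centralizer ((P : Subgroup G) : Set G)) : False := by
  classical
  have hp : p.Prime := Fact.out
  letI : Fintype (Sylow p G) := Fintype.ofFinite _
  have hnn : ¬ (P : Subgroup G).Normal := fun h => by
    have := Syl15.card_sylow_eq_one_of_normal p P h
    have := hp.pos
    omega
  have hker : ∀ g : G, (∀ Q : Sylow p G, g • Q = Q) → g = 1 := by
    intro g hg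
    rcases (MonoidHom.normal_ker (MulAction.toPermHom G (Sylow p G))).eq_bot_or_eq_top with h | h
    · have : g ∈ (MulAction.toPermHom G (Sylow p G)).ker := by
        rw [MonoidHom.mem_ker]
        ext1 Q
        exact hg Q
      rw [h] at this
      exact Subgroup.mem_bot.mp this
    · exfalso
      apply hnn
      rw [← Subgroup.normalizer_eq_top_iff, eq_top_iff]
      intro x _
      have : x ∈ (MulAction.toPermHom G (Sylow p G)).ker := h ▸ Subgroup.mem_top x
      rw [MonoidHom.mem_ker] at this
      exact Sylow.smul_eq_iff_mem_normalizer.mp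
        (congrArg (fun σ : Equiv.Perm (Sylow p G) => σ P) this)
  -- a nontrivial element of `P` fixes only `P`
  have hfix : ∀ Q : Sylow p G, ∀ x ∈ (P : Subgroup G), x ≠ 1 → x • Q = Q → Q = P := by
    intro Q x hx hx1 hxQ
    have h1 : MulAction.stabilizer G Q ⊓ (P : Subgroup G) = P := by
      apply Subgroup.eq_of_le_of_card_ge inf_le_right
      have h2 : Nat.card (MulAction.stabilizer G Q ⊓ (P : Subgroup G) : Subgroup G) ∣ p := by
        have := Subgroup.card_dvd_of_le
          (inf_le_right : MulAction.stabilizer G Q ⊓ (P : Subgroup G) ≤ P)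
        rwa [show Nat.card (P : Subgroup G) = p from hP] at this
      rcases (Nat.dvd_prime hp).mp h2 with h | h
      · exfalso
        have h3 := Subgroup.eq_bot_of_card_eq _ h
        have h4 : x ∈ MulAction.stabilizer G Q ⊓ (P : Subgroup G) := ⟨hxQ, hx⟩
        rw [h3] at h4
        exact hx1 (Subgroup.mem_bot.mp h4)
      · rw [h]
        exact hP.le
    have h2 : (P : Subgroup G) ≤ MulAction.stabilizer G Q := h1 ▸ inf_le_left
    have hQ' : Q ∈ MulAction.fixedPoints (P : Subgroup G) (Sylow p G) := fun y => h2 y.2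
    rw [P.2.sylow_mem_fixedPoints_iff] at hQ'
    exact Sylow.ext (P.3 Q.2 hQ')
  set F : Set (Sylow p G) := {Q | t • Q = Q} with hF
  have hPF : P ∈ F := Sylow.smul_eq_iff_mem_normalizer.mpr htN
  -- at most one fixed point besides `P`
  have huniq : ∀ Q₁ ∈ F, ∀ Q₂ ∈ F, Q₁ ≠ P → Q₂ ≠ P → Q₁ = Q₂ := by
    intro Q₁ h1 Q₂ h2 hne1 hne2
    -- the map `x ↦ x • Q₁` from `P` onto the complement of `P`
    let f : ↥(P : Subgroup G) → {Q : Sylow p G // Q ≠ P} := fun x => ⟨(x : G) • Q₁, by
      intro h
      apply hne1
      have h3 : (x : G)⁻¹ • ((x : G) • Q₁) = (x : G)⁻¹ • P := by rw [h]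
      rw [inv_smul_smul] at h3
      rw [h3, Sylow.smul_eq_iff_mem_normalizer]
      exact Subgroup.le_normalizer (inv_mem x.2)⟩
    have hinj : Function.Injective f := by
      intro x y hxy
      have h3 : (x : G) • Q₁ = (y : G) • Q₁ := congrArg Subtype.val hxy
      by_contra hne
      apply hne1
      apply hfix Q₁ ((y : G)⁻¹ * x) (mul_mem (inv_mem y.2) x.2)
      · intro h
        apply hne
        apply Subtype.ext
        calc (x : G) = y * ((y : G)⁻¹ * x) := by group
          _ = y := by rw [h, mul_one]
      · rw [mul_smul, h3, inv_smul_smul]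
    have hcard : Nat.card (P : Subgroup G) = Nat.card {Q : Sylow p G // Q ≠ P} := by
      have h3 : Nat.card {Q : Sylow p G // Q ≠ P} = Nat.card (Sylow p G) - 1 := by
        rw [Nat.card_eq_fintype_card, Nat.card_eq_fintype_card, Fintype.card_subtype_compl,
          Fintype.card_subtype_eq]
      rw [h3, hn]
      exact hP
    have hsurj : Function.Surjective f := by
      have hbij : Function.Bijective f := by
        rw [Nat.bijective_iff_injective_and_card]
        exact ⟨hinj, hcard⟩
      exact hbij.2
    obtain ⟨x, hx⟩ := hsurj ⟨Q₂, hne2⟩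
    have hx' : (x : G) • Q₁ = Q₂ := congrArg Subtype.val hx
    by_cases hx1 : (x : G) = 1
    · rw [hx1, one_smul] at hx'
      exact hx'
    exfalso
    -- `t x t⁻¹ = x`
    have h3 : (t * x * t⁻¹) • Q₁ = (x : G) • Q₁ := by
      have e1 : t⁻¹ • Q₁ = Q₁ := by
        have h1' : t • Q₁ = Q₁ := h1
        calc t⁻¹ • Q₁ = t⁻¹ • (t • Q₁) := by rw [h1']
          _ = Q₁ := inv_smul_smul _ _
      have h2' : t • Q₂ = Q₂ := h2
      rw [mul_smul, mul_smul, e1, hx', h2']
    have htx : t * x * t⁻¹ ∈ (P : Subgroup G) :=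
      (Subgroup.mem_normalizer_iff.mp htN x).mp x.2
    have h4 : t * x * t⁻¹ = x := by
      by_contra hne
      apply hne1
      apply hfix Q₁ ((x : G)⁻¹ * (t * x * t⁻¹)) (mul_mem (inv_mem x.2) htx)
      · intro h
        apply hne
        calc t * x * t⁻¹ = x * ((x : G)⁻¹ * (t * x * t⁻¹)) := by group
          _ = x := by rw [h, mul_one]
      · rw [mul_smul, h3, inv_smul_smul]
    -- so `t` centralizes `P`
    apply htC
    have h5 : Subgroup.centralizer ({t} : Set G) ⊓ (P : Subgroup G) = P := by
      apply Subgroup.eq_of_le_of_card_ge inf_le_right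
      have h6 : Nat.card (Subgroup.centralizer ({t} : Set G) ⊓ (P : Subgroup G) : Subgroup G) ∣ p := by
        have := Subgroup.card_dvd_of_le
          (inf_le_right : Subgroup.centralizer ({t} : Set G) ⊓ (P : Subgroup G) ≤ P)
        rwa [show Nat.card (P : Subgroup G) = p from hP] at this
      rcases (Nat.dvd_prime hp).mp h6 with h | h
      · exfalso
        have h7 := Subgroup.eq_bot_of_card_eq _ h
        have h8 : (x : G) ∈ Subgroup.centralizer ({t} : Set G) ⊓ (P : Subgroup G) := by
          refine ⟨?_, x.2⟩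
          apply Subgroup.mem_centralizer_singleton_iff.mpr
          calc (x : G) * t = (t * x * t⁻¹) * t := by rw [h4]
            _ = t * x := by group
        rw [h7] at h8
        exact hx1 (Subgroup.mem_bot.mp h8)
      · rw [h]
        exact hP.le
    rw [Subgroup.mem_centralizer_iff]
    intro y hy
    have : y ∈ Subgroup.centralizer ({t} : Set G) := (h5 ▸ inf_le_left : (P : Subgroup G) ≤ _) hy
    rw [Subgroup.mem_centralizer_singleton_iff] at this
    exact this
  -- parity of the number of fixed points
  have b : p + 1 ≡ Nat.card F [MOD 2] := by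
    have hpg : IsPGroup 2 (Subgroup.zpowers t) := by
      rw [IsPGroup.iff_card]
      exact ⟨1, by rw [Nat.card_zpowers, ht, pow_one]⟩
    haveI : Fact (Nat.Prime 2) := ⟨Nat.prime_two⟩
    have := hpg.card_modEq_card_fixedPoints (Sylow p G)
    rw [hn] at this
    have hset : (MulAction.fixedPoints (Subgroup.zpowers t) (Sylow p G)) = F := by
      ext Q
      constructor
      · intro h
        exact h ⟨t, Subgroup.mem_zpowers t⟩
      · intro h x
        have hle : Subgroup.zpowers t ≤ MulAction.stabilizer G Q := by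
          rw [Subgroup.zpowers_le]
          exact h
        exact hle x.2
    rw [hset] at this
    exact this
  have hF2 : Nat.card F = (Finset.univ.filter (fun Q : Sylow p G => t • Q = Q)).card := by
    rw [Nat.card_eq_fintype_card, Fintype.card_subtype]
    rfl
  have hle2 : Nat.card F ≤ 2 := by
    rw [hF2]
    by_contra hcon
    push Not at hcon
    obtain ⟨A, B, C, hA, hB, hC, hAB, hAC, hBC⟩ := Finset.two_lt_card_iff.mp hcon
    simp only [Finset.mem_filter, Finset.mem_univ, true_and] at hA hB hC
    by_cases hAP : A = P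
    · exact hBC (huniq B hB C hC (fun h => hAB (hAP.trans h.symm)) (fun h => hAC (hAP.trans h.symm)))
    · by_cases hBP : B = P
      · exact hAC (huniq A hA C hC hAP (fun h => hBC (hBP.trans h.symm)))
      · exact hAB (huniq A hA B hB hAP hBP)
  have hpos : 0 < Nat.card F := by
    haveI : Nonempty F := ⟨⟨P, hPF⟩⟩
    exact Nat.card_pos
  have hFc : Nat.card F = 2 := by
    unfold Nat.ModEq at b
    omega
  have hs1 := Syl15.sign_toPerm_eq_one hG (Ω := Sylow p G) t
  have hinj : Function.Injective (MulAction.toPermHom G (Sylow p G)) := by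
    rw [injective_iff_map_eq_one]
    intro g hg
    apply hker
    intro Q
    exact congrArg (fun σ : Equiv.Perm (Sylow p G) => σ Q) hg
  have ho : orderOf (MulAction.toPermHom G (Sylow p G) t) = 2 := by
    rw [orderOf_injective _ hinj, ht]
  have hsupp : (MulAction.toPermHom G (Sylow p G) t).support.card = 2 * k := by
    have h1 : (MulAction.toPermHom G (Sylow p G) t).support =
        Finset.univ.filter (fun Q : Sylow p G => ¬ (t • Q = Q)) := by
      ext Q
      simp
    have h3 := Finset.card_filter_add_card_filter_not (s := (Finset.univ : Finset (Sylow p G)))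
      (fun Q : Sylow p G => t • Q = Q)
    rw [Finset.card_univ, ← Nat.card_eq_fintype_card, hn, ← hF2, hFc] at h3
    rw [h1]
    omega
  rw [sign_of_order_two_gen _ ho k hk hsupp] at hs1
  exact absurd hs1 (by decide)

end Cfsg.Agent.Lib.Helper6.NS
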