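import Mathlib
import Cfsg.Agent.Lib.Helper6.Off3
import Cfsg.Agent.Lib.Helper6.CLAb
import Cfsg.Agent.Lib.Helper6.Ores
import Cfsg.Agent.Lib.Helper3.ZJ4

set_option autoImplicit false
set_option linter.unusedSectionVars false

/-! Small tools for the Thompson factorization argument. -/

namespace Cfsg.Agent.Lib.Helper6.Off4

open Cfsg.Agent.Lib.Helper6.Basic Cfsg.Agent.Lib.Helper6.Subn Cfsg.Agent.Lib.Helper6.Quasi
  Cfsg.Agent.Lib.Helper6.Rad Cfsg.Agent.Lib.Helper6.Off Cfsg.Agent.Lib.Helper6.Off2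
  Cfsg.Agent.Lib.Helper6.PAct Cfsg.Agent.Lib.Helper6.FStar
open Cfsg.Agent.Lib.Helper3.PLocal
open scoped commutatorElement Pointwise

universe u
variable {X : Type u} [Group X]

theorem exists_complement_sub [Finite X] {R M : Subgroup X} (hRM : R ≤ M) (hMR : M ≤ Nz R)
    (hcop : (Nat.card R).Coprime (R.relIndex M)) :
    ∃ Q : Subgroup X, Q ≤ M ∧ Nat.card Q = R.relIndex M ∧ R ⊔ Q = M := by
  have hn : (R.subgroupOf M).Normal := (Subgroup.normal_subgroupOf_iff_le_normalizer hRM).mpr hMR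
  have hc : Nat.card (R.subgroupOf M) = Nat.card R :=
    Nat.card_congr (Subgroup.subgroupOfEquivOfLe hRM).toEquiv
  obtain ⟨H, hH⟩ := Subgroup.exists_right_complement'_of_coprime (N := R.subgroupOf M)
    (by rw [hc]; exact hcop)
  have hQM : H.map M.subtype ≤ M := by
    rintro _ ⟨x, -, rfl⟩; exact x.2
  have hQc : Nat.card (H.map M.subtype) = R.relIndex M := by
    rw [Subgroup.card_map_of_injective M.subtype_injective]
    exact hH.symm.index_eq_card.symm
  refine ⟨H.map M.subtype, hQM, hQc, ?_⟩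
  apply Subgroup.eq_of_le_of_card_ge (sup_le hRM hQM)
  have h1 := card_sup_mul (hQM.trans hMR)
  have h2 : R ⊓ H.map M.subtype = ⊥ :=
    (Subgroup.disjoint_of_coprime_natCard (by rw [hQc]; exact hcop)).eq_bot
  rw [h2, hQc] at h1
  have h3 := Cfsg.Agent.Lib.Helper6.Card.card_mul_relIndex hRM
  simp only [Subgroup.card_bot, mul_one] at h1
  rw [h1, h3]

/-- `Ω₁(Z(R))` for the prime `2` -/
def OmZ (R : Subgroup X) : Subgroup X where
  carrier := {x | x ∈ R ∧ x ∈ Cz R ∧ x * x = 1}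
  one_mem' := ⟨R.one_mem, (Cz R).one_mem, by simp⟩
  mul_mem' := by
    rintro a b ⟨ha, ha', ha2⟩ ⟨hb, hb', hb2⟩
    refine ⟨R.mul_mem ha hb, (Cz R).mul_mem ha' hb', ?_⟩
    have hc : a * b = b * a := (Subgroup.mem_centralizer_iff.mp hb') a ha
    calc a * b * (a * b) = a * (b * a) * b := by group
      _ = a * (a * b) * b := by rw [hc]
      _ = (a * a) * (b * b) := by group
      _ = 1 := by rw [ha2, hb2, one_mul]
  inv_mem' := by
    rintro a ⟨ha, ha', ha2⟩
    refine ⟨R.inv_mem ha, (Cz R).inv_mem ha', ?_⟩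
    rw [← mul_inv_rev, ha2, inv_one]

theorem mem_OmZ {R : Subgroup X} {x : X} : x ∈ OmZ R ↔ x ∈ R ∧ x ∈ Cz R ∧ x * x = 1 := Iff.rfl

theorem OmZ_normal {R : Subgroup X} (hR : R.Normal) : (OmZ R).Normal := by
  constructor
  intro x hx g
  obtain ⟨h1, h2, h3⟩ := hx
  have hC : (Cz R).Normal := Subgroup.normal_centralizer
  refine ⟨hR.conj_mem x h1 g, hC.conj_mem x h2 g, ?_⟩
  calc g * x * g⁻¹ * (g * x * g⁻¹) = g * (x * x) * g⁻¹ := by group
    _ = 1 := by rw [h3]; group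

theorem OmZ_comm {R : Subgroup X} : ∀ a ∈ OmZ R, ∀ b ∈ OmZ R, a * b = b * a :=
  fun a ha b hb => (Subgroup.mem_centralizer_iff.mp hb.2.1) a ha.1

theorem le_Cz_OmZ (R : Subgroup X) : R ≤ Cz (OmZ R) := by
  intro r hr
  rw [Subgroup.mem_centralizer_iff]
  intro v hv
  exact ((Subgroup.mem_centralizer_iff.mp hv.2.1) r hr).symm

/-- an odd order element centralizing `Ω₁(Z(R))` centralizes `Z(R)` -/
theorem cent_of_cent_OmZ {R : Subgroup X} (hR : IsPGroup 2 ↥R) {y : X} (hyR : y ∈ Nz R)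
    (hyo : (orderOf y).Coprime 2) (hy : y ∈ Cz (OmZ R)) : y ∈ Cz (R ⊓ Cz R) := by
  have hyZ : y ∈ Nz (R ⊓ Cz R) := mem_Nz_inf_Cz hyR hyR
  have key : ∀ (k : ℕ) (z : X), z ∈ R ⊓ Cz R → z ^ 2 ^ k = 1 → z * y = y * z := by
    intro k
    induction k with
    | zero =>
      intro z _ hz
      have : z = 1 := by simpa using hz
      rw [this]; simp
    | succ k ih =>
      intro z hz hzk
      have hzz : z * z ∈ R ⊓ Cz R := (R ⊓ Cz R).mul_mem hz hz
      have h1 := ih (z * z) hzz (by rw [← pow_two, ← pow_mul, ← pow_succ']; exact hzk)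
      have hconj : y * z * y⁻¹ ∈ R ⊓ Cz R := conj_mem_of_mem_Nz hyZ hz
      have hZc : ∀ a ∈ R ⊓ Cz R, ∀ b ∈ R ⊓ Cz R, a * b = b * a :=
        fun a ha b hb => (Subgroup.mem_centralizer_iff.mp hb.2) a ha.1
      have hc : y * z * y⁻¹ * z⁻¹ ∈ R ⊓ Cz R := (R ⊓ Cz R).mul_mem hconj ((R ⊓ Cz R).inv_mem hz)
      have hcc : (y * z * y⁻¹ * z⁻¹) * (y * z * y⁻¹ * z⁻¹) = 1 := by
        have e1 := hZc _ ((R ⊓ Cz R).inv_mem hz) _ hconj
        have e2 : y * (z * z) * y⁻¹ = z * z := by rw [← h1]; group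
        calc (y * z * y⁻¹ * z⁻¹) * (y * z * y⁻¹ * z⁻¹)
            = y * z * y⁻¹ * (z⁻¹ * (y * z * y⁻¹)) * z⁻¹ := by group
          _ = y * z * y⁻¹ * ((y * z * y⁻¹) * z⁻¹) * z⁻¹ := by rw [e1]
          _ = (y * (z * z) * y⁻¹) * z⁻¹ * z⁻¹ := by group
          _ = (z * z) * z⁻¹ * z⁻¹ := by rw [e2]
          _ = 1 := by group
      have hcO : y * z * y⁻¹ * z⁻¹ ∈ OmZ R := ⟨hc.1, hc.2, hcc⟩
      have hcy := (Subgroup.mem_centralizer_iff.mp hy) _ hcO
      have h2 : (y * z * y⁻¹ * z⁻¹)⁻¹ = 1 := by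
        apply eq_one_of_conj_eq_mul (p := 2) (k := 1) (s := z) (x := y) (c := (y * z * y⁻¹ * z⁻¹)⁻¹)
        · group
        · exact Commute.inv_left hcy
        · rw [pow_one, pow_two, ← mul_inv_rev, hcc, inv_one]
        · exact hyo
      have h3 := inv_eq_one.mp h2
      have := congrArg (fun w => w * z * y) h3
      simpa [mul_assoc] using this.symm
  rw [Subgroup.mem_centralizer_iff]
  intro z hz
  obtain ⟨k, hk⟩ := hR ⟨z, hz.1⟩
  exact key k z hz (congrArg Subtype.val hk)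

/-- if all abelian subgroups of maximal order of `S` lie in a normal subgroup `T ≤ S`, `J(S)` is normal -/
theorem J_normal [Finite X] {S T : Subgroup X} (hT : T.Normal) (hTS : T ≤ S)
    (h : ∀ A ∈ PMax Pab S, A ≤ T) : (sSup (PMax Pab S)).Normal := by
  have hconj : ∀ g : X, ∀ A ∈ PMax Pab S, cj g A ∈ PMax Pab S := by
    intro g A hA
    refine ⟨?_, ?_, ?_⟩
    · calc cj g A ≤ cj g T := cj_mono (h A hA)
        _ = T := cj_normal g
        _ ≤ S := hTS
    · have h1 : IsMulCommutative ↥A := hA.2.1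
      have h2 : A ≤ Cz A := Subgroup.le_centralizer_iff_isMulCommutative.mpr h1
      have h3 : cj g A ≤ Cz (cj g A) := (cj_mono h2).trans (cj_centralizer g A).le
      exact Subgroup.le_centralizer_iff_isMulCommutative.mp h3
    · intro C hC hPC
      rw [card_cj]
      exact hA.2.2 C hC hPC
  apply Cfsg.Agent.Lib.Helper6.Ores.normal_of_top_le_Nz
  intro g _
  rw [← cj_eq_self_iff]
  apply Subgroup.eq_of_le_of_card_ge _ (by rw [card_cj])
  rw [cj_le_iff]
  apply sSup_le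
  intro A hA
  rw [← cj_le_iff]
  exact le_sSup (hconj g A hA)

end Cfsg.Agent.Lib.Helper6.Off4
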