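import Mathlib
import Cfsg.Agent.Lib.Helper6.Off4
import Cfsg.Agent.Lib.Helper1.FunctZJ
import Cfsg.Agent.Lib.Helper3.CopGen

set_option autoImplicit false
set_option linter.unusedSectionVars false

/-! The final configuration of Thompson's normal `p`-complement theorem. -/

namespace Cfsg.Agent.Lib.Helper6.Off5

open Cfsg.Agent.Lib.Helper6.Basic Cfsg.Agent.Lib.Helper6.Subn Cfsg.Agent.Lib.Helper6.Quasi
  Cfsg.Agent.Lib.Helper6.Rad Cfsg.Agent.Lib.Helper6.Off Cfsg.Agent.Lib.Helper6.Off2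
  Cfsg.Agent.Lib.Helper6.Off3 Cfsg.Agent.Lib.Helper6.Off4
  Cfsg.Agent.Lib.Helper6.PAct Cfsg.Agent.Lib.Helper6.FStar
open Cfsg.Agent.Lib.Helper3.PLocal Cfsg.Agent.Lib.Helper1
open scoped commutatorElement Pointwise

universe u
variable {X : Type u} [Group X]

theorem le_pCore_of_normal [Finite X] {p : ℕ} {N : Subgroup X} (hN : ⊤ ≤ Nz N) (hp : IsPGroup p ↥N) :
    N ≤ Cfsg.pCore p X := by
  rw [pCore_eq]
  exact le_Rd le_top hN hp

theorem final2 [Finite X] [hRn : (Cfsg.pCore 2 X).Normal]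
    (h1 : Subgroup.centralizer (Cfsg.pCore 2 X : Set X) ≤ Cfsg.pCore 2 X)
    (h2 : Cfsg.HasNormalPComplement 2 (X ⧸ Cfsg.pCore 2 X))
    (h3 : ∀ P : Sylow 2 X, IsCoatom (P : Subgroup X))
    (S : Sylow 2 X)
    (hZ : Cfsg.HasNormalPComplement 2 ↥(Nz ((S : Subgroup X) ⊓ Cz (S : Subgroup X))))
    (hJ : Cfsg.HasNormalPComplement 2 ↥(Nz (sSup (PMax Pab (S : Subgroup X)))))
    (hfree : ¬ Cfsg.Involves (Equiv.Perm (Fin 4)) X) : Cfsg.HasNormalPComplement 2 X := by
  have : Fact (Nat.Prime 2) := ⟨Nat.prime_two⟩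
  by_contra hnot
  set R := Cfsg.pCore 2 X with hR
  have hRp : IsPGroup 2 ↥R := by rw [hR, pCore_eq]; exact Op_isPGroup 2 ⊤
  have hRS : R ≤ (S : Subgroup X) := pCore_le_sylow S
  have hSp : IsPGroup 2 ↥(S : Subgroup X) := S.isPGroup'
  have hStop : (S : Subgroup X) ≠ ⊤ := (h3 S).1
  have coat : ∀ L : Subgroup X, (S : Subgroup X) ≤ L → L = S ∨ L = ⊤ := by
    intro L hL
    rcases eq_or_lt_of_le hL with h | h
    · exact Or.inl h.symm
    · exact Or.inr ((h3 S).2 L h)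
  have hNR : ∀ K : Subgroup X, K ≤ Nz R := fun K => by
    rw [show Nz R = ⊤ from Subgroup.normalizer_eq_top_iff.mpr hRn]; exact le_top
  -- normalizers of `Z(S)` and `J(S)`
  have hNZ : Nz ((S : Subgroup X) ⊓ Cz (S : Subgroup X)) = S := by
    have hle : (S : Subgroup X) ≤ Nz ((S : Subgroup X) ⊓ Cz (S : Subgroup X)) := fun s hs =>
      mem_Nz_inf_Cz (Subgroup.le_normalizer hs) (Subgroup.le_normalizer hs)
    rcases coat _ hle with h | h
    · exact h
    · rw [h] at hZ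
      exact absurd (pn_top_iff.mp hZ) hnot
  have hJtop : Nz (sSup (PMax Pab (S : Subgroup X))) ≠ ⊤ := by
    intro h
    rw [h] at hJ
    exact hnot (pn_top_iff.mp hJ)
  -- the subgroup `M = R O^2(X)` and a complement `Q`
  have hKn := pResidual_normal (G := X) 2
  have hMn : (R ⊔ Cfsg.pResidual 2 X).Normal := Subgroup.sup_normal R _
  have hodd : (R.relIndex (R ⊔ Cfsg.pResidual 2 X)).Coprime 2 := by
    have e1 : R.relIndex (R ⊔ Cfsg.pResidual 2 X)
        = Nat.card ((R ⊔ Cfsg.pResidual 2 X).map (QuotientGroup.mk' R)) := by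
      rw [← Subgroup.relIndex_ker, QuotientGroup.ker_mk']
    have e2 : (R ⊔ Cfsg.pResidual 2 X).map (QuotientGroup.mk' R) ≤ Cfsg.pResidual 2 (X ⧸ R) := by
      rw [Subgroup.map_sup]
      apply sup_le
      · rw [QuotientGroup.map_mk'_self]; exact bot_le
      · rw [Cfsg.pResidual, MonoidHom.map_closure, Subgroup.closure_le]
        rintro _ ⟨g, hg, rfl⟩
        exact mem_pResidual_of_coprime (Nat.Coprime.coprime_dvd_left (orderOf_map_dvd _ g) hg)
    rw [e1]
    exact Nat.Coprime.coprime_dvd_left (Subgroup.card_dvd_of_le e2) (hasNormalPComplement_iff.mp h2)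
  obtain ⟨kR, hkR⟩ := IsPGroup.iff_card.mp hRp
  obtain ⟨Q, hQM, hQc, hRQ⟩ := exists_complement_sub (le_sup_left : R ≤ R ⊔ Cfsg.pResidual 2 X) (hNR _)
    (by rw [hkR]; exact Nat.Coprime.pow_left kR hodd.symm)
  have hQo : (Nat.card Q).Coprime 2 := by rw [hQc]; exact hodd
  have hQR : (Nat.card Q).Coprime (Nat.card R) := by rw [hkR]; exact Nat.Coprime.pow_right kR hQo
  have hfrat : ∀ g : X, ∃ n ∈ R, n⁻¹ * g ∈ Nz Q := by
    intro g
    obtain ⟨n, hn, he⟩ := coprime_conj R Q (MulAut.conj g • Q) (hNR Q) hQR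
      (Or.inr (solvable_of_pGroup hRp))
      (by
        rw [sup_comm, hRQ, ← cj_eq_smul]
        calc cj g Q ≤ cj g (R ⊔ Cfsg.pResidual 2 X) := cj_mono hQM
          _ = _ := cj_normal g)
      (by rw [← cj_eq_smul, card_cj])
    refine ⟨n, hn, ?_⟩
    rw [← cj_eq_self_iff, ← cj_cj, cj_eq_smul g, ← he, ← cj_eq_smul, cj_inv_cj]
  set T := (S : Subgroup X) ⊓ Nz Q with hT
  have hTQ : T ≤ Nz Q := inf_le_right
  have hTp : IsPGroup 2 ↥T := hSp.to_le inf_le_left
  have hST : (S : Subgroup X) ≤ R ⊔ T := by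
    intro s hs
    obtain ⟨n, hn, hns⟩ := hfrat s
    have h4 : n⁻¹ * s ∈ T := ⟨(S : Subgroup X).mul_mem ((S : Subgroup X).inv_mem (hRS hn)) hs, hns⟩
    have h5 := (R ⊔ T).mul_mem ((le_sup_left : R ≤ R ⊔ T) hn) ((le_sup_right : T ≤ R ⊔ T) h4)
    simpa using h5
  have htop : R ⊔ Q ⊔ T = ⊤ := by
    rw [eq_top_iff, ← sylow_sup_pResidual S]
    apply sup_le
    · exact hST.trans (sup_le (le_sup_left.trans le_sup_left) le_sup_right)
    · rw [hRQ]; exact le_sup_right.trans le_sup_left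
  have hTS : T ≤ (S : Subgroup X) := inf_le_left
  -- `T / (T ∩ R)` is faithful on `Q`
  have hTf : T ⊓ Cz Q ≤ R := by
    have hN : ⊤ ≤ Nz (R ⊔ (T ⊓ Cz Q)) := by
      rw [← htop]
      apply sup_le (sup_le _ _) _
      · exact le_sup_left.trans Subgroup.le_normalizer
      · apply le_Nz_sup (hNR Q)
        have : Q ≤ Cz (T ⊓ Cz Q) := Subgroup.le_centralizer_iff.mp inf_le_right
        exact this.trans (Quasi.Cz_le_Nz _)
      · apply le_Nz_sup (hNR T)
        exact le_Nz_inf Subgroup.le_normalizer (hTQ.trans (Off.Nz_le_Nz_Cz Q))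
    have hp : IsPGroup 2 ↥(R ⊔ (T ⊓ Cz Q)) := hSp.to_le (sup_le hRS (inf_le_left.trans hTS))
    exact le_sup_right.trans (le_pCore_of_normal hN hp)
  obtain ⟨kT, hkT⟩ := IsPGroup.iff_card.mp hTp
  -- irreducibility
  have hirr : ∀ P : Subgroup X, P ≤ Q → T ≤ Nz P → P = ⊥ ∨ P = Q := by
    intro P hPQ hTP
    have hPo : (Nat.card P).Coprime 2 := Nat.Coprime.coprime_dvd_left (Subgroup.card_dvd_of_le hPQ) hQo
    have hle : (S : Subgroup X) ≤ R ⊔ (P ⊔ T) := hST.trans (sup_le le_sup_left (le_sup_right.trans le_sup_right))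
    rcases coat _ hle with h | h
    · left
      have hPS : P ≤ (S : Subgroup X) := by rw [← h]; exact le_sup_left.trans le_sup_right
      obtain ⟨k, hk⟩ := IsPGroup.iff_card.mp (hSp.to_le hPS)
      rw [hk] at hPo
      rcases k with _ | k
      · exact Subgroup.card_eq_one.mp (by simpa using hk)
      · exfalso
        have : (2 : ℕ) ∣ 2 ^ (k + 1) := dvd_pow_self 2 (by omega)
        have h5 := Nat.Coprime.eq_one_of_dvd hPo.symm this
        omega
    · right
      apply Subgroup.eq_of_le_of_card_ge hPQ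
      have c1 := card_sup_mul hTP
      have c2 := card_sup_mul (hNR (P ⊔ T))
      rw [h] at c2
      have d1 : Nat.card Q ∣ Nat.card (⊤ : Subgroup X) := Subgroup.card_dvd_of_le le_top
      have d2 : Nat.card (⊤ : Subgroup X) ∣ Nat.card R * Nat.card ↥(P ⊔ T) := Dvd.intro _ c2
      have d3 : Nat.card ↥(P ⊔ T) ∣ Nat.card P * Nat.card T := Dvd.intro _ c1
      have d4 : Nat.card Q ∣ Nat.card R * (Nat.card P * Nat.card T) :=
        (d1.trans d2).trans (Nat.mul_dvd_mul_left _ d3)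
      have d5 : Nat.card Q ∣ Nat.card P * Nat.card T := hQR.dvd_of_dvd_mul_left d4
      have hQT : (Nat.card Q).Coprime (Nat.card T) := by rw [hkT]; exact Nat.Coprime.pow_right kT hQo
      exact Nat.le_of_dvd Nat.card_pos (hQT.dvd_of_dvd_mul_right d5)
  have hQne : Q ≠ ⊥ := by
    intro hb
    apply hStop
    rw [eq_top_iff, ← htop, hb]
    exact sup_le (sup_le hRS bot_le) hTS
  have hTQc : (Nat.card T).Coprime (Nat.card Q) := by rw [hkT]; exact Nat.Coprime.pow_left kT hQo.symm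
  have hQc' : ∀ a ∈ Q, ∀ b ∈ Q, a * b = b * a := by
    obtain ⟨q, hq, hqd⟩ := Nat.exists_prime_and_dvd (n := Nat.card Q) (by
      intro h
      exact hQne (Subgroup.card_eq_one.mp h))
    have : Fact q.Prime := ⟨hq⟩
    obtain ⟨P, hPQ, hPc, hTP⟩ := exists_invariant_sylow T Q hTQ hTQc (Or.inl (solvable_of_pGroup hTp)) q
    have hPne : P ≠ ⊥ := by
      intro hb
      rw [hb] at hPc
      simp only [Subgroup.card_bot] at hPc
      have hf : 0 < (Nat.card Q).factorization q :=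
        hq.factorization_pos_of_dvd Nat.card_pos.ne' hqd
      have : 1 < q ^ (Nat.card Q).factorization q := Nat.one_lt_pow hf.ne' hq.one_lt
      omega
    have hPQ' : P = Q := (hirr P hPQ hTP).resolve_left hPne
    have hQq : IsPGroup q ↥Q := by rw [← hPQ']; exact IsPGroup.of_card hPc
    have hlt := commutator_lt_of_solvable (solvable_of_pGroup hQq) hQne
    have hTc : T ≤ Nz ⁅Q, Q⁆ := Cfsg.Agent.Lib.Helper3.CopGen.norm_commutator hTQ
    have hbot : ⁅Q, Q⁆ = ⊥ := (hirr _ hlt.le hTc).resolve_right hlt.ne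
    intro a ha b hb
    have := (Subgroup.commutator_eq_bot_iff_le_centralizer.mp hbot) hb
    exact (Subgroup.mem_centralizer_iff.mp this) a ha
  -- the module `V = Ω₁(Z(R))`
  have hVn : (OmZ R).Normal := OmZ_normal hRn
  have hVc : ∀ a ∈ OmZ R, ∀ b ∈ OmZ R, a * b = b * a := OmZ_comm
  have hV2 : ∀ a ∈ OmZ R, a * a = 1 := fun a ha => ha.2.2
  have hZSR : (S : Subgroup X) ⊓ Cz (S : Subgroup X) ≤ R ⊓ Cz R := by
    intro z hz
    have hzR : z ∈ Cz R := Cz_anti hRS hz.2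
    exact ⟨h1 hzR, hzR⟩
  have hCV : Cz (OmZ R) = R := by
    apply le_antisymm _ (le_Cz_OmZ R)
    have hCn : (Cz (OmZ R)).Normal := Subgroup.normal_centralizer
    apply le_pCore_of_normal
    · rw [show Nz (Cz (OmZ R)) = ⊤ from Subgroup.normalizer_eq_top_iff.mpr hCn]
    · apply isPGroup_of_p'_trivial
      intro y hy hyo
      have h4 := cent_of_cent_OmZ hRp (hNR ⊤ (Subgroup.mem_top y)) hyo hy
      have h5 : y ∈ Cz ((S : Subgroup X) ⊓ Cz (S : Subgroup X)) := Cz_anti hZSR h4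
      have h6 : y ∈ (S : Subgroup X) := by
        rw [← hNZ]; exact Quasi.Cz_le_Nz _ h5
      exact eq_one_of_pGroup_of_coprime hSp h6 hyo
  -- an offender
  obtain ⟨A, hA, hAR⟩ : ∃ A ∈ PMax Pab (S : Subgroup X), ¬ A ≤ R := by
    by_contra hcon
    push Not at hcon
    have := J_normal hRn hRS hcon
    exact hJtop (Subgroup.normalizer_eq_top_iff.mpr this)
  have hAS : A ≤ (S : Subgroup X) := hA.1
  have hAab : A ≤ Cz A := Subgroup.le_centralizer_iff_isMulCommutative.mpr hA.2.1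
  have hAc : ∀ a ∈ A, ∀ b ∈ A, a * b = b * a := fun a ha b hb =>
    (Subgroup.mem_centralizer_iff.mp (hAab hb)) a ha
  have hNV : ∀ K : Subgroup X, K ≤ Nz (OmZ R) := fun K => by
    rw [show Nz (OmZ R) = ⊤ from Subgroup.normalizer_eq_top_iff.mpr hVn]; exact le_top
  have hVR : OmZ R ≤ R := fun v hv => hv.1
  have hoff : Nat.card ↥(A ⊓ Cz (OmZ R)) * Nat.card (OmZ R)
      ≤ Nat.card A * Nat.card ↥(OmZ R ⊓ Cz A) := by
    rw [hCV]
    have hab : OmZ R ⊔ (A ⊓ R) ≤ Cz (OmZ R ⊔ (A ⊓ R)) := by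
      rw [Cz_sup]
      apply sup_le
      · apply le_inf
        · intro v hv
          rw [Subgroup.mem_centralizer_iff]
          intro w hw
          exact hVc w hw v hv
        · exact Subgroup.le_centralizer_iff.mp (inf_le_right.trans (le_Cz_OmZ R))
      · exact le_inf (inf_le_right.trans (le_Cz_OmZ R)) ((inf_le_left.trans hAab).trans (Cz_anti inf_le_left))
    have hmax := hA.2.2 (OmZ R ⊔ (A ⊓ R)) (sup_le (hVR.trans hRS) (inf_le_left.trans hAS))
      (Subgroup.le_centralizer_iff_isMulCommutative.mp hab)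
    have c1 := card_sup_mul (hNV (A ⊓ R))
    have hsub : OmZ R ⊓ (A ⊓ R) ≤ OmZ R ⊓ Cz A :=
      inf_le_inf_left _ (inf_le_left.trans hAab)
    calc Nat.card ↥(A ⊓ R) * Nat.card (OmZ R) = Nat.card (OmZ R) * Nat.card ↥(A ⊓ R) := mul_comm _ _
      _ = Nat.card ↥(OmZ R ⊔ (A ⊓ R)) * Nat.card ↥(OmZ R ⊓ (A ⊓ R)) := c1.symm
      _ ≤ Nat.card A * Nat.card ↥(OmZ R ⊓ Cz A) :=
          Nat.mul_le_mul hmax (Subgroup.card_le_of_le hsub)
  obtain ⟨B, hBA, hBV, hB2, hBoff⟩ := quad_offender hVc hV2 (hNV A) hAc (hSp.to_le hAS)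
    (by rw [hCV]; exact hAR) hoff
  apply hfree
  exact offender_S4 (V := OmZ R) (Q := Q) (T := T) (B := B) hVc hV2 hQc' hQo
    (by rw [hCV]; exact (Subgroup.disjoint_of_coprime_natCard hQR).eq_bot) hTp hTQ
    (by rw [hCV]; exact hTf) (by rw [hCV]; exact (hBA.trans hAS).trans hST)
    (fun a ha b hb => hAc a (hBA ha) b (hBA hb)) hB2 hBV hBoff

end Cfsg.Agent.Lib.Helper6.Off5
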