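import Mathlib
import Cfsg.Agent.Lib.Helper6.Off5

set_option autoImplicit false
set_option linter.unusedSectionVars false
set_option maxHeartbeats 400000

/-! Thompson's normal `p`-complement theorem (abelian `J`, `p` odd or `S₄`-free). -/

namespace Cfsg.Agent.Lib.Helper6.Off6

open Cfsg.Agent.Lib.Helper6.Basic Cfsg.Agent.Lib.Helper6.Subn Cfsg.Agent.Lib.Helper6.Quasi
  Cfsg.Agent.Lib.Helper6.Rad Cfsg.Agent.Lib.Helper6.Off Cfsg.Agent.Lib.Helper6.Off2
  Cfsg.Agent.Lib.Helper6.Off3 Cfsg.Agent.Lib.Helper6.Off4 Cfsg.Agent.Lib.Helper6.Off5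
  Cfsg.Agent.Lib.Helper6.PAct Cfsg.Agent.Lib.Helper6.FStar
open Cfsg.Agent.Lib.Helper3.PLocal Cfsg.Agent.Lib.Helper1 Cfsg.Agent.Lib.Helper3.PStab
open scoped commutatorElement Pointwise

universe u
variable {X : Type u} [Group X]

theorem finalOdd [Finite X] {p : ℕ} [hp : Fact p.Prime] (hp2 : p ≠ 2) [hRn : (Cfsg.pCore p X).Normal]
    (h1 : Subgroup.centralizer (Cfsg.pCore p X : Set X) ≤ Cfsg.pCore p X)
    (h2 : Cfsg.HasNormalPComplement p (X ⧸ Cfsg.pCore p X))
    (h3 : ∀ P : Sylow p X, IsCoatom (P : Subgroup X))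
    (S : Sylow p X)
    (hZ : Cfsg.HasNormalPComplement p ↥(Nz ((S : Subgroup X) ⊓ Cz (S : Subgroup X))))
    (hJ : Cfsg.HasNormalPComplement p ↥(Nz (sSup (PMax Pab (S : Subgroup X))))) :
    Cfsg.HasNormalPComplement p X := by
  have hab := ab2_final hp2 h2 S (h3 S)
  have h4 := ZJ_ab hp2 h1 (fun B _ hB => pStableOn_of_ab2 hp2 hab B hB) S
  have h6 : (XX Pab (S : Subgroup X)).Normal := inferInstance
  have hCn : (Cz (XX Pab (S : Subgroup X))).Normal := Subgroup.normal_centralizer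
  have hZle : (S : Subgroup X) ⊓ Cz (S : Subgroup X) ≤ XX Pab (S : Subgroup X) := by
    apply le_sInf
    intro A hA z hz
    obtain ⟨hz1, hz2⟩ := Subgroup.mem_inf.mp hz
    have hz3 := Subgroup.mem_centralizer_iff.mp hz2
    exact mem_PMax_of_centralizes hA hz1 (fun a ha => hz3 a (hA.1 ha))
  rcases eq_or_lt_of_le (le_sup_right : (S : Subgroup X) ≤ Cz (XX Pab (S : Subgroup X)) ⊔ S) with h | h
  · -- `C(ZJ) ≤ S`
    have hCS : Cz (XX Pab (S : Subgroup X)) ≤ (S : Subgroup X) := le_sup_left.trans (le_of_eq h.symm)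
    have hall : ∀ A ∈ PMax Pab (S : Subgroup X), A ≤ Cz (XX Pab (S : Subgroup X)) := by
      intro A hA
      have hAab : A ≤ Cz A := Subgroup.le_centralizer_iff_isMulCommutative.mpr hA.2.1
      exact hAab.trans (Cz_anti (sInf_le hA))
    have := J_normal hCn hCS hall
    rw [show Nz (sSup (PMax Pab (S : Subgroup X))) = ⊤ from Subgroup.normalizer_eq_top_iff.mpr this] at hJ
    exact pn_top_iff.mp hJ
  · have htop := (h3 S).2 _ h
    have hle : (⊤ : Subgroup X) ≤ Nz ((S : Subgroup X) ⊓ Cz (S : Subgroup X)) := by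
      rw [← htop]
      apply sup_le
      · exact (Cz_anti hZle).trans (Quasi.Cz_le_Nz _)
      · exact fun s hs => mem_Nz_inf_Cz (Subgroup.le_normalizer hs) (Subgroup.le_normalizer hs)
    rw [show Nz ((S : Subgroup X) ⊓ Cz (S : Subgroup X)) = ⊤ from top_le_iff.mp hle] at hZ
    exact pn_top_iff.mp hZ

/-- the two functors `Z` and `J` -/
def WZJ : Bool → ∀ (Q : Type u) [Group Q], Subgroup Q
  | true => fun Q _ => Subgroup.center Q
  | false => fun Q _ => Cfsg.thompsonSubgroupA Q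

theorem map_maxAb {Q R : Type u} [Group Q] [Group R] (φ : Q ≃* R) {A : Subgroup Q}
    (hA : A ∈ Cfsg.maxAbelianSubgroups Q) : A.map φ.toMonoidHom ∈ Cfsg.maxAbelianSubgroups R := by
  obtain ⟨h1, h2⟩ := hA
  have hcard : ∀ (Q R : Type u) [Group Q] [Group R] (φ : Q ≃* R) (B : Subgroup Q),
      Nat.card (B.map φ.toMonoidHom) = Nat.card B := fun Q R _ _ φ B =>
    Subgroup.card_map_of_injective φ.injective
  have hcomm : ∀ (Q R : Type u) [Group Q] [Group R] (φ : Q ≃* R) (B : Subgroup Q),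
      IsMulCommutative B → IsMulCommutative (B.map φ.toMonoidHom) := by
    intro Q R _ _ φ B hB
    refine ⟨⟨?_⟩⟩
    rintro ⟨_, a, ha, rfl⟩ ⟨_, b, hb, rfl⟩
    apply Subtype.ext
    show φ.toMonoidHom a * φ.toMonoidHom b = φ.toMonoidHom b * φ.toMonoidHom a
    rw [← map_mul, ← map_mul]
    exact congrArg _ (congrArg Subtype.val (hB.is_comm.comm ⟨a, ha⟩ ⟨b, hb⟩))
  refine ⟨hcomm Q R φ A h1, ?_⟩
  intro B hB
  rw [hcard Q R φ A, ← hcard R Q φ.symm B]
  exact h2 _ (hcomm R Q φ.symm B hB)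

theorem isCharPFunctor_WZJ (p : ℕ) [hp : Fact p.Prime] (i : Bool) : Cfsg.IsCharPFunctor.{u} p (WZJ i) := by
  cases i with
  | true =>
    constructor
    · intro Q _ _ hQ hnt
      have := hQ.center_nontrivial
      exact (Subgroup.nontrivial_iff_ne_bot _).mp this
    · intro Q R _ _ _ hQ φ
      show (Subgroup.center Q).map φ.toMonoidHom = Subgroup.center R
      ext x
      constructor
      · rintro ⟨z, hz, rfl⟩
        rw [Subgroup.mem_center_iff]
        intro g
        obtain ⟨g', rfl⟩ := φ.surjective g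
        show φ g' * φ z = φ z * φ g'
        rw [← map_mul, ← map_mul, (Subgroup.mem_center_iff.mp hz) g']
      · intro hx
        refine ⟨φ.symm x, ?_, by simp⟩
        show φ.symm x ∈ Subgroup.center Q
        rw [Subgroup.mem_center_iff]
        intro g
        apply φ.injective
        rw [map_mul, map_mul, φ.apply_symm_apply]
        exact (Subgroup.mem_center_iff.mp hx) (φ g)
  | false =>
    constructor
    · intro Q _ _ hQ hnt
      show Cfsg.thompsonSubgroupA Q ≠ ⊥
      obtain ⟨x, hx⟩ := exists_ne (1 : Q)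
      obtain ⟨A, hA, hmax⟩ := Set.exists_max_image {A : Subgroup Q | IsMulCommutative A}
        (fun A => Nat.card A) (Set.toFinite _) ⟨Subgroup.zpowers x, by
          show IsMulCommutative (Subgroup.zpowers x)
          infer_instance⟩
      have hAm : A ∈ Cfsg.maxAbelianSubgroups Q := ⟨hA, fun B hB => hmax B hB⟩
      intro hbot
      have h1 : A ≤ Cfsg.thompsonSubgroupA Q := le_sSup hAm
      rw [hbot, le_bot_iff] at h1
      have h2 := hmax (Subgroup.zpowers x) (by
        show IsMulCommutative (Subgroup.zpowers x)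
        infer_instance)
      simp only [h1, Subgroup.card_bot] at h2
      have h3 : Subgroup.zpowers x = ⊥ := Subgroup.card_eq_one.mp (le_antisymm h2 Nat.card_pos)
      exact hx (Subgroup.zpowers_eq_bot.mp h3)
    · intro Q R _ _ _ hQ φ
      show (sSup (Cfsg.maxAbelianSubgroups Q)).map φ.toMonoidHom = sSup (Cfsg.maxAbelianSubgroups R)
      apply le_antisymm
      · rw [Subgroup.map_le_iff_le_comap]
        apply sSup_le
        intro A hA
        rw [← Subgroup.map_le_iff_le_comap]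
        exact le_sSup (map_maxAb φ hA)
      · apply sSup_le
        intro B hB
        have h1 := map_maxAb φ.symm hB
        have h2 : B = (B.map φ.symm.toMonoidHom).map φ.toMonoidHom := by
          rw [Subgroup.map_map]
          have : φ.toMonoidHom.comp φ.symm.toMonoidHom = MonoidHom.id R := by
            ext x; simp
          rw [this, Subgroup.map_id]
        rw [h2]
        exact Subgroup.map_mono (le_sSup h1)

theorem induced_center (S : Subgroup X) : Cfsg.inducedFunctor (WZJ true) S = S ⊓ Cz S := by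
  show (Subgroup.center ↥S).map S.subtype = S ⊓ Cz S
  ext x
  constructor
  · rintro ⟨z, hz, rfl⟩
    refine ⟨z.2, ?_⟩
    show (z : X) ∈ Cz S
    rw [Subgroup.mem_centralizer_iff]
    intro s hs
    exact congrArg Subtype.val ((Subgroup.mem_center_iff.mp hz) ⟨s, hs⟩)
  · rintro ⟨hx, hc⟩
    refine ⟨⟨x, hx⟩, ?_, rfl⟩
    show (⟨x, hx⟩ : ↥S) ∈ Subgroup.center ↥S
    rw [Subgroup.mem_center_iff]
    intro s
    exact Subtype.ext ((Subgroup.mem_centralizer_iff.mp hc) s.1 s.2)

theorem induced_J (S : Subgroup X) : Cfsg.inducedFunctor (WZJ false) S = sSup (PMax Pab S) := by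
  rw [← thompsonAOf_eq]; rfl

theorem mem_of_pow_mem_coprime {H : Subgroup X} {x : X} {a b : ℕ} (hab : Nat.Coprime a b)
    (ha : x ^ a ∈ H) (hb : x ^ b ∈ H) : x ∈ H := by
  have h := Nat.gcd_eq_gcd_ab a b
  rw [hab.gcd_eq_one] at h
  have h2 : x = (x ^ a) ^ (Nat.gcdA a b) * (x ^ b) ^ (Nat.gcdB a b) := by
    rw [← zpow_natCast, ← zpow_natCast, ← zpow_mul, ← zpow_mul, ← zpow_add, ← h]
    simp
  rw [h2]
  exact H.mul_mem (H.zpow_mem ha _) (H.zpow_mem hb _)

theorem Nz_sylow_le [Finite X] {p : ℕ} [hp : Fact p.Prime] (S : Sylow p X)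
    (hJ : Cfsg.HasNormalPComplement p ↥(Nz (sSup (PMax Pab (S : Subgroup X))))) :
    Nz (S : Subgroup X) ≤ Cz ((S : Subgroup X) ⊓ Cz (S : Subgroup X)) := by
  intro n hn
  have hSC : (S : Subgroup X) ≤ Cz ((S : Subgroup X) ⊓ Cz (S : Subgroup X)) :=
    Subgroup.le_centralizer_iff.mp inf_le_right
  have hNJ : Nz (S : Subgroup X) ≤ Nz (sSup (PMax Pab (S : Subgroup X))) := by
    rw [← induced_J]
    exact normalizer_le_normalizer_inducedFunctor (isCharPFunctor_WZJ p false) _ S.isPGroup'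
  have ho : orderOf n ≠ 0 := (orderOf_pos n).ne'
  apply mem_of_pow_mem_coprime (a := ordCompl[p] (orderOf n)) (b := ordProj[p] (orderOf n))
  · exact (Nat.Coprime.pow_left _ (Nat.coprime_ordCompl hp.out ho)).symm
  · apply hSC
    have h1 : (n ^ (ordCompl[p] (orderOf n))) ^ (p ^ (orderOf n).factorization p) = 1 := by
      rw [← pow_mul, mul_comm, Nat.ordProj_mul_ordCompl_eq_self]
      exact pow_orderOf_eq_one n
    have h2 : IsPGroup p ↥(Subgroup.zpowers (n ^ (ordCompl[p] (orderOf n)))) := by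
      rintro ⟨x, hx⟩
      obtain ⟨j, rfl⟩ := Subgroup.mem_zpowers_iff.mp hx
      refine ⟨(orderOf n).factorization p, Subtype.ext ?_⟩
      show ((n ^ (ordCompl[p] (orderOf n))) ^ j) ^ (p ^ (orderOf n).factorization p) = 1
      rw [← zpow_natCast, ← zpow_mul, mul_comm, zpow_mul, zpow_natCast, h1, one_zpow]
    have h3 := h2.inf_normalizer_sylow S
    have h4 : n ^ (ordCompl[p] (orderOf n)) ∈
        Subgroup.zpowers (n ^ (ordCompl[p] (orderOf n))) ⊓ Nz (S : Subgroup X) :=
      ⟨Subgroup.mem_zpowers _, (Nz (S : Subgroup X)).pow_mem hn _⟩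
    have h5 : n ^ (ordCompl[p] (orderOf n)) ∈
        Subgroup.zpowers (n ^ (ordCompl[p] (orderOf n))) ⊓ (S : Subgroup X) := by
      rw [← h3]; exact h4
    exact h5.2
  · apply Cz_anti (inf_le_left : (S : Subgroup X) ⊓ Cz (S : Subgroup X) ≤ S)
    have hmem : n ^ (ordProj[p] (orderOf n)) ∈ Nz (S : Subgroup X) := (Nz (S : Subgroup X)).pow_mem hn _
    refine (pn_subgroup_iff _).mp hJ S (Subgroup.le_normalizer.trans hNJ) S.isPGroup' _ (hNJ hmem) hmem ?_
    rw [orderOf_pow_of_dvd (pow_ne_zero _ hp.out.ne_zero) (Nat.ordProj_dvd _ _)]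
    exact (Nat.coprime_ordCompl hp.out ho).symm

theorem Nz_center_le [Finite X] {p : ℕ} [hp : Fact p.Prime] (S : Sylow p X)
    (hJ : Cfsg.HasNormalPComplement p ↥(Nz (sSup (PMax Pab (S : Subgroup X))))) :
    Nz ((S : Subgroup X) ⊓ Cz (S : Subgroup X)) ≤ Cz ((S : Subgroup X) ⊓ Cz (S : Subgroup X)) := by
  intro g hg
  have hSC : (S : Subgroup X) ≤ Cz ((S : Subgroup X) ⊓ Cz (S : Subgroup X)) :=
    Subgroup.le_centralizer_iff.mp inf_le_right
  have hmap : ((S.subtype hSC : Sylow p _) : Subgroup _).map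
      (Cz ((S : Subgroup X) ⊓ Cz (S : Subgroup X))).subtype = S := by
    rw [Sylow.coe_subtype, Subgroup.subgroupOf_map_subtype]
    exact inf_eq_left.mpr hSC
  have hgS : cj g (S : Subgroup X) ≤ Cz ((S : Subgroup X) ⊓ Cz (S : Subgroup X)) := by
    calc cj g (S : Subgroup X) ≤ cj g (Cz ((S : Subgroup X) ⊓ Cz (S : Subgroup X))) := cj_mono hSC
      _ = Cz (cj g ((S : Subgroup X) ⊓ Cz (S : Subgroup X))) := cj_centralizer g _
      _ = _ := by rw [cj_eq_self_iff.mpr hg]
  obtain ⟨c, hc, hle⟩ := exists_mem_le_cj_of_sylow (S.subtype hSC) (isPGroup_cj S.isPGroup' g) hgS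
  rw [hmap] at hle
  have heq : cj g (S : Subgroup X) = cj c (S : Subgroup X) :=
    Subgroup.eq_of_le_of_card_ge hle (by rw [card_cj, card_cj])
  have hn : c⁻¹ * g ∈ Nz (S : Subgroup X) := by
    rw [← cj_eq_self_iff, ← cj_cj, heq, cj_inv_cj]
  have := (Cz ((S : Subgroup X) ⊓ Cz (S : Subgroup X))).mul_mem hc (Nz_sylow_le S hJ hn)
  simpa using this

theorem thompson_main {G : Type u} [Group G] [Finite G] {p : ℕ} [hp : Fact p.Prime] (S : Sylow p G)
    (h : p ≠ 2 ∨ ¬ Cfsg.Involves (Equiv.Perm (Fin 4)) G)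
    (hC : Cfsg.HasNormalPComplement p ↥(Cz ((S : Subgroup G) ⊓ Cz (S : Subgroup G))))
    (hN : Cfsg.HasNormalPComplement p ↥(Nz (Cfsg.thompsonSubgroupAOf (S : Subgroup G)))) :
    Cfsg.HasNormalPComplement p G := by
  have hN' : Cfsg.HasNormalPComplement p ↥(Nz (sSup (PMax Pab (S : Subgroup G)))) := by
    rw [← thompsonAOf_eq]; exact hN
  refine functor_main (ι := Bool) (W := WZJ) (isCharPFunctor_WZJ p)
    (fun X _ => p ≠ 2 ∨ ¬ Cfsg.Involves (Equiv.Perm (Fin 4)) X) ?_ ?_ ?_ _ G rfl h ⟨S, fun i => ?_⟩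
  · intro Y _ hY L
    exact hY.imp id (fun h1 h2 => h1 (involves_of_subgroup L h2))
  · intro Y _ hY N _
    exact hY.imp id (fun h1 h2 => h1 (involves_of_quotient N h2))
  · intro Y _ _ _ hY _ h1 h2 h3 hHyp
    obtain ⟨S'⟩ : Nonempty (Sylow p Y) := inferInstance
    have hZ := hHyp.all (isCharPFunctor_WZJ p) S' true
    have hJ := hHyp.all (isCharPFunctor_WZJ p) S' false
    rw [induced_center] at hZ
    rw [induced_J] at hJ
    by_cases hp2 : p = 2
    · subst hp2
      exact final2 h1 h2 h3 S' hZ hJ (hY.resolve_left (fun hne => hne rfl))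
    · exact finalOdd hp2 h1 h2 h3 S' hZ hJ
  · cases i with
    | true =>
      rw [induced_center]
      have : Nz ((S : Subgroup G) ⊓ Cz (S : Subgroup G)) = Cz ((S : Subgroup G) ⊓ Cz (S : Subgroup G)) :=
        le_antisymm (Nz_center_le S hN') (Quasi.Cz_le_Nz _)
      rw [show Subgroup.normalizer (((S : Subgroup G) ⊓ Cz (S : Subgroup G) : Subgroup G) : Set G)
        = Cz ((S : Subgroup G) ⊓ Cz (S : Subgroup G)) from this]
      exact hC
    | false =>
      rw [induced_J]
      exact hN'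

end Cfsg.Agent.Lib.Helper6.Off6
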