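import Mathlib
import Cfsg.Prelude.Def_LocalStructure
import Cfsg.Agent.Lib.Helper6.WClosed

namespace Cfsg.Agent.Lib.Helper6.PIrr

open Cfsg.Agent.Lib.Helper6.Basic Cfsg.Agent.Lib.Helper6.Subn Cfsg.Agent.Lib.Helper6.Quasi Cfsg.Agent.Lib.Helper6.Comp Cfsg.Agent.Lib.Helper6.Rad Cfsg.Agent.Lib.Helper6.Nil Cfsg.Agent.Lib.Helper6.FStar Cfsg.Agent.Lib.Helper6.FStar2 Cfsg.Agent.Lib.Helper6.PAct Cfsg.Agent.Lib.Helper6.CharP Cfsg.Agent.Lib.Helper6.Ores Cfsg.Agent.Lib.Helper6.Trace Cfsg.Agent.Lib.Helper6.PRed Cfsg.Agent.Lib.Helper6.WClosed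
open scoped commutatorElement Pointwise

variable {G : Type*} [Group G]

/-- p-closed, for a subgroup of an ambient group. -/
def PC (p : ℕ) (K : Subgroup G) : Prop := Syl p (Op p K) K

theorem PC.of_syl [Finite G] {p : ℕ} [Fact p.Prime] {S K : Subgroup G} (h : Syl p S K)
    (hn : K ≤ Nz S) : PC p K := by
  have h1 : S ≤ Op p K := le_Op_of_sn (SN.of_normal h.le hn) h.isPGroup
  have h2 : S = Op p K := le_antisymm h1 h.Op_le
  unfold PC
  rw [← h2]; exact h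

theorem PC.eq [Finite G] {p : ℕ} [Fact p.Prime] {S K : Subgroup G} (h : PC p K)
    (hS : Syl p S K) : S = Op p K :=
  (Syl.eq_of_le h hS.isPGroup hS.le hS.Op_le).symm

theorem PC.le_Op [Finite G] {p : ℕ} [Fact p.Prime] {R K : Subgroup G} (h : PC p K)
    (hR : IsPGroup p ↥R) (hRK : R ≤ K) : R ≤ Op p K := by
  obtain ⟨k, hk, hle⟩ := Syl.exists_le_cj h hR hRK
  rwa [cj_eq_self_iff.2 (le_Nz_Op p K hk)] at hle

theorem pc_iff [Finite G] {p : ℕ} [Fact p.Prime] {K : Subgroup G} :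
    PC p K ↔ ∀ R : Subgroup G, R ≤ K → IsPGroup p ↥R → R ≤ Op p K := by
  constructor
  · intro h R hRK hR
    exact h.le_Op hR hRK
  · intro h
    obtain ⟨S, hS⟩ := exists_syl p K
    have h1 := h S hS.le hS.isPGroup
    have h2 : S = Op p K := le_antisymm h1 hS.Op_le
    unfold PC
    rw [← h2]; exact hS

theorem PC.mono [Finite G] {p : ℕ} [Fact p.Prime] {X K : Subgroup G} (h : PC p K)
    (hX : X ≤ K) : PC p X := by
  rw [pc_iff]
  intro R hRX hR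
  have h1 : R ≤ Op p K ⊓ X := le_inf (h.le_Op hR (hRX.trans hX)) hRX
  refine h1.trans ?_
  apply le_Op_of_sn
  · apply SN.of_normal inf_le_right
    exact le_Nz_inf (hX.trans (le_Nz_Op p K)) Subgroup.le_normalizer
  · exact (Op_isPGroup p K).to_le inf_le_left

theorem isPGroup_zpowers {p : ℕ} {x : G} (h : ∃ k : ℕ, x ^ (p ^ k) = 1) :
    IsPGroup p ↥(Subgroup.zpowers x) := by
  obtain ⟨k, hk⟩ := h
  rintro ⟨y, hy⟩
  obtain ⟨n, rfl⟩ := Subgroup.mem_zpowers_iff.1 hy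
  refine ⟨k, ?_⟩
  apply Subtype.ext
  show (x ^ n) ^ (p ^ k) = 1
  rw [← zpow_natCast, ← zpow_mul, mul_comm, zpow_mul, zpow_natCast, hk, one_zpow]

theorem pc_iff_mul [Finite G] {p : ℕ} [Fact p.Prime] {K : Subgroup G} :
    PC p K ↔ ∀ x ∈ K, ∀ y ∈ K, (∃ k : ℕ, x ^ (p ^ k) = 1) → (∃ k : ℕ, y ^ (p ^ k) = 1) →
      ∃ k : ℕ, (x * y) ^ (p ^ k) = 1 := by
  constructor
  · intro h x hx y hy hxp hyp
    have h1 : x ∈ Op p K :=
      h.le_Op (isPGroup_zpowers hxp) (by rwa [Subgroup.zpowers_le]) (Subgroup.mem_zpowers x)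
    have h2 : y ∈ Op p K :=
      h.le_Op (isPGroup_zpowers hyp) (by rwa [Subgroup.zpowers_le]) (Subgroup.mem_zpowers y)
    obtain ⟨k, hk⟩ := Op_isPGroup p K ⟨x * y, (Op p K).mul_mem h1 h2⟩
    exact ⟨k, by simpa using congrArg Subtype.val hk⟩
  · intro h
    let P : Subgroup G :=
      { carrier := {x | x ∈ K ∧ ∃ k : ℕ, x ^ (p ^ k) = 1}
        one_mem' := ⟨K.one_mem, 0, by simp⟩
        mul_mem' := fun {a b} ha hb => ⟨K.mul_mem ha.1 hb.1, h a ha.1 b hb.1 ha.2 hb.2⟩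
        inv_mem' := fun {a} ha => ⟨K.inv_mem ha.1, by
          obtain ⟨k, hk⟩ := ha.2
          exact ⟨k, by rw [inv_pow, hk, inv_one]⟩⟩ }
    have hP : IsPGroup p ↥P := by
      rintro ⟨x, hx⟩
      obtain ⟨k, hk⟩ := hx.2
      exact ⟨k, Subtype.ext hk⟩
    have hPK : P ≤ K := fun x hx => hx.1
    obtain ⟨S, hS⟩ := exists_syl p K
    have hSP : S ≤ P := by
      intro x hx
      refine ⟨hS.le hx, ?_⟩
      obtain ⟨k, hk⟩ := hS.isPGroup ⟨x, hx⟩
      exact ⟨k, by simpa using congrArg Subtype.val hk⟩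
    have e : S = P := hS.eq_of_le hP hPK hSP
    apply PC.of_syl hS
    rw [e]
    apply le_Nz_of_cj_le
    intro y hy x hx
    rw [mem_cj] at hx
    have hxK : x ∈ K := by
      have : x = y * (y⁻¹ * x * y) * y⁻¹ := by group
      rw [this]
      exact K.mul_mem (K.mul_mem hy hx.1) (K.inv_mem hy)
    refine ⟨hxK, ?_⟩
    obtain ⟨k, hk⟩ := hx.2
    refine ⟨k, ?_⟩
    have : (y⁻¹ * x * y) ^ (p ^ k) = y⁻¹ * x ^ (p ^ k) * y := by
      have := conj_pow (a := y⁻¹) (b := x) (i := p ^ k)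
      simpa using this
    rw [this] at hk
    have : x ^ (p ^ k) = y * (y⁻¹ * x ^ (p ^ k) * y) * y⁻¹ := by group
    rw [this, hk]; group

theorem pc_bridge [Finite G] {p : ℕ} [Fact p.Prime] {K : Subgroup G} :
    Cfsg.IsPClosed p ↥K ↔ PC p K := by
  constructor
  · intro h
    obtain ⟨S, hS⟩ := exists_syl p K
    obtain ⟨P, hP⟩ := hS.exists_sylow'
    apply PC.of_syl hS
    rw [← hP]
    exact normal_iff_map'.1 (h P)
  · intro h P
    rw [normal_iff_map', h.eq (syl_of_sylow' P)]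
    exact le_Nz_Op p K

theorem pc_top_bridge [Finite G] {p : ℕ} [Fact p.Prime] :
    Cfsg.IsPClosed p G ↔ PC p (⊤ : Subgroup G) := by
  constructor
  · intro h
    obtain ⟨S, hS⟩ := exists_syl p (⊤ : Subgroup G)
    obtain ⟨P, hP⟩ := hS.exists_sylow_top
    apply PC.of_syl hS
    rw [← hP]
    exact top_le_Nz (h P)
  · intro h P
    apply normal_of_top_le_Nz
    rw [h.eq (syl_of_sylow P)]
    exact le_Nz_Op p _

theorem pc_map_iff [Finite G] {p : ℕ} [Fact p.Prime] {K : Subgroup G} {N : Subgroup ↥K} :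
    PC p N ↔ PC p (N.map K.subtype) := by
  rw [pc_iff_mul, pc_iff_mul]
  constructor
  · rintro h _ ⟨x, hx, rfl⟩ _ ⟨y, hy, rfl⟩ ⟨k, hk⟩ ⟨l, hl⟩
    obtain ⟨m, hm⟩ := h x hx y hy ⟨k, Subtype.ext (by simpa using hk)⟩
      ⟨l, Subtype.ext (by simpa using hl)⟩
    exact ⟨m, by simpa using congrArg Subtype.val hm⟩
  · rintro h x hx y hy ⟨k, hk⟩ ⟨l, hl⟩
    obtain ⟨m, hm⟩ := h x ⟨x, hx, rfl⟩ y ⟨y, hy, rfl⟩ ⟨k, by simpa using congrArg Subtype.val hk⟩
      ⟨l, by simpa using congrArg Subtype.val hl⟩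
    exact ⟨m, Subtype.ext (by simpa using hm)⟩

theorem pc_bridge' [Finite G] {p : ℕ} [Fact p.Prime] {K : Subgroup G} {N : Subgroup ↥K} :
    Cfsg.IsPClosed p ↥N ↔ PC p (N.map K.subtype) := by
  rw [pc_bridge, pc_map_iff]

/-- p-irreducible, for a subgroup of an ambient group. -/
def PI (p : ℕ) (K : Subgroup G) : Prop :=
  ¬ PC p K ∧ ∀ N : Subgroup G, N ≤ K → K ≤ Nz N → ¬ PC p N → Ores p K ≤ N

theorem pi_top_bridge [Finite G] {p : ℕ} [Fact p.Prime] :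
    Cfsg.IsPIrreducible p G ↔ PI p (⊤ : Subgroup G) := by
  unfold Cfsg.IsPIrreducible PI
  rw [pc_top_bridge, pResidual_eq]
  constructor
  · rintro ⟨h1, h2⟩
    refine ⟨h1, fun N _ hN hc => h2 N (normal_of_top_le_Nz hN) (fun h => hc (pc_bridge.1 h))⟩
  · rintro ⟨h1, h2⟩
    refine ⟨h1, fun N hN hc => h2 N le_top (top_le_Nz hN) (fun h => hc (pc_bridge.2 h))⟩

theorem pi_bridge [Finite G] {p : ℕ} [Fact p.Prime] {K : Subgroup G} :
    Cfsg.IsPIrreducible p ↥K ↔ PI p K := by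
  unfold Cfsg.IsPIrreducible PI
  rw [pc_bridge]
  constructor
  · rintro ⟨h1, h2⟩
    refine ⟨h1, fun N hNK hN hc => ?_⟩
    have e : (N.subgroupOf K).map K.subtype = N := by
      rw [Subgroup.map_subgroupOf_eq_of_le hNK]
    have := h2 (N.subgroupOf K) (normal_iff_map'.2 (by rw [e]; exact hN))
      (fun h => hc (by rw [← e]; exact pc_bridge'.1 h))
    have h3 := Subgroup.map_mono (f := K.subtype) this
    rwa [map_pResidual, e] at h3
  · rintro ⟨h1, h2⟩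
    refine ⟨h1, fun N hN hc => ?_⟩
    have := h2 (N.map K.subtype) (Subgroup.map_subtype_le N) (normal_iff_map'.1 hN)
      (fun h => hc (pc_bridge'.2 h))
    rw [← map_pResidual] at this
    exact (Subgroup.map_le_map_iff_of_injective K.subtype_injective).1 this

theorem PC.of_normal [Finite G] {p : ℕ} [Fact p.Prime] {N K T : Subgroup G} (hT : Syl p T K)
    (hTN : T ≤ N) (hNK : N ≤ K) (hn : K ≤ Nz N) (h : PC p N) : PC p K := by
  apply PC.of_syl hT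
  rw [h.eq (hT.of_le hTN hNK)]
  exact hn.trans (Nz_le_Nz_Op p N)

theorem PI.Ores_le [Finite G] {p : ℕ} [Fact p.Prime] {N K Y : Subgroup G} (h : PI p K)
    (hN : N ≤ K) (hn : K ≤ Nz N) (hY : IsPGroup p ↥Y) (hYN : Y ≤ N) (hYO : ¬ Y ≤ Op p K) :
    Ores p K ≤ N := by
  apply h.2 N hN hn
  intro hc
  exact hYO ((hc.le_Op hY hYN).trans (Op_sn (SN.of_normal hN hn)))

theorem PI.NC_syl [Finite G] {p : ℕ} [Fact p.Prime] {K T : Subgroup G} (h : PI p K)
    (hT : Syl p T K) : NC T K = K := by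
  have h1 : NC T K ≤ K := NC_le hT.le Subgroup.le_normalizer
  apply le_antisymm h1
  have h2 : Ores p K ≤ NC T K := by
    apply h.2 _ h1 (le_Nz_NC T K)
    intro hc
    exact h.1 (PC.of_normal hT (le_NC T K) h1 (le_Nz_NC T K) hc)
  calc K = Ores p K ⊔ T := hT.sup_Ores.symm
    _ ≤ NC T K := sup_le h2 (le_NC T K)

theorem le_Nz_comm_sup (A Y : Subgroup G) : A ≤ Nz (⁅A, Y⁆ ⊔ Y) := by
  apply le_Nz_of_cj_le
  intro a ha
  rw [cj_sup]
  apply sup_le
  · rw [cj_eq_self_iff.2 (Subgroup.normalizer_commutator_ge_left A Y ha)]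
    exact le_sup_left
  · intro x hx
    rw [mem_cj] at hx
    have : x = ⁅a, a⁻¹ * x * a⁆ * (a⁻¹ * x * a) := by
      rw [commutatorElement_def]; group
    rw [this]
    exact Subgroup.mul_mem _ (Subgroup.mem_sup_left (Subgroup.commutator_mem_commutator ha hx))
      (Subgroup.mem_sup_right hx)

theorem PI.comm_eq [Finite G] {p : ℕ} [Fact p.Prime] {K T Y : Subgroup G} (h : PI p K)
    (hT : Syl p T K) (hYT : Y ≤ T) (hTY : T ≤ Nz Y) (hYO : ¬ Y ≤ Op p K) :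
    ⁅Ores p K, Y⁆ = Ores p K := by
  have hYp : IsPGroup p ↥Y := hT.isPGroup.to_le hYT
  have hYK : Y ≤ K := hYT.trans hT.le
  have h1 : ⁅Ores p K, Y⁆ ≤ Ores p K := comm_le_of_Nz' le_rfl (hYK.trans (le_Nz_Ores p K))
  apply le_antisymm h1
  have hTR : T ≤ Nz ⁅Ores p K, Y⁆ := le_Nz_comm (hT.le.trans (le_Nz_Ores p K)) hTY
  have h2 : K ≤ Nz (⁅Ores p K, Y⁆ ⊔ Y) :=
    calc K = Ores p K ⊔ T := hT.sup_Ores.symm
      _ ≤ Nz (⁅Ores p K, Y⁆ ⊔ Y) := sup_le (le_Nz_comm_sup _ _) (le_Nz_sup hTR hTY)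
  have h3 : Ores p K ≤ ⁅Ores p K, Y⁆ ⊔ Y :=
    h.Ores_le (sup_le (h1.trans (Ores.Ores_le p K)) hYK) h2 hYp le_sup_right hYO
  have h4 := Ores_mono (p := p) h3
  rw [Ores_Ores, Ores_sup_pGroup hYp (Subgroup.normalizer_commutator_ge_right _ _)] at h4
  exact h4.trans (Ores.Ores_le p _)

theorem relIndex_sup_eq [Finite G] {D X : Subgroup G} (hD : X ≤ Nz D) :
    X.relIndex (D ⊔ X) = (D ⊓ X).relIndex D := by
  have h1 := card_sup_mul (M := D) (N := X) hD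
  have h2 := relIndex_mul_card' (le_sup_right : X ≤ D ⊔ X)
  have h3 := relIndex_mul_card' (inf_le_left : D ⊓ X ≤ D)
  have hX : 0 < Nat.card X := Nat.card_pos
  have hI : 0 < Nat.card (D ⊓ X : Subgroup G) := Nat.card_pos
  have h4 : X.relIndex (D ⊔ X) * (Nat.card X * Nat.card (D ⊓ X : Subgroup G)) =
      (D ⊓ X).relIndex D * (Nat.card X * Nat.card (D ⊓ X : Subgroup G)) := by
    calc X.relIndex (D ⊔ X) * (Nat.card X * Nat.card (D ⊓ X : Subgroup G))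
        = (X.relIndex (D ⊔ X) * Nat.card X) * Nat.card (D ⊓ X : Subgroup G) := by ring
      _ = Nat.card D * Nat.card X := by rw [h2, h1]
      _ = ((D ⊓ X).relIndex D * Nat.card (D ⊓ X : Subgroup G)) * Nat.card X := by rw [h3]
      _ = _ := by ring
  exact Nat.eq_of_mul_eq_mul_right (Nat.mul_pos hX hI) h4

theorem index_pCore [Finite G] (p : ℕ) (N : Subgroup G) :
    Nat.card (↥N ⧸ Cfsg.pCore p ↥N) = (Op p N).relIndex N := by
  rw [← Subgroup.index_eq_card, ← map_pCore]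
  unfold Subgroup.relIndex
  congr 1
  ext x
  simp [Subgroup.mem_subgroupOf]

section MO

variable {L : Type*} [Group L]

theorem isCoatom_cj {M : Subgroup L} (hM : IsCoatom M) (g : L) : IsCoatom (cj g M) := by
  refine ⟨fun h => hM.1 ?_, fun b hb => ?_⟩
  · rw [cj_eq_iff, cj_top] at h; exact h
  · have h1 : M < cj g⁻¹ b := by
      refine lt_of_le_of_ne (cj_le_iff.1 hb.le) ?_
      intro e
      apply hb.ne
      rw [e, cj_cj_inv]
    have h2 := hM.2 _ h1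
    rw [cj_eq_iff, cj_top] at h2
    simpa using h2

theorem MO.le_of_ne_top [Finite L] {Y M X : Subgroup L} (h : Cfsg.IsMinimalOver Y)
    (hM : IsCoatom M) (hYM : Y ≤ M) (hYX : Y ≤ X) (hX : X ≠ ⊤) : X ≤ M := by
  obtain ⟨M', hM', hXM'⟩ := (eq_top_or_exists_le_coatom X).resolve_left hX
  obtain ⟨M0, _, huniq⟩ := h.2
  have e1 := huniq M ⟨hM, hYM⟩
  have e2 := huniq M' ⟨hM', hYX.trans hXM'⟩
  rw [e1, ← e2]; exact hXM'

theorem MO.eq_of_coatom {Y M M' : Subgroup L} (h : Cfsg.IsMinimalOver Y)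
    (hM : IsCoatom M) (hYM : Y ≤ M) (hM' : IsCoatom M') (hYM' : Y ≤ M') : M' = M := by
  obtain ⟨M0, _, huniq⟩ := h.2
  rw [huniq M ⟨hM, hYM⟩, huniq M' ⟨hM', hYM'⟩]

theorem MO.not_normal {Y M R : Subgroup L} (h : Cfsg.IsMinimalOver Y)
    (hM : IsCoatom M) (hYR : Y ≤ R) (hRM : R ≤ M) : ¬ ⊤ ≤ Nz R := by
  intro hn
  apply hM.1
  have h1 : NC Y ⊤ ≤ R := NC_le hYR hn
  rw [← normalClosure_eq, h.1] at h1
  exact top_le_iff.1 (h1.trans hRM)

theorem MO.Nz_le [Finite L] {Y M R : Subgroup L} (h : Cfsg.IsMinimalOver Y)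
    (hM : IsCoatom M) (hYR : Y ≤ R) (hRM : R ≤ M) : Nz R ≤ M :=
  MO.le_of_ne_top h hM (hYR.trans hRM) (hYR.trans Subgroup.le_normalizer)
    (fun e => MO.not_normal h hM hYR hRM e.ge)

theorem MO.Nz_eq [Finite L] {Y M : Subgroup L} (h : Cfsg.IsMinimalOver Y)
    (hM : IsCoatom M) (hYM : Y ≤ M) : Nz M = M :=
  le_antisymm (MO.Nz_le h hM hYM le_rfl) Subgroup.le_normalizer

theorem MO.sup_cj [Finite L] {Y M : Subgroup L} (h : Cfsg.IsMinimalOver Y)
    (hM : IsCoatom M) (hYM : Y ≤ M) {g : L} (hg : g ∉ M) : Y ⊔ cj g Y = ⊤ := by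
  by_contra hne
  have h1 := MO.le_of_ne_top h hM hYM le_sup_left hne
  have h2 : cj g Y ≤ M := le_sup_right.trans h1
  have h3 : Y ≤ cj g⁻¹ M := cj_le_iff.1 h2
  have h4 := MO.eq_of_coatom h hM hYM (isCoatom_cj hM g⁻¹) h3
  have h5 : g⁻¹ ∈ Nz M := cj_eq_self_iff.1 h4
  rw [MO.Nz_eq h hM hYM] at h5
  exact hg (by simpa using M.inv_mem h5)

theorem MO.syl [Finite L] {p : ℕ} [Fact p.Prime] {Y M T : Subgroup L}
    (h : Cfsg.IsMinimalOver Y) (hM : IsCoatom M) (hT : Syl p T M) (hYT : Y ≤ T) :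
    Syl p T ⊤ := by
  obtain ⟨P, hP, hTP⟩ := exists_syl_ge (K := ⊤) hT.isPGroup le_top
  have e : T = P := by
    by_contra hne
    have hlt : T < P := lt_of_le_of_ne hTP hne
    obtain ⟨s, hsP, hsT, hsN⟩ := exists_mem_Nz_of_lt hP.isPGroup.isNilpotent hlt
    have hsM : s ∈ M := MO.Nz_le h hM hYT hT.le hsN
    have h1 : T ⊔ Subgroup.zpowers s ≤ P := sup_le hTP (by rwa [Subgroup.zpowers_le])
    have h2 := hT.eq_of_le (hP.isPGroup.to_le h1) (sup_le hT.le (by rwa [Subgroup.zpowers_le]))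
      le_sup_left
    apply hsT
    rw [h2]
    exact Subgroup.mem_sup_right (Subgroup.mem_zpowers s)
  rw [e]; exact hP

theorem MO.of_le [Finite L] {Y Y' M : Subgroup L} (h : Cfsg.IsMinimalOver Y)
    (hM : IsCoatom M) (hYY : Y ≤ Y') (hYM : Y' ≤ M) : Cfsg.IsMinimalOver Y' := by
  refine ⟨?_, M, ⟨hM, hYM⟩, ?_⟩
  · rw [← top_le_iff, ← h.1]
    exact Subgroup.normalClosure_mono hYY
  · rintro M' ⟨hM', hY'⟩
    exact MO.eq_of_coatom h hM (hYY.trans hYM) hM' (hYY.trans hY')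

theorem Cz_top : Cz (⊤ : Subgroup L) = Subgroup.center L := by
  show Subgroup.centralizer ((⊤ : Subgroup L) : Set L) = _
  rw [Subgroup.coe_top, Subgroup.centralizer_univ]

theorem le_Cz_self_of_comm {Y : Subgroup L} (h : IsMulCommutative ↥Y) : Y ≤ Cz Y := by
  intro a ha
  rw [Subgroup.mem_centralizer_iff]
  intro b hb
  have := h.is_comm.comm ⟨b, hb⟩ ⟨a, ha⟩
  exact congrArg Subtype.val this

theorem MO.inf_cj [Finite L] {Y M : Subgroup L} (h : Cfsg.IsMinimalOver Y)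
    (hM : IsCoatom M) (hYM : Y ≤ M) (hab : Y ≤ Cz Y) {g : L} (hg : g ∉ M) :
    Y ⊓ cj g Y = Y ⊓ Subgroup.center L := by
  apply le_antisymm
  · rintro y ⟨h1, h2⟩
    refine ⟨h1, ?_⟩
    show y ∈ Subgroup.center L
    rw [← Cz_top, ← MO.sup_cj h hM hYM hg, Cz_sup]
    refine ⟨hab h1, ?_⟩
    have := cj_mono (g := g) hab
    rw [cj_centralizer] at this
    exact this h2
  · rintro y ⟨h1, h2⟩
    refine ⟨h1, ?_⟩
    show y ∈ cj g Y
    rw [mem_cj]
    have h3 : g * y = y * g := (Subgroup.mem_center_iff.1 h2 g)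
    have : g⁻¹ * y * g = y := by rw [mul_assoc, ← h3]; group
    rwa [this]

theorem isCoatom_map_of_ker_le {L' : Type*} [Group L'] {φ : L →* L'}
    (hφ : Function.Surjective φ) {M : Subgroup L} (hM : IsCoatom M) (hk : φ.ker ≤ M) :
    IsCoatom (M.map φ) := by
  have e : (M.map φ).comap φ = M := Subgroup.comap_map_eq_self hk
  refine ⟨fun h => hM.1 ?_, fun K hK => ?_⟩
  · rw [← e, h, Subgroup.comap_top]
  · have h1 : M < K.comap φ := by
      rw [← e]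
      exact (Subgroup.comap_lt_comap_of_surjective hφ).2 hK
    have h2 := hM.2 _ h1
    rw [← Subgroup.map_comap_eq_self_of_surjective hφ K, h2,
      Subgroup.map_top_of_surjective φ hφ]

theorem MO.inf_normal [Finite L] {p : ℕ} [Fact p.Prime] {Y M T N : Subgroup L}
    (h : Cfsg.IsMinimalOver Y) (hM : IsCoatom M) (hT : Syl p T ⊤) (hYT : Y ≤ T) (hTM : T ≤ M)
    (hN : ⊤ ≤ Nz N) (hNM : N ≤ M) : ⊤ ≤ Nz (T ⊓ N) := by
  by_contra hne
  have hTN : Syl p (T ⊓ N) N := hT.inf_normal le_top hN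
  have h2 : Nz (T ⊓ N) ≤ M :=
    MO.le_of_ne_top h hM (hYT.trans hTM)
      (hYT.trans (le_Nz_inf Subgroup.le_normalizer (le_top.trans hN)))
      (fun e => hne e.ge)
  apply hM.1
  rw [eq_top_iff]
  intro g _
  obtain ⟨m, hm, n, hn, rfl⟩ := hTN.frattini hN (Subgroup.mem_top g)
  exact M.mul_mem (hNM hm) (h2 hn)

theorem MO.pc [Finite L] {p : ℕ} [Fact p.Prime] {Y M T N : Subgroup L}
    (h : Cfsg.IsMinimalOver Y) (hM : IsCoatom M) (hT : Syl p T ⊤) (hYT : Y ≤ T) (hTM : T ≤ M)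
    (hN : ⊤ ≤ Nz N) (hNM : N ≤ M) : PC p N :=
  PC.of_syl (hT.inf_normal le_top hN) (le_top.trans (MO.inf_normal h hM hT hYT hTM hN hNM))

end MO

end Cfsg.Agent.Lib.Helper6.PIrr
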