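import Mathlib
import Cfsg.Agent.S0012
import Cfsg.Agent.S0013
import Cfsg.Agent.Lib.Helper6.WClosed

namespace Cfsg.Agent.Lib.Helper6.Phi

open Cfsg.Agent.Lib.Helper6.Basic Cfsg.Agent.Lib.Helper6.Subn Cfsg.Agent.Lib.Helper6.Quasi Cfsg.Agent.Lib.Helper6.Comp Cfsg.Agent.Lib.Helper6.Rad Cfsg.Agent.Lib.Helper6.Nil Cfsg.Agent.Lib.Helper6.FStar Cfsg.Agent.Lib.Helper6.FStar2 Cfsg.Agent.Lib.Helper6.PAct Cfsg.Agent.Lib.Helper6.CharP Cfsg.Agent.Lib.Helper6.Ores Cfsg.Agent.Lib.Helper6.Trace Cfsg.Agent.Lib.Helper6.PRed Cfsg.Agent.Lib.Helper6.WClosed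
open scoped commutatorElement Pointwise

variable {G : Type*} [Group G]

/-- The Frattini subgroup of a subgroup, viewed in the ambient group. -/
def Phi (A : Subgroup G) : Subgroup G := (frattini ↥A).map A.subtype

theorem map_commutator_subtype (A : Subgroup G) : (commutator ↥A).map A.subtype = ⁅A, A⁆ := by
  rw [commutator_def, Subgroup.map_commutator, ← MonoidHom.range_eq_map, Subgroup.range_subtype]

theorem Phi_le (A : Subgroup G) : Phi A ≤ A := Subgroup.map_subtype_le _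

theorem Nz_le_Nz_Phi (A : Subgroup G) : Nz A ≤ Nz (Phi A) := Nz_le_Nz_map_char (frattini ↥A)

theorem comm_le_Phi [Finite G] {p : ℕ} [Fact p.Prime] {A : Subgroup G} (hA : IsPGroup p ↥A) :
    ⁅A, A⁆ ≤ Phi A := by
  rw [← map_commutator_subtype]
  exact Subgroup.map_mono (Cfsg.Agent.S0012.result p hA).1

theorem pow_mem_Phi [Finite G] {p : ℕ} [Fact p.Prime] {A : Subgroup G} (hA : IsPGroup p ↥A)
    {x : G} (hx : x ∈ A) : x ^ p ∈ Phi A :=
  ⟨⟨x, hx⟩ ^ p, (Cfsg.Agent.S0012.result p hA).2 ⟨x, hx⟩, rfl⟩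

theorem Phi_le_of [Finite G] {p : ℕ} [Fact p.Prime] {A N : Subgroup G} (hA : IsPGroup p ↥A)
    (hc : ⁅A, A⁆ ≤ N) (hp : ∀ x ∈ A, x ^ p ∈ N) : Phi A ≤ N := by
  have hn : A ≤ Nz (N ⊓ A) := by
    rw [le_Nz_iff_comm_le]
    exact le_inf ((Subgroup.commutator_mono le_rfl inf_le_right).trans hc)
      (comm_le_of_Nz Subgroup.le_normalizer inf_le_right)
  have hN : (N.subgroupOf A).Normal := Subgroup.normal_subgroupOf_iff_le_normalizer_inf.2 hn
  have h1 : frattini ↥A ≤ N.subgroupOf A := by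
    apply Cfsg.Agent.S0013.result p hA
    · rw [← Subgroup.map_le_map_iff_of_injective A.subtype_injective, map_commutator_subtype,
        Subgroup.subgroupOf_map_subtype]
      exact le_inf hc (comm_le_of_Nz Subgroup.le_normalizer le_rfl)
    · intro x
      exact hp x x.2
  have h2 := Subgroup.map_mono (f := A.subtype) h1
  rw [Subgroup.subgroupOf_map_subtype] at h2
  exact h2.trans inf_le_left

theorem mul_pow_mem_comm {A : Subgroup G} {b c : G} (hb : b ∈ A) (hc : c ∈ A) (n : ℕ) :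
    (b * c) ^ n * (b ^ n * c ^ n)⁻¹ ∈ ⁅A, A⁆ := by
  rw [← map_commutator_subtype]
  refine ⟨((⟨b, hb⟩ : ↥A) * ⟨c, hc⟩) ^ n * ((⟨b, hb⟩ : ↥A) ^ n * (⟨c, hc⟩ : ↥A) ^ n)⁻¹, ?_, rfl⟩
  show _ ∈ commutator ↥A
  rw [← Abelianization.ker_of, MonoidHom.mem_ker, map_mul, map_inv, map_pow, map_mul, map_mul,
    map_pow, map_pow, mul_pow, mul_inv_cancel]

theorem mul_pow_mem_comm' {A : Subgroup G} {b c : G} (hb : b ∈ A) (hc : c ∈ A) {n : ℕ}
    (hbn : b ^ n = 1) (hcn : c ^ n = 1) : (b * c) ^ n ∈ ⁅A, A⁆ := by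
  have := mul_pow_mem_comm hb hc n
  simpa [hbn, hcn] using this

end Cfsg.Agent.Lib.Helper6.Phi
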