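import Mathlib
import Cfsg.Agent.Lib.Helper6.PIrr

namespace Cfsg.Agent.Lib.Helper6.Sig

open Cfsg.Agent.Lib.Helper6.Basic Cfsg.Agent.Lib.Helper6.Subn Cfsg.Agent.Lib.Helper6.Quasi Cfsg.Agent.Lib.Helper6.Comp Cfsg.Agent.Lib.Helper6.Rad Cfsg.Agent.Lib.Helper6.Nil Cfsg.Agent.Lib.Helper6.FStar Cfsg.Agent.Lib.Helper6.FStar2 Cfsg.Agent.Lib.Helper6.PAct Cfsg.Agent.Lib.Helper6.CharP Cfsg.Agent.Lib.Helper6.Ores Cfsg.Agent.Lib.Helper6.Trace Cfsg.Agent.Lib.Helper6.PRed Cfsg.Agent.Lib.Helper6.WClosed Cfsg.Agent.Lib.Helper6.PIrr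
open scoped commutatorElement Pointwise

variable {G : Type*} [Group G]

/-- centralizer of an element -/
abbrev Cx (x : G) : Subgroup G := Subgroup.centralizer ({x} : Set G)

theorem mem_Cx {x g : G} : g ∈ Cx x ↔ x * g = g * x := by
  rw [Subgroup.mem_centralizer_iff]
  constructor
  · intro h; exact h x rfl
  · rintro h _ rfl; exact h

theorem conj_mem {H : Subgroup G} {g h : G} (hg : g ∈ Nz H) (hh : h ∈ H) : g * h * g⁻¹ ∈ H := by
  have := conj_mem_cj (g := g) hh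
  rwa [cj_eq_self_iff.2 hg] at this

theorem mem_Cz_zpowers {x y : G} : x ∈ Cz (Subgroup.zpowers y) ↔ y * x = x * y := by
  rw [Subgroup.mem_centralizer_iff]
  constructor
  · intro h; exact h y (Subgroup.mem_zpowers y)
  · intro h w hw
    obtain ⟨n, rfl⟩ := Subgroup.mem_zpowers_iff.1 hw
    exact (Commute.zpow_left (show Commute y x from h) n)

theorem coprime_of_mem_Op' [Finite G] {p : ℕ} {K : Subgroup G} {x : G} (h : x ∈ Op' p K) :
    (orderOf x).Coprime p := by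
  have h1 : orderOf x ∣ Nat.card (Op' p K) := by
    have := orderOf_dvd_natCard (⟨x, h⟩ : ↥(Op' p K))
    rwa [Subgroup.orderOf_mk] at this
  exact Nat.Coprime.coprime_dvd_left h1 (Op'_coprime p K)

theorem F_le_Op_sup_Op' [Finite G] (p : ℕ) [hp : Fact p.Prime] (K : Subgroup G) :
    F K ≤ Op p K ⊔ Op' p K := by
  have key : ∀ r : ℕ, r.Prime → r ^ (Nat.card (F K)).factorization r ∣
      Nat.card (F K ⊓ (Op p K ⊔ Op' p K) : Subgroup G) := by
    intro r hr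
    have : Fact r.Prime := ⟨hr⟩
    obtain ⟨O, hO1, hO2, hO3, hO4⟩ := exists_sylow_of_nilpotent r (F K) (F_nilpotent K)
    have hsn : SN O K := SN.of_normal (hO1.trans (F_le K)) ((le_Nz_F K).trans hO2)
    rw [← hO4]
    apply Subgroup.card_dvd_of_le
    refine le_inf hO1 ?_
    by_cases hrp : r = p
    · subst hrp
      exact (le_Op_of_sn hsn hO3).trans le_sup_left
    · refine (le_Op'_of_sn hsn ?_).trans le_sup_right
      rw [hO4]
      exact Nat.Coprime.pow_left _ ((Nat.coprime_primes hr hp.out).2 hrp)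
  have h1 : Nat.card (F K) ∣ Nat.card (F K ⊓ (Op p K ⊔ Op' p K) : Subgroup G) := by
    rw [← Nat.factorization_prime_le_iff_dvd Nat.card_pos.ne' Nat.card_pos.ne']
    intro r hr
    exact (hr.pow_dvd_iff_le_factorization Nat.card_pos.ne').1 (key r hr)
  have h2 : F K ⊓ (Op p K ⊔ Op' p K) = F K :=
    Subgroup.eq_of_le_of_card_ge inf_le_left (Nat.le_of_dvd Nat.card_pos h1)
  rw [← h2]
  exact inf_le_right

theorem inverts_of_fpf [Finite G] {W : Subgroup G} {z : G} (hz : z * z = 1) (hzW : z ∈ Nz W)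
    (h : ∀ w ∈ W, z * w = w * z → w = 1) : ∀ w ∈ W, z * w * z⁻¹ = w⁻¹ := by
  have hzi : z⁻¹ = z := inv_eq_of_mul_eq_one_left hz
  let f : ↥W → ↥W := fun w => ⟨(w : G)⁻¹ * (z * w * z⁻¹), W.mul_mem (W.inv_mem w.2) (conj_mem hzW w.2)⟩
  have hinj : Function.Injective f := by
    intro u v huv
    have h1 : (u : G)⁻¹ * (z * u * z⁻¹) = (v : G)⁻¹ * (z * v * z⁻¹) := congrArg Subtype.val huv
    have h2 : z * ((v : G) * (u : G)⁻¹) = ((v : G) * (u : G)⁻¹) * z := by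
      have e : z * u * z⁻¹ = (u : G) * (v : G)⁻¹ * (z * v * z⁻¹) := by
        rw [mul_assoc (u : G), ← h1]; group
      have e2 : z * (u : G)⁻¹ * z⁻¹ = (z * v * z⁻¹)⁻¹ * ((v : G) * (u : G)⁻¹) := by
        have : z * (u : G)⁻¹ * z⁻¹ = (z * u * z⁻¹)⁻¹ := by group
        rw [this, e]; group
      calc z * ((v : G) * (u : G)⁻¹) = (z * v * z⁻¹) * (z * (u : G)⁻¹ * z⁻¹) * z := by group
        _ = ((v : G) * (u : G)⁻¹) * z := by rw [e2]; group
    have h3 := h _ (W.mul_mem v.2 (W.inv_mem u.2)) h2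
    apply Subtype.ext
    exact (mul_inv_eq_one.1 h3).symm
  have hsurj : Function.Surjective f := Finite.surjective_of_injective hinj
  intro w hw
  obtain ⟨u, hu⟩ := hsurj ⟨w, hw⟩
  have hw' : w = (u : G)⁻¹ * (z * u * z⁻¹) := (congrArg Subtype.val hu).symm
  rw [hw', hzi]
  have e1 : z * ((u : G)⁻¹ * (z * u * z)) * z = z * (u : G)⁻¹ * z * u * (z * z) := by group
  have e3 : ((u : G)⁻¹ * (z * u * z))⁻¹ = z⁻¹ * (u : G)⁻¹ * z⁻¹ * u := by group
  rw [e1, e3, hz, hzi, mul_one]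

theorem abelian_of_inverts {W : Subgroup G} {z : G} (h : ∀ w ∈ W, z * w * z⁻¹ = w⁻¹) :
    W ≤ Cz W := by
  intro u hu
  rw [Subgroup.mem_centralizer_iff]
  intro v hv
  have h1 := h (u * v) (W.mul_mem hu hv)
  have h2 : z * (u * v) * z⁻¹ = (z * u * z⁻¹) * (z * v * z⁻¹) := by group
  rw [h2, h u hu, h v hv] at h1
  have h3 : (u⁻¹ * v⁻¹)⁻¹ = ((u * v)⁻¹)⁻¹ := congrArg _ h1
  simpa using h3

/-- the odd core of the centralizer of `x` -/
abbrev th (x : G) : Subgroup G := Op' 2 (Cx x)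

theorem th_le [Finite G] (x : G) : th x ≤ Cx x := Op'_le 2 _

theorem cent_Op [Finite G] {a y d : G} (hy : y * y = 1) (hya : y ∈ Cx a) (hd : d ∈ th y)
    (hda : d ∈ Cx a) : d ∈ Cz (Op 2 (Cx a)) := by
  have hdy : d ∈ Cx y := th_le y hd
  apply thompson_AxB (p := 2) (R := Op 2 (Cx a)) (B := Subgroup.zpowers y) (Op_isPGroup 2 _)
    (isPGroup_zpowers ⟨1, by rw [pow_one, pow_two, hy]⟩)
    (by rw [Subgroup.zpowers_le]; exact le_Nz_Op 2 _ hya) (le_Nz_Op 2 _ hda)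
    (mem_Cz_zpowers.2 (mem_Cx.1 hdy)) (coprime_of_mem_Op' hd)
  rw [Subgroup.mem_centralizer_iff]
  rintro r ⟨hr1, hr2⟩
  have hry : r ∈ Cx y := mem_Cx.2 (mem_Cz_zpowers.1 hr2)
  have h1 : r * d * r⁻¹ * d⁻¹ ∈ th y :=
    (th y).mul_mem (conj_mem (le_Nz_Op' 2 _ hry) hd) ((th y).inv_mem hd)
  have h2 : r * d * r⁻¹ * d⁻¹ ∈ Op 2 (Cx a) := by
    have : r * d * r⁻¹ * d⁻¹ = r * (d * r⁻¹ * d⁻¹) := by group
    rw [this]
    exact Subgroup.mul_mem _ hr1 (conj_mem (le_Nz_Op 2 _ hda) (Subgroup.inv_mem _ hr1))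
  have h3 := eq_one_of_pGroup_of_coprime (Op_isPGroup 2 _) h2 (coprime_of_mem_Op' h1)
  calc r * d = (r * d * r⁻¹ * d⁻¹) * (d * r) := by group
    _ = d * r := by rw [h3, one_mul]

/-- standing hypotheses -/
structure Hyp (Y : Subgroup G) (z : G) : Prop where
  ab : ∀ a ∈ Y, ∀ b ∈ Y, a * b = b * a
  sq : ∀ a ∈ Y, a * a = 1
  zY : z ∈ Y
  hE : ∀ x ∈ Y, x ≠ 1 → E (Cx x) = ⊥
  hz : ChP 2 (Cx z)

theorem Hyp.fpf [Finite G] {Y : Subgroup G} {z : G} (h : Hyp Y z) {y d : G} (hy : y ∈ Y)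
    (hd : d ∈ th y) (hdz : z * d = d * z) : d = 1 := by
  have hdz' : d ∈ Cx z := mem_Cx.2 hdz
  have h1 := cent_Op (h.sq y hy) (mem_Cx.2 (h.ab z h.zY y hy)) hd hdz'
  exact eq_one_of_pGroup_of_coprime (Op_isPGroup 2 _) (h.hz ⟨hdz', h1⟩) (coprime_of_mem_Op' hd)

theorem Hyp.inv [Finite G] {Y : Subgroup G} {z : G} (h : Hyp Y z) {y : G} (hy : y ∈ Y) :
    ∀ w ∈ th y, z * w * z⁻¹ = w⁻¹ :=
  inverts_of_fpf (h.sq z h.zY) (le_Nz_Op' 2 _ (mem_Cx.2 (h.ab y hy z h.zY)))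
    (fun _ hw hwz => h.fpf hy hw hwz)

theorem Hyp.abel [Finite G] {Y : Subgroup G} {z : G} (h : Hyp Y z) {y : G} (hy : y ∈ Y) :
    th y ≤ Cz (th y) := abelian_of_inverts (h.inv hy)

theorem commute_of_sq {d w : G} (hd : (orderOf d).Coprime 2) (h : d ^ 2 * w = w * d ^ 2) :
    d * w = w * d := by
  obtain ⟨m, hm⟩ := exists_pow_eq_self_of_coprime (x := d) (n := 2) hd.symm
  have : Commute ((d ^ 2) ^ m) w := Commute.pow_left h m
  rw [hm] at this
  exact this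

theorem Hyp.balance [Finite G] {Y : Subgroup G} {z : G} (h : Hyp Y z) {y a d : G} (hy : y ∈ Y)
    (ha : a ∈ Y) (ha1 : a ≠ 1) (hd : d ∈ th y) (hda : d ∈ Cx a) : d ∈ th a := by
  have hodd := coprime_of_mem_Op' hd
  have h1 : d ∈ Cz (Op 2 (Cx a)) := cent_Op (h.sq y hy) (mem_Cx.2 (h.ab a ha y hy)) hd hda
  have hzd := h.inv hy d hd
  have h2 : d ∈ Cz (th a) := by
    rw [Subgroup.mem_centralizer_iff]
    intro w hw
    symm
    apply commute_of_sq hodd
    have hw' : d * w * d⁻¹ ∈ th a := conj_mem (le_Nz_Op' 2 _ hda) hw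
    have e1 := h.inv ha _ hw'
    have e2 : z * (d * w * d⁻¹) * z⁻¹ = (z * d * z⁻¹) * (z * w * z⁻¹) * (z * d * z⁻¹)⁻¹ := by group
    rw [e2, hzd, h.inv ha w hw] at e1
    -- e1 : d⁻¹ * w⁻¹ * d⁻¹⁻¹ = (d * w * d⁻¹)⁻¹
    have e3 : d⁻¹ * w * d = d * w * d⁻¹ := by
      have := congrArg (fun t => t⁻¹) e1
      simp only [mul_inv_rev, inv_inv] at this
      rw [← mul_assoc] at this
      exact this
    calc d ^ 2 * w = d * (d * w * d⁻¹) * d := by rw [pow_two]; group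
      _ = d * (d⁻¹ * w * d) * d := by rw [e3]
      _ = w * d ^ 2 := by rw [pow_two]; group
  have h3 : d ∈ Cz (Op 2 (Cx a) ⊔ th a) := by rw [Cz_sup]; exact ⟨h1, h2⟩
  have hF : F (Cx a) ≤ Op 2 (Cx a) ⊔ th a := F_le_Op_sup_Op' 2 _
  have hFs : Fs (Cx a) = F (Cx a) := by
    unfold Fs
    rw [h.hE a ha ha1]
    simp
  have h4 : d ∈ F (Cx a) := by
    rw [← hFs]
    apply bender (Cx a)
    refine ⟨hda, ?_⟩
    rw [hFs]
    exact Cz_anti hF h3
  obtain ⟨r, hr, w, hw, hrw⟩ := mem_sup_of_le_Nz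
    (((Op'_le 2 _).trans (le_Nz_Op 2 (Cx a))) : th a ≤ Nz (Op 2 (Cx a))) (hF h4)
  have hdw : Commute d w⁻¹ := by
    have := Subgroup.mem_centralizer_iff.1 h2 w hw
    exact (Commute.inv_right (show Commute d w from this.symm))
  have hr' : r = d * w⁻¹ := by rw [← hrw]; group
  have hrodd : (orderOf r).Coprime 2 := by
    rw [hr']
    apply Nat.Coprime.coprime_dvd_left hdw.orderOf_mul_dvd_mul_orderOf
    rw [orderOf_inv]
    exact Nat.Coprime.mul_left hodd (coprime_of_mem_Op' hw)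
  have hr1 := eq_one_of_pGroup_of_coprime (Op_isPGroup 2 _) hr hrodd
  rw [hr1, one_mul] at hrw
  rw [← hrw]; exact hw

theorem Hyp.decomp [Finite G] {Y : Subgroup G} {z : G} (h : Hyp Y z) {y a u : G} (hy : y ∈ Y)
    (ha : a ∈ Y) (hu : u ∈ th y) :
    ∃ s ∈ th y, ∃ t ∈ th y, u = s * t ∧ s ∈ Cx a ∧ t ∈ Cx (a * z) := by
  obtain ⟨m, hm⟩ := exists_pow_eq_self_of_coprime (x := u) (n := 2) (coprime_of_mem_Op' hu).symm
  have hai : a⁻¹ = a := inv_eq_of_mul_eq_one_left (h.sq a ha)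
  have hzi : z⁻¹ = z := inv_eq_of_mul_eq_one_left (h.sq z h.zY)
  have hv : u ^ m ∈ th y := (th y).pow_mem hu m
  have hva : a * u ^ m * a⁻¹ ∈ th y := conj_mem (le_Nz_Op' 2 _ (mem_Cx.2 (h.ab y hy a ha))) hv
  have hm' : u ^ m * u ^ m = u := by
    rw [← pow_two, ← pow_mul, mul_comm, pow_mul, hm]
  generalize u ^ m = v at hv hva hm'
  have hc : ∀ s ∈ th y, ∀ t ∈ th y, s * t = t * s := fun s hs t ht =>
    (Subgroup.mem_centralizer_iff.1 (h.abel hy ht) s hs)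
  have hc1 : v * (a * v * a⁻¹) = (a * v * a⁻¹) * v := hc _ hv _ hva
  have hs : v * (a * v * a⁻¹) ∈ th y := (th y).mul_mem hv hva
  have ht : v * (a * v * a⁻¹)⁻¹ ∈ th y := (th y).mul_mem hv ((th y).inv_mem hva)
  refine ⟨_, hs, _, ht, ?_, ?_, ?_⟩
  · calc u = v * v := hm'.symm
      _ = (a * v * a⁻¹) * v * (a * v * a⁻¹)⁻¹ * v := by rw [← hc1]; group
      _ = (a * v * a⁻¹) * (v * (a * v * a⁻¹)⁻¹ * v) := by group
      _ = (a * v * a⁻¹) * (v * (v * (a * v * a⁻¹)⁻¹)) := by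
          rw [hc _ ht _ hv]
      _ = ((a * v * a⁻¹) * v) * (v * (a * v * a⁻¹)⁻¹) := by group
      _ = v * (a * v * a⁻¹) * (v * (a * v * a⁻¹)⁻¹) := by rw [← hc1]
  · rw [mem_Cx]
    calc a * (v * (a * v * a⁻¹)) = (a * v * a⁻¹) * ((a * a) * v * a⁻¹) := by group
      _ = (a * v * a⁻¹) * v * a := by rw [h.sq a ha, hai]; group
      _ = v * (a * v * a⁻¹) * a := by rw [← hc1]
  · rw [mem_Cx]
    have e1 := h.inv hy _ ht
    have e2 : a * (v * (a * v * a⁻¹)⁻¹)⁻¹ * a⁻¹ = v * (a * v * a⁻¹)⁻¹ := by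
      calc a * (v * (a * v * a⁻¹)⁻¹)⁻¹ * a⁻¹ = (a * a) * v * (a⁻¹ * a⁻¹) * (a * v * a⁻¹)⁻¹ := by group
        _ = v * (a * v * a⁻¹)⁻¹ := by rw [hai, h.sq a ha]; group
    generalize v * (a * v * a⁻¹)⁻¹ = t at e1 e2
    calc a * z * t = a * (z * t * z⁻¹) * a⁻¹ * (a * z) := by group
      _ = t * (a * z) := by rw [e1, e2]

theorem Hyp.comm [Finite G] {Y : Subgroup G} {z : G} (h : Hyp Y z) {y u v : G} (hy : y ∈ Y)
    (hu : u ∈ th y) (hv : v ∈ th y) : u * v = v * u :=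
  Subgroup.mem_centralizer_iff.1 (h.abel hy hv) u hu

theorem mem_Cx_mul {a b t : G} (ha : t ∈ Cx a) (hb : t ∈ Cx b) : t ∈ Cx (a * b) := by
  rw [mem_Cx] at *
  rw [mul_assoc, hb, ← mul_assoc, ha, mul_assoc]

theorem Hyp.G1 [Finite G] {Y : Subgroup G} {z : G} (h : Hyp Y z) {y a u v : G} (hy : y ∈ Y)
    (ha : a ∈ Y) (hy1 : y ≠ 1) (ha1 : a ≠ 1) (hc : y * a * z ≠ 1) (hu : u ∈ th y)
    (hv : v ∈ th a) : u * v = v * u := by
  obtain ⟨s, hs, t, ht, rfl, hsa, htaz⟩ := h.decomp hy ha hu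
  obtain ⟨s', hs', t', ht', rfl, hsy', htyz'⟩ := h.decomp ha hy hv
  have hcY : y * a * z ∈ Y := Y.mul_mem (Y.mul_mem hy ha) h.zY
  have h1 : s ∈ th a := h.balance hy ha ha1 hs hsa
  have h2 : s' ∈ th y := h.balance ha hy hy1 hs' hsy'
  have h3 : t ∈ th (y * a * z) := by
    apply h.balance hy hcY hc ht
    rw [mul_assoc]
    exact mem_Cx_mul (th_le y ht) htaz
  have h4 : t' ∈ th (y * a * z) := by
    apply h.balance ha hcY hc ht'
    rw [h.ab y hy a ha, mul_assoc]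
    exact mem_Cx_mul (th_le a ht') htyz'
  have e1 : s * s' = s' * s := h.comm ha h1 hs'
  have e2 : s * t' = t' * s := h.comm ha h1 ht'
  have e3 : t * s' = s' * t := h.comm hy ht h2
  have e4 : t * t' = t' * t := h.comm hcY h3 h4
  calc s * t * (s' * t') = s * (t * s') * t' := by group
    _ = (s * s') * (t * t') := by rw [e3]; group
    _ = s' * (s * t') * t := by rw [e1, e4]; group
    _ = s' * t' * (s * t) := by rw [e2]; group

theorem exists_not_mem_four {Y : Subgroup G} (h8 : 8 ≤ Nat.card ↥Y) (a b c d : G) :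
    ∃ x ∈ Y, x ≠ a ∧ x ≠ b ∧ x ≠ c ∧ x ≠ d := by
  classical
  by_contra hcon
  push Not at hcon
  have hsub : (Y : Set G) ⊆ (({a, b, c, d} : Finset G) : Set G) := by
    intro x hx
    by_cases h1 : x = a
    · simp [h1]
    by_cases h2 : x = b
    · simp [h2]
    by_cases h3 : x = c
    · simp [h3]
    have := hcon x hx h1 h2 h3
    simp [this]
  have h1 : (Y : Set G).ncard ≤ (({a, b, c, d} : Finset G) : Set G).ncard :=
    Set.ncard_le_ncard hsub (Finset.finite_toSet _)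
  rw [Set.ncard_coe_finset] at h1
  have h2 : ({a, b, c, d} : Finset G).card ≤ 4 := Finset.card_le_four
  have h3 : Nat.card ↥Y = (Y : Set G).ncard := rfl
  omega

theorem Hyp.G2 [Finite G] {Y : Subgroup G} {z : G} (h : Hyp Y z) (h8 : 8 ≤ Nat.card ↥Y)
    {y a u v : G} (hy : y ∈ Y)
    (ha : a ∈ Y) (hy1 : y ≠ 1) (ha1 : a ≠ 1) (hu : u ∈ th y)
    (hv : v ∈ th a) : u * v = v * u := by
  by_cases hc : y * a * z = 1
  swap
  · exact h.G1 hy ha hy1 ha1 hc hu hv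
  obtain ⟨b, hb, hb1, hby, hbz, hbyz⟩ := exists_not_mem_four h8 1 y z (y * z)
  have hzz := h.sq z h.zY
  have hyy := h.sq y hy
  have hbb := h.sq b hb
  have haa := h.sq a ha
  have hyz : y * z = z * y := h.ab y hy z h.zY
  have hbz' : b * z = z * b := h.ab b hb z h.zY
  have hby' : b * y = y * b := h.ab b hb y hy
  have haeq : a = y * z := by
    calc a = y * (y * a * z) * z := by
            rw [show y * (y * a * z) * z = (y * y) * a * (z * z) by group, hyy, hzz]; group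
      _ = y * z := by rw [hc]; group
  subst haeq
  obtain ⟨s, hs, t, ht, rfl, hsb, htbz⟩ := h.decomp hy hb hu
  have hbzY : b * z ∈ Y := Y.mul_mem hb h.zY
  have hbz1 : b * z ≠ 1 := by
    intro e
    apply hbz
    calc b = (b * z) * z := by rw [mul_assoc, hzz, mul_one]
      _ = z := by rw [e, one_mul]
  have h1 : s ∈ th b := h.balance hy hb hb1 hs hsb
  have h2 : t ∈ th (b * z) := h.balance hy hbzY hbz1 ht htbz
  have e1 : s * v = v * s := by
    apply h.G1 hb ha hb1 ha1 _ h1 hv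
    intro e
    apply hby
    have : b * (y * z) * z = b * y * (z * z) := by group
    rw [this, hzz, mul_one] at e
    calc b = (b * y) * y := by rw [mul_assoc, hyy, mul_one]
      _ = y := by rw [e, one_mul]
  have e2 : t * v = v * t := by
    apply h.G1 hbzY ha hbz1 ha1 _ h2 hv
    intro e
    apply hbyz
    have : b * z * (y * z) * z = b * (z * y) * (z * z) := by group
    rw [this, hzz, mul_one, ← hyz] at e
    calc b = (b * (y * z)) * (y * z) := by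
            rw [mul_assoc, show y * z * (y * z) = y * (z * y) * z by group, ← hyz,
              show y * (y * z) * z = (y * y) * (z * z) by group, hyy, hzz]; group
      _ = y * z := by rw [e, one_mul]
  calc s * t * v = s * (t * v) := by group
    _ = (s * v) * t := by rw [e2]; group
    _ = v * (s * t) := by rw [e1]; group

theorem cj_th [Finite G] (g x : G) : cj g (th x) = th (g * x * g⁻¹) := by
  unfold th Op'
  rw [cj_Rd (radClass_coprime 2), cj_centralizer_singleton]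

theorem Hyp.main [Finite G] {Y : Subgroup G} {z : G} (h : Hyp Y z) (h8 : 8 ≤ Nat.card ↥Y) :
    Odd (Nat.card ↥(⨆ y : {y : G // y ∈ Y ∧ y ≠ 1}, th (y : G))) ∧
    Nz Y ≤ Nz (⨆ y : {y : G // y ∈ Y ∧ y ≠ 1}, th (y : G)) := by
  constructor
  · have hcl := Subgroup.iSup_eq_closure (fun y : {y : G // y ∈ Y ∧ y ≠ 1} => th (y : G))
    have hcomm : ∀ x ∈ (⋃ y : {y : G // y ∈ Y ∧ y ≠ 1}, (th (y : G) : Set G)),
        ∀ x' ∈ (⋃ y : {y : G // y ∈ Y ∧ y ≠ 1}, (th (y : G) : Set G)), Commute x x' := by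
      intro x hx x' hx'
      obtain ⟨y, hy⟩ := Set.mem_iUnion.1 hx
      obtain ⟨y', hy'⟩ := Set.mem_iUnion.1 hx'
      exact h.G2 h8 y.2.1 y'.2.1 y.2.2 y'.2.2 hy hy'
    have hcc := closure_commute hcomm
    have hodd : ∀ x ∈ Subgroup.closure (⋃ y : {y : G // y ∈ Y ∧ y ≠ 1}, (th (y : G) : Set G)),
        (orderOf x).Coprime 2 := by
      intro x hx
      induction hx using Subgroup.closure_induction with
      | mem x hx =>
        obtain ⟨y, hy⟩ := Set.mem_iUnion.1 hx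
        exact coprime_of_mem_Op' hy
      | one => simp
      | mul a b ha hb iha ihb =>
        exact Nat.Coprime.coprime_dvd_left (hcc a ha b hb).orderOf_mul_dvd_mul_orderOf
          (Nat.Coprime.mul_left iha ihb)
      | inv a ha iha => rwa [orderOf_inv]
    rw [hcl]
    rw [← Nat.not_even_iff_odd, even_iff_two_dvd]
    intro h2
    obtain ⟨x, hx⟩ := exists_prime_orderOf_dvd_card' (G := ↥(Subgroup.closure
      (⋃ y : {y : G // y ∈ Y ∧ y ≠ 1}, (th (y : G) : Set G)))) 2 h2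
    have := hodd x x.2
    rw [Subgroup.orderOf_coe, hx] at this
    exact absurd this (by norm_num)
  · apply le_Nz_of_cj_le
    intro g hg
    unfold cj
    rw [Subgroup.map_iSup]
    apply iSup_le
    intro y
    have e : (th (y : G)).map (MulAut.conj g).toMonoidHom = th (g * y * g⁻¹) := cj_th g y
    rw [e]
    have hy' : g * (y : G) * g⁻¹ ∈ Y ∧ g * (y : G) * g⁻¹ ≠ 1 := by
      refine ⟨conj_mem hg y.2.1, ?_⟩
      intro e1
      apply y.2.2
      have : (y : G) = g⁻¹ * (g * y * g⁻¹) * g := by group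
      rw [this, e1]; group
    exact le_iSup (fun y : {y : G // y ∈ Y ∧ y ≠ 1} => th (y : G)) ⟨_, hy'⟩

end Cfsg.Agent.Lib.Helper6.Sig
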