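import Mathlib
import Cfsg.Agent.Lib.Helper6.Syl15

set_option autoImplicit false
set_option maxHeartbeats 400000
set_option linter.style.haveILetI false
set_option linter.unusedSectionVars false

namespace Cfsg.Agent.Lib.Helper6.Syl35

open Cfsg.Agent.Lib.Helper6.Syl15 (relIndex_dvd false_of_sylow_prime card_modEq_one
  sign_toPerm_eq_one card_sylow_of_dvd card_sylow_eq_one_of_normal card_lt_of_ne_top
  card_quot_lt_of_ne_bot)

universe u

variable {G : Type u} [Group G] [Finite G]

theorem sign_of_order_two {Ω : Type*} [Fintype Ω] [DecidableEq Ω] (σ : Equiv.Perm Ω)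
    (h2 : orderOf σ = 2) (hs : σ.support.card = 34) : Equiv.Perm.sign σ = -1 := by
  obtain ⟨n, hn⟩ := Equiv.Perm.cycleType_prime_order (σ := σ) (by rw [h2]; exact Nat.prime_two)
  have h1 := Equiv.Perm.sum_cycleType σ
  rw [hn, h2, Multiset.sum_replicate, hs] at h1
  have h6 : n = 16 := by
    simp only [smul_eq_mul] at h1
    omega
  rw [Equiv.Perm.sign_of_cycleType, hn, h2, h6]
  simp
  decide

theorem simple_case [IsSimpleGroup G] (hG : ¬ IsMulCommutative G)
    (h35 : Nat.card (Sylow 17 G) = 35) : False := by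
  haveI : Fact (Nat.Prime 17) := ⟨by norm_num⟩
  classical
  letI : Fintype (Sylow 17 G) := Fintype.ofFinite _
  haveI : Fact (Nat.Prime 2) := ⟨Nat.prime_two⟩
  obtain ⟨S⟩ : Nonempty (Sylow 2 G) := inferInstance
  obtain ⟨P, hPfix⟩ := S.2.nonempty_fixed_point_of_prime_not_dvd_card (Sylow 17 G)
    (by rw [h35]; norm_num)
  have hSN : (S : Subgroup G) ≤ Subgroup.normalizer ((P : Subgroup G) : Set G) :=
    (Subgroup.sylow_mem_fixedPoints_iff (S : Subgroup G)).mp hPfix
  have hnn : ¬ (P : Subgroup G).Normal := fun h => by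
    have := card_sylow_eq_one_of_normal 17 P h
    omega
  have h7 : 17 ∣ Nat.card G := by
    by_contra h
    apply hnn
    have h1 : Nat.card (P : Subgroup G) = 1 := by
      rw [P.card_eq_multiplicity, Nat.factorization_eq_zero_of_not_dvd h, pow_zero]
    rw [Subgroup.card_eq_one.mp h1]
    infer_instance
  have hP7 : Nat.card P = 17 := Cfsg.Agent.S4343.result hG 17 h7 (by rw [h35]; norm_num) P
  have hker : ∀ g : G, (∀ Q : Sylow 17 G, g • Q = Q) → g = 1 := by
    intro g hg
    rcases (MonoidHom.normal_ker (MulAction.toPermHom G (Sylow 17 G))).eq_bot_or_eq_top with h | h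
    · have : g ∈ (MulAction.toPermHom G (Sylow 17 G)).ker := by
        rw [MonoidHom.mem_ker]
        ext1 Q
        exact hg Q
      rw [h] at this
      exact Subgroup.mem_bot.mp this
    · exfalso
      apply hnn
      rw [← Subgroup.normalizer_eq_top_iff, eq_top_iff]
      intro x _
      have : x ∈ (MulAction.toPermHom G (Sylow 17 G)).ker := h ▸ Subgroup.mem_top x
      rw [MonoidHom.mem_ker] at this
      exact Sylow.smul_eq_iff_mem_normalizer.mp
        (congrArg (fun σ : Equiv.Perm (Sylow 17 G) => σ P) this)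
  have hC : ∀ k ∈ Subgroup.centralizer ((P : Subgroup G) : Set G), ∀ q : ℕ, q.Prime →
      orderOf k = q → q = 17 := by
    intro k hk q hq hkq
    haveI : Fact q.Prime := ⟨hq⟩
    set F : Set (Sylow 17 G) := {Q | k • Q = Q} with hF
    have a : Nat.card F ≡ 1 [MOD 17] := by
      refine card_modEq_one 17 P F ?_ ?_
      · change k • P = P
        rw [Sylow.smul_eq_iff_mem_normalizer]
        exact Subgroup.centralizer_le_normalizer _ hk
      · intro x hx Q hQ
        change k • x • Q = x • Q
        have hQ' : k • Q = Q := hQ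
        rw [smul_smul, ← (Subgroup.mem_centralizer_iff.mp hk x hx), ← smul_smul, hQ']
    have b : 35 ≡ Nat.card F [MOD q] := by
      have hpg : IsPGroup q (Subgroup.zpowers k) := by
        rw [IsPGroup.iff_card]
        exact ⟨1, by rw [Nat.card_zpowers, hkq, pow_one]⟩
      have := hpg.card_modEq_card_fixedPoints (Sylow 17 G)
      rw [h35] at this
      have hset : (MulAction.fixedPoints (Subgroup.zpowers k) (Sylow 17 G)) = F := by
        ext Q
        constructor
        · intro h
          exact h ⟨k, Subgroup.mem_zpowers k⟩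
        · intro h x
          have hle : Subgroup.zpowers k ≤ MulAction.stabilizer G Q := by
            rw [Subgroup.zpowers_le]
            exact h
          exact hle x.2
      rw [hset] at this
      exact this
    have c : Nat.card F ≤ 35 := by
      rw [← h35]
      exact Finite.card_subtype_le _
    have hk1 : k ≠ 1 := by
      intro h
      rw [h, orderOf_one] at hkq
      exact hq.one_lt.ne hkq
    have d : Nat.card F ≠ 35 := by
      intro h
      apply hk1
      apply hker
      have huniv : F = Set.univ := by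
        apply Set.eq_of_subset_of_ncard_le (Set.subset_univ _) _ Set.finite_univ
        rw [Set.ncard_univ, h35, ← Nat.card_coe_set_eq, h]
      intro Q
      have : Q ∈ F := huniv ▸ Set.mem_univ Q
      exact this
    have e : Nat.card F = 1 ∨ Nat.card F = 18 := by
      unfold Nat.ModEq at a
      omega
    rcases e with e | e
    · rw [e] at b
      have hd : q ∣ 35 - 1 := (Nat.modEq_iff_dvd' (by norm_num)).mp b.symm
      have hd' : q ∣ 2 * 17 := by simpa using hd
      rcases hq.dvd_mul.mp hd' with h | h
      · exfalso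
        have hq2 : q = 2 := (Nat.prime_dvd_prime_iff_eq hq Nat.prime_two).mp h
        have hs1 := sign_toPerm_eq_one hG (Ω := Sylow 17 G) k
        have hinj : Function.Injective (MulAction.toPermHom G (Sylow 17 G)) := by
          rw [injective_iff_map_eq_one]
          intro g hg
          apply hker
          intro Q
          exact congrArg (fun σ : Equiv.Perm (Sylow 17 G) => σ Q) hg
        have ho : orderOf (MulAction.toPermHom G (Sylow 17 G) k) = 2 := by
          rw [orderOf_injective _ hinj, hkq, hq2]
        have hsupp : (MulAction.toPermHom G (Sylow 17 G) k).support.card = 34 := by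
          have h1 : (MulAction.toPermHom G (Sylow 17 G) k).support =
              Finset.univ.filter (fun Q : Sylow 17 G => ¬ (k • Q = Q)) := by
            ext Q
            simp
          have h2 : Nat.card F = (Finset.univ.filter (fun Q : Sylow 17 G => k • Q = Q)).card := by
            rw [Nat.card_eq_fintype_card, Fintype.card_subtype]
            rfl
          have h3 := Finset.card_filter_add_card_filter_not (s := (Finset.univ : Finset (Sylow 17 G)))
            (fun Q : Sylow 17 G => k • Q = Q)
          rw [Finset.card_univ, ← Nat.card_eq_fintype_card, h35, ← h2, e] at h3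
          rw [h1]
          omega
        rw [sign_of_order_two _ ho hsupp] at hs1
        exact absurd hs1 (by decide)
      · exact (Nat.prime_dvd_prime_iff_eq hq (by norm_num)).mp h
    · rw [e] at b
      have hd : q ∣ 35 - 18 := (Nat.modEq_iff_dvd' (by norm_num)).mp b.symm
      exact (Nat.prime_dvd_prime_iff_eq hq (by norm_num)).mp (by simpa using hd)
  have hCpg : IsPGroup 17 (Subgroup.centralizer ((P : Subgroup G) : Set G)) := by
    rw [IsPGroup.iff_card]
    refine ⟨_, Nat.eq_prime_pow_of_unique_prime_dvd Nat.card_pos.ne' ?_⟩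
    intro d hd hdvd
    haveI : Fact d.Prime := ⟨hd⟩
    obtain ⟨k, hk⟩ := exists_prime_orderOf_dvd_card' d hdvd
    exact hC k.1 k.2 d hd (by rw [Subgroup.orderOf_coe]; exact hk)
  have hcyc : IsCyclic (P : Subgroup G) := isCyclic_of_prime_card hP7
  have hPC : (P : Subgroup G) ≤ Subgroup.centralizer ((P : Subgroup G) : Set G) := by
    intro x hx
    rw [Subgroup.mem_centralizer_iff]
    intro y hy
    have := hcyc.commGroup.mul_comm (⟨y, hy⟩ : (P : Subgroup G)) ⟨x, hx⟩
    exact congrArg Subtype.val this
  have hCP : Subgroup.centralizer ((P : Subgroup G) : Set G) = P := P.3 hCpg hPC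
  have hN : Nat.card (Subgroup.normalizer ((P : Subgroup G) : Set G)) ∣ 272 := by
    have h1 := Subgroup.relIndex_mul_relIndex ⊥ _ _ bot_le
      (Subgroup.centralizer_le_normalizer ((P : Subgroup G) : Set G))
    rw [Subgroup.relIndex_bot_left, Subgroup.relIndex_bot_left, hCP] at h1
    have h2 := relIndex_dvd 17 P hP7
    rw [hCP] at h2
    rw [← h1]
    have h3 : Nat.card (P : Subgroup G) = 17 := hP7
    rw [h3]
    exact Nat.mul_dvd_mul (dvd_refl 17) h2
  have hGc : Nat.card G = 35 * Nat.card (Subgroup.normalizer ((P : Subgroup G) : Set G)) := by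
    rw [← h35, P.card_eq_index_normalizer]
    exact (Subgroup.index_mul_card _).symm
  have h630 : Nat.card G ∣ 9520 := by
    rw [hGc]
    exact Nat.mul_dvd_mul (dvd_refl 35) hN
  have hodd : ¬ 2 ∣ Nat.card G := by
    intro h2
    have hAcyc : IsCyclic (MulAut (P : Subgroup G)) := by
      have e := IsCyclic.mulAutMulEquiv (P : Subgroup G)
      have h3 : Nat.card (P : Subgroup G) = 17 := hP7
      rw [h3] at e
      exact isCyclic_of_injective e.toMonoidHom e.injective
    have hScyc : IsCyclic (S : Subgroup G) := by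
      refine isCyclic_of_injective
        ((P : Subgroup G).normalizerMonoidHom.comp (Subgroup.inclusion hSN)) ?_
      rw [injective_iff_map_eq_one]
      intro x hx
      have h4 : Subgroup.inclusion hSN x ∈ (P : Subgroup G).normalizerMonoidHom.ker := hx
      rw [Subgroup.normalizerMonoidHom_ker, Subgroup.mem_subgroupOf, hCP] at h4
      have h5 : (x : G) ∈ (P : Subgroup G) := h4
      have h6 : orderOf (x : G) ∣ 17 := by
        have := orderOf_dvd_natCard (⟨(x : G), h5⟩ : (P : Subgroup G))
        rw [hP7, Subgroup.orderOf_mk] at this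
        exact this
      obtain ⟨k, hk⟩ := S.2 x
      have h7' : orderOf (x : G) ∣ 2 ^ k := by
        rw [Subgroup.orderOf_coe]
        exact orderOf_dvd_of_pow_eq_one hk
      have h8 : orderOf (x : G) = 1 :=
        Nat.eq_one_of_dvd_coprimes (Nat.Coprime.pow_right k (by norm_num)) h6 h7'
      rw [orderOf_eq_one_iff] at h8
      exact Subtype.ext h8
    have hmin : (Nat.card G).minFac = 2 := (Nat.minFac_eq_two_iff _).mpr h2
    have hcomp := IsCyclic.isComplement' hmin hScyc
    have hcard := hcomp.card_mul_card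
    rcases (MonoidHom.normal_ker (MonoidHom.transferSylow S
      (hScyc.normalizer_le_centralizer hmin))).eq_bot_or_eq_top with h | h
    · rw [h, Subgroup.card_bot, one_mul] at hcard
      apply hG
      have htop : (S : Subgroup G) = ⊤ := Subgroup.eq_top_of_card_eq _ hcard
      refine ⟨⟨fun a b => ?_⟩⟩
      have := hScyc.commGroup.mul_comm (⟨a, htop ▸ Subgroup.mem_top a⟩ : (S : Subgroup G))
        ⟨b, htop ▸ Subgroup.mem_top b⟩
      exact congrArg Subtype.val this
    · rw [h, Subgroup.card_top] at hcard
      have h1 : Nat.card (S : Subgroup G) = 1 := by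
        have h0 : 0 < Nat.card G := Nat.card_pos
        exact Nat.eq_of_mul_eq_mul_left h0 (by rw [hcard, mul_one])
      exact S.ne_bot_of_dvd_card h2 (Subgroup.card_eq_one.mp h1)
  haveI : Fact (Nat.Prime 5) := ⟨by norm_num⟩
  obtain ⟨R⟩ : Nonempty (Sylow 5 G) := inferInstance
  have hR : Nat.card R = 5 := card_sylow_of_dvd 5 (by rw [hGc]; exact Dvd.dvd.mul_right (by norm_num) _)
    (fun h => by
      have := h.trans h630
      norm_num at this) R
  refine false_of_sylow_prime hG 5 R hR ?_
  have : (Nat.card G).Coprime 2 := by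
    rw [Nat.coprime_comm, Nat.Prime.coprime_iff_not_dvd Nat.prime_two]
    exact hodd
  exact Nat.Coprime.pow_right 2 this

theorem eq_one_of_dvd_fifteen {a : ℕ} (ha : a ≡ 1 [MOD 17]) (hd : a ∣ 35) (hne : a ≠ 35) :
    a = 1 := by
  have hle : a ≤ 35 := Nat.le_of_dvd (by norm_num) hd
  unfold Nat.ModEq at ha
  have : a = 1 ∨ a = 18 := by omega
  rcases this with h | h
  · exact h
  · rw [h] at hd
    norm_num at hd

theorem nonsimple_case
    (IH : ∀ (H : Type u) [Group H] [Finite H], Nat.card H < Nat.card G →
      Nat.card (Sylow 17 H) ≠ 35)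
    (h35 : Nat.card (Sylow 17 G) = 35) (K : Subgroup G) [K.Normal] (hKb : K ≠ ⊥) (hKt : K ≠ ⊤) :
    False := by
  haveI : Fact (Nat.Prime 17) := ⟨by norm_num⟩
  haveI : Fact (Nat.Prime 5) := ⟨by norm_num⟩
  have hA : ∀ (M : Subgroup G) [M.Normal], M ≠ ⊥ → ∀ P : Sylow 17 G,
      (P : Subgroup G) ⊔ M = ⊤ := by
    intro M _ hM P
    have h1 := Cfsg.Agent.Lib.Helper2.SylowNumber.card_sylow_eq_mul M P
    rw [h35] at h1
    have h2 : Nat.card (Sylow 17 (G ⧸ M)) = 1 :=
      eq_one_of_dvd_fifteen (card_sylow_modEq_one 17 _) (Dvd.intro _ h1.symm)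
        (IH _ (card_quot_lt_of_ne_bot M hM))
    rw [h2, one_mul] at h1
    by_contra hne
    exact IH _ (card_lt_of_ne_top _ hne) h1.symm
  have hB : ∀ (M : Subgroup G) [M.Normal], IsPGroup 17 M → M = ⊥ := by
    intro M _ hM
    by_contra hne
    obtain ⟨P', hP'⟩ := hM.exists_le_sylow
    have h1 := hA M hne P'
    rw [sup_eq_left.mpr hP'] at h1
    have h2 := card_sylow_eq_one_of_normal 17 P' (h1 ▸ inferInstance)
    omega
  obtain ⟨P⟩ : Nonempty (Sylow 17 G) := inferInstance
  have hnK : Nat.card (Sylow 17 K) = 1 := by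
    haveI : (((P : Subgroup G) ⊓ K).subgroupOf (((P : Subgroup G) ⊔ K) ⊓
        Subgroup.normalizer (((P : Subgroup G) ⊓ K : Subgroup G) : Set G))).Normal :=
      Subgroup.normal_subgroupOf_of_le_normalizer inf_le_right
    have h := Cfsg.Agent.S4341.result 17 K P _ rfl
    rw [h35] at h
    refine eq_one_of_dvd_fifteen (card_sylow_modEq_one 17 _) ?_ (IH _ (card_lt_of_ne_top K hKt))
    rw [h]
    exact Dvd.dvd.mul_right (Dvd.intro_left _ rfl) _
  have h7K : ¬ 17 ∣ Nat.card K := by
    intro h7
    obtain ⟨Q⟩ : Nonempty (Sylow 17 K) := inferInstance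
    haveI : Subsingleton (Sylow 17 K) := (Nat.card_eq_one_iff_unique.mp hnK).1
    haveI : (Q : Subgroup K).Characteristic := Sylow.characteristic_of_subsingleton Q
    haveI hn : ((Q : Subgroup K).map K.subtype).Normal :=
      ConjAct.normal_of_characteristic_of_normal
    have hb := hB ((Q : Subgroup K).map K.subtype) (Q.2.map _)
    exact Q.ne_bot_of_dvd_card h7
      ((Subgroup.map_eq_bot_iff_of_injective _ K.subtype_injective).mp hb)
  have hcop : (Nat.card (P : Subgroup G)).Coprime (Nat.card K) := by
    obtain ⟨n, hn⟩ := IsPGroup.iff_card.mp P.2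
    rw [hn]
    exact Nat.Coprime.pow_left _ ((Nat.Prime.coprime_iff_not_dvd (by norm_num)).mpr h7K)
  have hsol : Group.IsSolvable (P : Subgroup G) := by
    have := P.2.isNilpotent
    infer_instance
  obtain ⟨R, hRK, hRc, hPR⟩ := Cfsg.Agent.Lib.Helper1.exists_invariant_sylow (P : Subgroup G) K
    (by rw [Subgroup.normalizer_eq_top]; exact le_top) hcop (Or.inl hsol) 5
  have hRpg : IsPGroup 5 R := IsPGroup.iff_card.mpr ⟨_, hRc⟩
  set O : Set (Sylow 17 G) := MulAction.orbit R P with hO
  have hO1 : Nat.card O ≡ 1 [MOD 17] := by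
    refine card_modEq_one 17 P O (MulAction.mem_orbit_self _) ?_
    rintro x hx Q ⟨r, rfl⟩
    have hxr : x * r * x⁻¹ ∈ R := by
      have := hPR hx
      rw [Subgroup.mem_normalizer_iff] at this
      exact (this r).mp r.2
    refine ⟨⟨x * r * x⁻¹, hxr⟩, ?_⟩
    change (x * r * x⁻¹) • P = x • (r : G) • P
    have hxP : x⁻¹ • P = P := by
      rw [Sylow.smul_eq_iff_mem_normalizer]
      exact Subgroup.le_normalizer (inv_mem hx)
    rw [mul_smul, mul_smul, hxP]
  have hO2 : ∃ a, Nat.card O = 5 ^ a := hRpg.card_orbit P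
  have hO3 : Nat.card O ≤ 35 := by
    rw [← h35]
    exact Finite.card_subtype_le _
  have hO4 : Nat.card O = 1 := by
    obtain ⟨a, ha⟩ := hO2
    have ha2 : a ≤ 2 := by
      by_contra hcon
      have : 5 ^ 3 ≤ 5 ^ a := Nat.pow_le_pow_right (by norm_num) (by omega)
      omega
    rw [ha] at hO1 ⊢
    unfold Nat.ModEq at hO1
    interval_cases a
    · rfl
    · norm_num at hO1
    · norm_num at hO1
  have hRN : R ≤ Subgroup.normalizer ((P : Subgroup G) : Set G) := by
    intro r hr
    haveI : Subsingleton O := (Nat.card_eq_one_iff_unique.mp hO4).1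
    have h1 := Subsingleton.elim (⟨(⟨r, hr⟩ : R) • P, MulAction.mem_orbit _ _⟩ : O)
      ⟨P, MulAction.mem_orbit_self _⟩
    exact Sylow.smul_eq_iff_mem_normalizer.mp (congrArg Subtype.val h1)
  have h1 : Nat.card R ∣ Nat.card (Subgroup.normalizer ((P : Subgroup G) : Set G)) :=
    Subgroup.card_dvd_of_le hRN
  have hGc : Nat.card G = 35 * Nat.card (Subgroup.normalizer ((P : Subgroup G) : Set G)) := by
    rw [← h35, P.card_eq_index_normalizer]
    exact (Subgroup.index_mul_card _).symm
  have h2 : 5 ^ ((Nat.card K).factorization 5 + 1) ∣ Nat.card G := by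
    rw [hGc, pow_succ, ← hRc, mul_comm]
    exact Nat.mul_dvd_mul (by norm_num) h1
  have h3 : K.index ∣ Nat.card (P : Subgroup G) := by
    have := Subgroup.relIndex_sup_right (P : Subgroup G) K
    rw [hA K hKb P, Subgroup.relIndex_top_right] at this
    rw [this]
    exact Subgroup.relIndex_dvd_card _ _
  have h4 := K.card_mul_index
  have h5 : 5 ^ ((Nat.card K).factorization 5 + 1) ∣ Nat.card K := by
    rw [← h4] at h2
    refine Nat.Coprime.dvd_of_dvd_mul_right ?_ h2
    refine Nat.Coprime.coprime_dvd_right h3 ?_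
    obtain ⟨n, hn⟩ := IsPGroup.iff_card.mp P.2
    rw [hn]
    exact Nat.Coprime.pow _ _ (by norm_num)
  exact Nat.pow_succ_factorization_not_dvd Nat.card_pos.ne' (by norm_num) h5

theorem main_aux : ∀ (n : ℕ) (G : Type u) [Group G] [Finite G], Nat.card G = n →
    Nat.card (Sylow 17 G) ≠ 35 := by
  intro n
  induction n using Nat.strong_induction_on with
  | _ n ih =>
  intro G _ _ hn h35
  haveI : Fact (Nat.Prime 17) := ⟨by norm_num⟩
  have IH : ∀ (H : Type u) [Group H] [Finite H], Nat.card H < Nat.card G →
      Nat.card (Sylow 17 H) ≠ 35 := fun H _ _ h => ih _ (hn ▸ h) H rfl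
  obtain ⟨P⟩ : Nonempty (Sylow 17 G) := inferInstance
  have hnn : ¬ (P : Subgroup G).Normal := fun h => by
    have := card_sylow_eq_one_of_normal 17 P h
    omega
  by_cases hs : IsSimpleGroup G
  · by_cases hc : IsMulCommutative G
    · apply hnn
      refine ⟨fun x hx g => ?_⟩
      have : g * x * g⁻¹ = x := by
        rw [hc.is_comm.comm g x, mul_assoc, mul_inv_cancel, mul_one]
      rw [this]
      exact hx
    · exact simple_case hc h35
  · have hnt : Nontrivial G := by
      by_contra h
      rw [not_nontrivial_iff_subsingleton] at h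
      apply hnn
      rw [Subsingleton.elim (P : Subgroup G) ⊥]
      infer_instance
    obtain ⟨K, hKn, hKb, hKt⟩ : ∃ K : Subgroup G, K.Normal ∧ K ≠ ⊥ ∧ K ≠ ⊤ := by
      by_contra h
      push Not at h
      apply hs
      refine ⟨fun H hH => ?_⟩
      by_cases hb : H = ⊥
      · exact Or.inl hb
      · exact Or.inr (h H hH hb)
    exact nonsimple_case IH h35 K hKb hKt

end Cfsg.Agent.Lib.Helper6.Syl35
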