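import Mathlib
import Cfsg.Agent.Lib.Helper6.Syl15
import Cfsg.Agent.Lib.Helper6.Rad

set_option autoImplicit false
set_option maxHeartbeats 400000
set_option linter.style.haveILetI false
set_option linter.unusedSectionVars false

namespace Cfsg.Agent.Lib.Helper6.SylFac

open Cfsg.Agent.Lib.Helper6.Syl15 (card_modEq_one card_sylow_eq_one_of_normal card_lt_of_ne_top
  card_quot_lt_of_ne_bot)

universe u

variable {G : Type u} [Group G] [Finite G]

theorem ell_part (p : ℕ) [Fact p.Prime] (K : Subgroup G) [K.Normal] (P : Sylow p G)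
    (hsup : (P : Subgroup G) ⊔ K = ⊤) (hinf : (P : Subgroup G) ⊓ K = ⊥) (ℓ : ℕ) (hℓ : ℓ.Prime) :
    ℓ ^ (Nat.card (Sylow p G)).factorization ℓ ≡ 1 [MOD p] := by
  have hp : p.Prime := Fact.out
  by_cases hlp : ℓ = p
  · subst hlp
    have h1 : ¬ ℓ ∣ Nat.card (Sylow ℓ G) := by
      intro h
      have h2 := card_sylow_modEq_one ℓ G
      have h3 : Nat.card (Sylow ℓ G) ≡ 0 [MOD ℓ] := (Nat.modEq_zero_iff_dvd).mpr h
      have h4 : 1 ≡ 0 [MOD ℓ] := h2.symm.trans h3
      exact hp.one_lt.ne' (Nat.dvd_one.mp ((Nat.modEq_zero_iff_dvd).mp h4))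
    rw [Nat.factorization_eq_zero_of_not_dvd h1, pow_zero]
  haveI : Fact ℓ.Prime := ⟨hℓ⟩
  have hKN : ∀ X : Subgroup G, X ≤ Cfsg.Agent.Lib.Helper6.Subn.Nz K := by
    intro X
    have : Subgroup.normalizer (K : Set G) = ⊤ := Subgroup.normalizer_eq_top K
    intro x _
    change x ∈ Subgroup.normalizer (K : Set G)
    rw [this]; exact Subgroup.mem_top x
  -- |K| = index of P
  have hcardK : Nat.card G = Nat.card K * Nat.card (P : Subgroup G) := by
    have := Cfsg.Agent.Lib.Helper6.Rad.card_sup_mul (hKN (P : Subgroup G))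
    rw [sup_comm, hsup, inf_comm, hinf, Subgroup.card_top, Subgroup.card_bot, mul_one] at this
    exact this
  have hpK : ¬ p ∣ Nat.card K := by
    have h1 := (P : Subgroup G).index_mul_card
    rw [hcardK] at h1
    have h2 : (P : Subgroup G).index = Nat.card K :=
      Nat.eq_of_mul_eq_mul_right Nat.card_pos h1
    rw [← h2]
    exact P.not_dvd_index
  have hcop : (Nat.card (P : Subgroup G)).Coprime (Nat.card K) := by
    obtain ⟨n, hn⟩ := IsPGroup.iff_card.mp P.2
    rw [hn]
    exact Nat.Coprime.pow_left _ ((Nat.Prime.coprime_iff_not_dvd hp).mpr hpK)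
  have hsol : Group.IsSolvable (P : Subgroup G) := by
    have := P.2.isNilpotent
    infer_instance
  set NP := Subgroup.normalizer ((P : Subgroup G) : Set G) with hNP
  set D := K ⊓ NP with hD
  -- n_p * |D| = |K|
  have hnD : Nat.card (Sylow p G) * Nat.card D = Nat.card K := by
    have h1 := Cfsg.Agent.Lib.Helper6.Rad.card_sup_mul (hKN NP)
    have h2 : K ⊔ NP = ⊤ := by
      rw [eq_top_iff, ← hsup, sup_comm]
      exact sup_le_sup_left Subgroup.le_normalizer K
    rw [h2, Subgroup.card_top] at h1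
    have h3 : Nat.card (Sylow p G) * Nat.card NP = Nat.card G := by
      rw [P.card_eq_index_normalizer]
      exact Subgroup.index_mul_card _
    rw [← h3] at h1
    have h4 : 0 < Nat.card NP := Nat.card_pos
    apply Nat.eq_of_mul_eq_mul_right h4
    calc Nat.card (Sylow p G) * Nat.card D * Nat.card NP
        = Nat.card (Sylow p G) * Nat.card NP * Nat.card D := by ring
      _ = Nat.card K * Nat.card NP := h1
  obtain ⟨U, hUD, hUc⟩ := Cfsg.Agent.Lib.Helper1.exists_sylow_sub D ℓ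
  have hPD : ∀ x ∈ (P : Subgroup G), ∀ d ∈ D, x * d = d * x := by
    intro x hx d hd
    have h1 : d * x * d⁻¹ * x⁻¹ ∈ (P : Subgroup G) ⊓ K := by
      constructor
      · have : d * x * d⁻¹ ∈ (P : Subgroup G) := (Subgroup.mem_normalizer_iff.mp hd.2 x).mp hx
        exact (P : Subgroup G).mul_mem this ((P : Subgroup G).inv_mem hx)
      · have h2 : x * d⁻¹ * x⁻¹ ∈ K := ‹K.Normal›.conj_mem _ (inv_mem hd.1) x
        have : d * x * d⁻¹ * x⁻¹ = d * (x * d⁻¹ * x⁻¹) := by group
        rw [this]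
        exact mul_mem hd.1 h2
    rw [hinf, Subgroup.mem_bot] at h1
    calc x * d = (d * x * d⁻¹ * x⁻¹)⁻¹ * (d * x) := by group
      _ = d * x := by rw [h1, inv_one, one_mul]
  have hPU : (P : Subgroup G) ≤ Subgroup.normalizer (U : Set G) := by
    intro x hx
    rw [Subgroup.mem_normalizer_iff]
    intro u
    constructor
    · intro hu
      have : x * u * x⁻¹ = u := by rw [hPD x hx u (hUD hu)]; group
      rw [this]; exact hu
    · intro hu
      have h1 : x⁻¹ * (x * u * x⁻¹) = (x * u * x⁻¹) * x⁻¹ := hPD x⁻¹ (inv_mem hx) _ (hUD hu)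
      have : u = x * u * x⁻¹ := by
        calc u = x⁻¹ * (x * u * x⁻¹) * x := by group
          _ = (x * u * x⁻¹) * x⁻¹ * x := by rw [h1]
          _ = _ := by group
      rw [this]; exact hu
  obtain ⟨R, hRK, hRc, hPR, hUR⟩ := Cfsg.Agent.Lib.Helper1.exists_invariant_sylow_ge
    (P : Subgroup G) K (by rw [Subgroup.normalizer_eq_top]; exact le_top) hcop (Or.inl hsol) ℓ U
    (hUD.trans inf_le_left) (IsPGroup.iff_card.mpr ⟨_, hUc⟩) hPU
  set O : Set (Sylow p G) := MulAction.orbit R P with hO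
  have hO1 : Nat.card O ≡ 1 [MOD p] := by
    refine card_modEq_one p P O (MulAction.mem_orbit_self _) ?_
    rintro x hx Q ⟨r, rfl⟩
    have hxr : x * r * x⁻¹ ∈ R := by
      have := hPR hx
      rw [Subgroup.mem_normalizer_iff] at this
      exact (this r).mp r.2
    refine ⟨⟨x * r * x⁻¹, hxr⟩, ?_⟩
    change (x * r * x⁻¹) • P = x • (r : G) • P
    have hxP : x⁻¹ • P = P := by
      rw [Sylow.smul_eq_iff_mem_normalizer]
      exact Subgroup.le_normalizer (inv_mem hx)
    rw [mul_smul, mul_smul, hxP]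
  -- |O| = relIndex
  have hO2 : Nat.card O = NP.relIndex R := by
    rw [Nat.card_coe_set_eq, ← MulAction.index_stabilizer]
    have : MulAction.stabilizer R P = NP.subgroupOf R := by
      ext r
      rw [MulAction.mem_stabilizer_iff, Subgroup.mem_subgroupOf]
      exact Sylow.smul_eq_iff_mem_normalizer
    rw [this]
    rfl
  have hO3 : Nat.card (NP ⊓ R : Subgroup G) * Nat.card O = Nat.card R := by
    have h1 := Subgroup.relIndex_mul_relIndex ⊥ (NP ⊓ R) R bot_le inf_le_right
    rw [Subgroup.relIndex_bot_left, Subgroup.relIndex_bot_left, Subgroup.inf_relIndex_right] at h1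
    rw [hO2]
    exact h1
  have hNR : Nat.card (NP ⊓ R : Subgroup G) = ℓ ^ (Nat.card D).factorization ℓ := by
    have hle : NP ⊓ R ≤ D := le_inf (inf_le_right.trans hRK) inf_le_left
    have h1 : Nat.card (NP ⊓ R : Subgroup G) ∣ Nat.card R := Subgroup.card_dvd_of_le inf_le_right
    rw [hRc] at h1
    obtain ⟨c, -, hc⟩ := (Nat.dvd_prime_pow hℓ).mp h1
    have h2 : ℓ ^ c ∣ Nat.card D := hc ▸ Subgroup.card_dvd_of_le hle
    have h3 : c ≤ (Nat.card D).factorization ℓ :=
      (hℓ.pow_dvd_iff_le_factorization Nat.card_pos.ne').mp h2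
    have h4 : Nat.card U ∣ Nat.card (NP ⊓ R : Subgroup G) :=
      Subgroup.card_dvd_of_le (le_inf (hUD.trans inf_le_right) hUR)
    rw [hUc, hc] at h4
    have h5 : (Nat.card D).factorization ℓ ≤ c := (Nat.pow_dvd_pow_iff_le_right hℓ.one_lt).mp h4
    rw [hc, le_antisymm h3 h5]
  have hfac : (Nat.card K).factorization ℓ =
      (Nat.card (Sylow p G)).factorization ℓ + (Nat.card D).factorization ℓ := by
    rw [← hnD, Nat.factorization_mul Nat.card_pos.ne' Nat.card_pos.ne', Finsupp.add_apply]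
  rw [hNR, hRc, hfac, pow_add, mul_comm] at hO3
  have hO4 : Nat.card O = ℓ ^ (Nat.card (Sylow p G)).factorization ℓ :=
    Nat.eq_of_mul_eq_mul_right (pow_pos hℓ.pos _) hO3
  rw [← hO4]
  exact hO1

def Good (p : ℕ) (n : ℕ) : Prop :=
  ∃ l : List ℕ, l.prod = n ∧ ∀ m ∈ l, (IsPrimePow m ∧ m % p = 1) ∨
    ∃ (S : Type u) (_ : Group S) (_ : Finite S), IsSimpleGroup S ∧ m = Nat.card (Sylow p S)

theorem good_one (p : ℕ) : Good.{u} p 1 := ⟨[], rfl, by simp⟩

theorem good_mul {p a b : ℕ} (ha : Good.{u} p a) (hb : Good.{u} p b) : Good.{u} p (a * b) := by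
  obtain ⟨l1, h1, h1'⟩ := ha
  obtain ⟨l2, h2, h2'⟩ := hb
  refine ⟨l1 ++ l2, by rw [List.prod_append, h1, h2], ?_⟩
  intro m hm
  rcases List.mem_append.mp hm with h | h
  · exact h1' m h
  · exact h2' m h

theorem good_of_parts {p n : ℕ} (hp : p.Prime) (hn : n ≠ 0)
    (h : ∀ ℓ : ℕ, ℓ.Prime → ℓ ^ n.factorization ℓ ≡ 1 [MOD p]) : Good.{u} p n := by
  refine ⟨n.primeFactors.toList.map (fun ℓ => ℓ ^ n.factorization ℓ), ?_, ?_⟩
  · rw [Finset.prod_map_toList]
    have := Nat.factorization_prod_pow_eq_self hn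
    rw [Finsupp.prod, Nat.support_factorization] at this
    exact this
  · intro m hm
    obtain ⟨ℓ, hℓ, rfl⟩ := List.mem_map.mp hm
    rw [Finset.mem_toList] at hℓ
    have hℓp : ℓ.Prime := Nat.prime_of_mem_primeFactors hℓ
    have hℓd : ℓ ∣ n := Nat.dvd_of_mem_primeFactors hℓ
    left
    refine ⟨hℓp.isPrimePow.pow (hℓp.factorization_pos_of_dvd hn hℓd).ne', ?_⟩
    have := h ℓ hℓp
    unfold Nat.ModEq at this
    rw [this, Nat.mod_eq_of_lt hp.one_lt]

theorem main (p : ℕ) [Fact p.Prime] : ∀ (n : ℕ) (G : Type u) [Group G] [Finite G],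
    Nat.card G = n → Good.{u} p (Nat.card (Sylow p G)) := by
  intro n
  induction n using Nat.strong_induction_on with
  | _ n ih =>
  intro G _ _ hn
  have hp : p.Prime := Fact.out
  have IH : ∀ (H : Type u) [Group H] [Finite H], Nat.card H < Nat.card G →
      Good.{u} p (Nat.card (Sylow p H)) := fun H _ _ h => ih _ (hn ▸ h) H rfl
  obtain ⟨P⟩ : Nonempty (Sylow p G) := inferInstance
  by_cases hs : IsSimpleGroup G
  · refine ⟨[Nat.card (Sylow p G)], by simp, ?_⟩
    intro m hm
    rw [List.mem_singleton] at hm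
    right
    exact ⟨G, inferInstance, inferInstance, hs, hm⟩
  by_cases hnt : Nontrivial G
  swap
  · rw [not_nontrivial_iff_subsingleton] at hnt
    have : (P : Subgroup G).Normal := by
      rw [Subsingleton.elim (P : Subgroup G) ⊥]
      infer_instance
    rw [card_sylow_eq_one_of_normal p P this]
    exact good_one p
  obtain ⟨K, hKn, hKb, hKt⟩ : ∃ K : Subgroup G, K.Normal ∧ K ≠ ⊥ ∧ K ≠ ⊤ := by
    by_contra h
    push Not at h
    apply hs
    refine ⟨fun H hH => ?_⟩
    by_cases hb : H = ⊥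
    · exact Or.inl hb
    · exact Or.inr (h H hH hb)
  haveI := hKn
  set N := ((P : Subgroup G) ⊔ K) ⊓
    Subgroup.normalizer (((P : Subgroup G) ⊓ K : Subgroup G) : Set G) with hN
  haveI : (((P : Subgroup G) ⊓ K).subgroupOf N).Normal :=
    Subgroup.normal_subgroupOf_of_le_normalizer inf_le_right
  have h := Cfsg.Agent.S4341.result p K P N hN
  by_cases hcase : N = ⊤ ∧ (P : Subgroup G) ⊓ K = ⊥
  · obtain ⟨h1, h2⟩ := hcase
    have hsup : (P : Subgroup G) ⊔ K = ⊤ := by
      rw [eq_top_iff, ← h1]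
      exact inf_le_left
    exact good_of_parts hp Nat.card_pos.ne' (ell_part p K P hsup h2)
  · rw [h]
    refine good_mul (good_mul (IH _ (card_quot_lt_of_ne_bot K hKb)) (IH _ (card_lt_of_ne_top K hKt)))
      (IH _ ?_)
    by_cases hNt : N = ⊤
    · have hne : (P : Subgroup G) ⊓ K ≠ ⊥ := fun h' => hcase ⟨hNt, h'⟩
      have hne' : ((P : Subgroup G) ⊓ K).subgroupOf N ≠ ⊥ := by
        intro h'
        rw [Subgroup.subgroupOf_eq_bot, hNt, disjoint_top] at h'
        exact hne h'
      refine lt_of_lt_of_le (card_quot_lt_of_ne_bot _ hne') ?_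
      exact Nat.le_of_dvd Nat.card_pos (Subgroup.card_subgroup_dvd_card N)
    · refine lt_of_le_of_lt ?_ (card_lt_of_ne_top N hNt)
      exact Nat.le_of_dvd Nat.card_pos (Subgroup.card_quotient_dvd_card _)

end Cfsg.Agent.Lib.Helper6.SylFac
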