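import Mathlib
import Cfsg.Agent.Lib.Helper6.WC2
import Cfsg.Agent.Lib.Helper6.Off4

set_option autoImplicit false
set_option maxHeartbeats 400000
set_option linter.unusedSectionVars false

/-! Transvections on a normal abelian subgroup which are not in `O₂` modulo the kernel force `S₄`. -/

namespace Cfsg.Agent.Lib.Helper6.WC2

open Cfsg.Agent.Lib.Helper6.Basic Cfsg.Agent.Lib.Helper6.Subn Cfsg.Agent.Lib.Helper6.Quasi
  Cfsg.Agent.Lib.Helper6.Rad Cfsg.Agent.Lib.Helper6.PAct Cfsg.Agent.Lib.Helper6.Off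

theorem transvection_S4 {X : Type*} [Group X] [Finite X] (V : Subgroup X) [hV : V.Normal]
    (hVc : ∀ a ∈ V, ∀ b ∈ V, a * b = b * a) {a h : X} {n : ℕ} (hn : Odd n)
    (ha : a ∉ Cz V) (ha2 : a * a ∈ Cz V)
    (hidx : Nat.card V ≤ 2 * Nat.card ↥(V ⊓ Subgroup.centralizer {a}))
    (hh : h ∉ Cz V) (hhn : h ^ n ∈ Cz V) (hinv : a * h * a⁻¹ * h ∈ Cz V) :
    Cfsg.Involves (Equiv.Perm (Fin 4)) X := by
  have : Fact (Nat.Prime 2) := ⟨Nat.prime_two⟩
  have hCn : (Cz V).Normal := Subgroup.normal_centralizer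
  obtain ⟨w, hwV, hw1, hw2, haw, hA⟩ := transvection_comm V hVc ha hidx
  set a' := h * a * h⁻¹ with ha'
  set w' := h * w * h⁻¹ with hw'
  have hw'V : w' ∈ V := hV.conj_mem w hwV h
  have hw'1 : w' ≠ 1 := by
    intro hc
    apply hw1
    have := congrArg (fun z => h⁻¹ * z * h) hc
    simpa [hw', mul_assoc] using this
  have hw'2 : w' * w' = 1 := by
    calc w' * w' = h * (w * w) * h⁻¹ := by rw [hw']; group
      _ = 1 := by rw [hw2]; group
  have ha'w' : a' * w' * a'⁻¹ = w' := by
    calc a' * w' * a'⁻¹ = h * (a * w * a⁻¹) * h⁻¹ := by rw [ha', hw']; group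
      _ = w' := by rw [haw]
  have hA' : ∀ v ∈ V, a' * v * a'⁻¹ * v⁻¹ = 1 ∨ a' * v * a'⁻¹ * v⁻¹ = w' := by
    intro v hv
    have hv' : h⁻¹ * v * h ∈ V := by
      have := hV.conj_mem v hv h⁻¹
      simpa using this
    have h1 : a' * v * a'⁻¹ * v⁻¹ = h * (a * (h⁻¹ * v * h) * a⁻¹ * (h⁻¹ * v * h)⁻¹) * h⁻¹ := by
      rw [ha']; group
    rcases hA _ hv' with h2 | h2
    · left; rw [h1, h2]; group
    · right; rw [h1, h2]
  set U := Subgroup.zpowers w ⊔ Subgroup.zpowers w' with hU
  have hwU : w ∈ U := (le_sup_left : Subgroup.zpowers w ≤ U) (Subgroup.mem_zpowers w)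
  have hw'U : w' ∈ U := (le_sup_right : Subgroup.zpowers w' ≤ U) (Subgroup.mem_zpowers w')
  have hUV : U ≤ V := sup_le (Subgroup.zpowers_le.mpr hwV) (Subgroup.zpowers_le.mpr hw'V)
  have hU2 : ∀ u ∈ U, u * u = 1 := by
    have hVC : V ≤ Cz V := by
      intro v hv
      rw [Subgroup.mem_centralizer_iff]
      intro x hx
      exact hVc x hx v hv
    have h1 : U ≤ Cfsg.Agent.Lib.Helper6.Off4.OmZ V := by
      apply sup_le
      · rw [Subgroup.zpowers_le]
        exact Cfsg.Agent.Lib.Helper6.Off4.mem_OmZ.mpr ⟨hwV, hVC hwV, hw2⟩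
      · rw [Subgroup.zpowers_le]
        exact Cfsg.Agent.Lib.Helper6.Off4.mem_OmZ.mpr ⟨hw'V, hVC hw'V, hw'2⟩
    intro u hu
    exact (Cfsg.Agent.Lib.Helper6.Off4.mem_OmZ.mp (h1 hu)).2.2
  -- normalizing
  have hnorm : ∀ g : X, g * w * g⁻¹ ∈ U → g * w' * g⁻¹ ∈ U → g ∈ Nz U := by
    intro g h1 h2
    apply mem_Nz_of_conj_mem
    have h3 : U ≤ U.comap (MulAut.conj g).toMonoidHom := by
      apply sup_le
      · rw [Subgroup.zpowers_le]; exact h1
      · rw [Subgroup.zpowers_le]; exact h2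
    intro u hu
    exact h3 hu
  have haU : a ∈ Nz U := by
    apply hnorm
    · rw [haw]; exact hwU
    · rcases hA w' hw'V with h1 | h1
      · have : a * w' * a⁻¹ = w' := by
          have := congrArg (fun z => z * w') h1
          simpa [mul_assoc] using this
        rw [this]; exact hw'U
      · have : a * w' * a⁻¹ = w * w' := by
          have := congrArg (fun z => z * w') h1
          simpa [mul_assoc] using this
        rw [this]; exact U.mul_mem hwU hw'U
  have ha'U : a' ∈ Nz U := by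
    apply hnorm
    · rcases hA' w hwV with h1 | h1
      · have : a' * w * a'⁻¹ = w := by
          have := congrArg (fun z => z * w) h1
          simpa [mul_assoc] using this
        rw [this]; exact hwU
      · have : a' * w * a'⁻¹ = w' * w := by
          have := congrArg (fun z => z * w) h1
          simpa [mul_assoc] using this
        rw [this]; exact U.mul_mem hw'U hwU
    · rw [ha'w']; exact hw'U
  set y := a' * a⁻¹ with hy
  have hyU : y ∈ Nz U := (Nz U).mul_mem ha'U ((Nz U).inv_mem haU)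
  -- action of y on V
  have hB : ∀ v ∈ V, ∃ c ∈ U, y * v * y⁻¹ = v * c := by
    intro v hv
    have hv1 : a⁻¹ * v * a ∈ V := by
      have := hV.conj_mem v hv a⁻¹
      simpa using this
    obtain ⟨t, htU, ht⟩ : ∃ t ∈ U, a⁻¹ * v * a = t * v := by
      rcases hA _ hv1 with h1 | h1
      · refine ⟨1, U.one_mem, ?_⟩
        have h2 : a * (a⁻¹ * v * a) * a⁻¹ * (a⁻¹ * v * a)⁻¹ = v * (a⁻¹ * v * a)⁻¹ := by group
        rw [h2] at h1
        rw [one_mul]
        exact (mul_inv_eq_one.mp h1).symm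
      · refine ⟨w, hwU, ?_⟩
        have h2 : a * (a⁻¹ * v * a) * a⁻¹ * (a⁻¹ * v * a)⁻¹ = v * (a⁻¹ * v * a)⁻¹ := by group
        rw [h2] at h1
        have h3 : v = w * (a⁻¹ * v * a) := mul_inv_eq_iff_eq_mul.mp h1
        calc a⁻¹ * v * a = (w * w) * (a⁻¹ * v * a) := by rw [hw2, one_mul]
          _ = w * (w * (a⁻¹ * v * a)) := by group
          _ = w * v := by rw [← h3]
    have htv : t * v ∈ V := V.mul_mem (hUV htU) hv
    obtain ⟨t', ht'U, ht'⟩ : ∃ t' ∈ U, a' * (t * v) * a'⁻¹ = t' * (t * v) := by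
      rcases hA' _ htv with h1 | h1
      · exact ⟨1, U.one_mem, by rw [one_mul]; exact mul_inv_eq_one.mp h1⟩
      · exact ⟨w', hw'U, mul_inv_eq_iff_eq_mul.mp h1⟩
    refine ⟨t' * t, U.mul_mem ht'U htU, ?_⟩
    calc y * v * y⁻¹ = a' * (a⁻¹ * v * a) * a'⁻¹ := by rw [hy]; group
      _ = t' * (t * v) := by rw [ht, ht']
      _ = (t' * t) * v := by group
      _ = v * (t' * t) := hVc _ (hUV (U.mul_mem ht'U htU)) _ hv
  -- y modulo the kernel
  let π := QuotientGroup.mk' (Cz V)
  have hπ : ∀ x, π x = 1 ↔ x ∈ Cz V := fun x => QuotientGroup.eq_one_iff x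
  have hπy : π y = π h * π h := by
    have h1 : π a * π h * (π a)⁻¹ * π h = 1 := by
      rw [← map_inv, ← map_mul, ← map_mul, ← map_mul]; exact (hπ _).mpr hinv
    have h2 : π a * (π h)⁻¹ * (π a)⁻¹ = π h := by
      have h3 : π a * π h * (π a)⁻¹ = (π h)⁻¹ := mul_eq_one_iff_eq_inv.mp h1
      have h4 := congrArg (fun z => z⁻¹) h3
      simpa [mul_assoc] using h4
    calc π y = π h * (π a * (π h)⁻¹ * (π a)⁻¹) := by
          rw [hy, ha']; simp only [map_mul, map_inv]; group
      _ = π h * π h := by rw [h2]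
  have hπhn : π h ^ n = 1 := by rw [← map_pow]; exact (hπ _).mpr hhn
  have hyV : y ∉ Cz V := by
    intro hc
    apply hh
    rw [← hπ]
    have h1 : π h * π h = 1 := by rw [← hπy]; exact (hπ _).mpr hc
    obtain ⟨k, rfl⟩ := hn
    have h2 : π h ^ (2 * k + 1) = π h := by
      rw [pow_succ, pow_mul, pow_two, h1, one_pow, one_mul]
    rw [← h2]; exact hπhn
  have hynV : y ^ n ∈ Cz V := by
    rw [← hπ, map_pow, hπy, ← pow_two, ← pow_mul, mul_comm, pow_mul, hπhn, one_pow]
  have hCVU : Cz V ≤ Cz U := Cz_anti hUV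
  have hyCU : y ∉ Cz U := by
    intro hc
    apply hyV
    rw [Subgroup.mem_centralizer_iff]
    intro v hv
    obtain ⟨c, hcU, hcv⟩ := hB v hv
    have hcy : c * y = y * c := (Subgroup.mem_centralizer_iff.mp hc) c hcU
    have hpow : ∀ j : ℕ, y ^ j * v * (y ^ j)⁻¹ = v * c ^ j := by
      intro j
      induction j with
      | zero => simp
      | succ j ih =>
        have hcj : y * c ^ j * y⁻¹ = c ^ j := by
          have : Commute y (c ^ j) := (Commute.pow_right hcy.symm j)
          rw [this.eq]; group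
        calc y ^ (j + 1) * v * (y ^ (j + 1))⁻¹ = y * (y ^ j * v * (y ^ j)⁻¹) * y⁻¹ := by
              rw [pow_succ']; group
          _ = y * (v * c ^ j) * y⁻¹ := by rw [ih]
          _ = (y * v * y⁻¹) * (y * c ^ j * y⁻¹) := by group
          _ = v * c * c ^ j := by rw [hcv, hcj]
          _ = v * c ^ (j + 1) := by rw [pow_succ']; group
    have h1 : y ^ n * v * (y ^ n)⁻¹ = v := by
      rw [← (Subgroup.mem_centralizer_iff.mp hynV) v hv]; group
    have h2 : c ^ n = 1 := by
      have := (hpow n).symm.trans h1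
      exact mul_eq_left.mp this
    have h3 : c = 1 := by
      obtain ⟨k, rfl⟩ := hn
      have h4 : c ^ (2 * k + 1) = c := by
        rw [pow_succ, pow_mul, pow_two, hU2 c hcU, one_pow, one_mul]
      rw [← h4]; exact h2
    rw [h3, mul_one] at hcv
    have := congrArg (fun z => z * y) hcv
    simpa [mul_assoc] using this.symm
  -- centralizing U
  have hcent : ∀ g : X, g * w * g⁻¹ = w → g * w' * g⁻¹ = w' → g ∈ Cz U := by
    intro g h1 h2
    have h3 : U ≤ Subgroup.centralizer {g} := by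
      apply sup_le
      · rw [Subgroup.zpowers_le, Subgroup.mem_centralizer_singleton_iff]
        have := congrArg (fun z => z * g) h1
        simpa [mul_assoc] using this.symm
      · rw [Subgroup.zpowers_le, Subgroup.mem_centralizer_singleton_iff]
        have := congrArg (fun z => z * g) h2
        simpa [mul_assoc] using this.symm
    rw [Subgroup.mem_centralizer_iff]
    intro u hu
    exact (Subgroup.mem_centralizer_singleton_iff.mp (h3 hu))
  have hne : w ≠ w' := by
    intro hc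
    apply hyCU
    have h1 : a' * w * a'⁻¹ = w := by
      have := ha'w'
      rwa [← hc] at this
    have h2 : y * w * y⁻¹ = w := by
      have h3 : a⁻¹ * w * a = w := by
        have := congrArg (fun z => a⁻¹ * z * a) haw
        simpa [mul_assoc] using this.symm
      calc y * w * y⁻¹ = a' * (a⁻¹ * w * a) * a'⁻¹ := by rw [hy]; group
        _ = w := by rw [h3, h1]
    exact hcent y h2 (by rw [← hc]; exact h2)
  have h4 : Nat.card U = 4 := by
    have h1 : Subgroup.zpowers w' ≤ Nz (Subgroup.zpowers w) := by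
      apply le_trans _ (Quasi.Cz_le_Nz _)
      rw [Subgroup.zpowers_le, Subgroup.mem_centralizer_iff]
      intro x hx
      exact hVc x (Subgroup.zpowers_le.mpr hwV hx) w' hw'V
    have h2 := card_sup_mul h1
    have h3 : Subgroup.zpowers w ⊓ Subgroup.zpowers w' = ⊥ := by
      rw [eq_bot_iff]
      intro x hx
      obtain ⟨hx1, hx2⟩ := Subgroup.mem_inf.mp hx
      rw [Subgroup.mem_bot]
      rcases Cfsg.Agent.Lib.Helper3.S4Rec.zpowers_invol hw2 x hx1 with h5 | h5
      · exact h5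
      · rcases Cfsg.Agent.Lib.Helper3.S4Rec.zpowers_invol hw'2 x hx2 with h6 | h6
        · exact h6
        · exact absurd (h5.symm.trans h6) hne
    rw [h3, Subgroup.card_bot, mul_one, Nat.card_zpowers, Nat.card_zpowers,
      orderOf_eq_prime (by rw [pow_two]; exact hw2) hw1,
      orderOf_eq_prime (by rw [pow_two]; exact hw'2) hw'1] at h2
    exact h2
  by_cases haC : a ∈ Cz U
  · have ha'C : a' ∉ Cz U := by
      intro hc
      exact hyCU ((Cz U).mul_mem hc ((Cz U).inv_mem haC))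
    have ha'2 : a' * a' ∈ Cz U := by
      apply hCVU
      have := hCn.conj_mem _ ha2 h
      have h5 : h * (a * a) * h⁻¹ = a' * a' := by rw [ha']; group
      rwa [h5] at this
    exact four_S4' U h4 ha'U hyU hn ha'C ha'2 hyCU (hCVU hynV)
  · exact four_S4' U h4 haU hyU hn haC (hCVU ha2) hyCU (hCVU hynV)

theorem transvection_involves {X : Type*} [Group X] [Finite X] (V : Subgroup X) [hV : V.Normal]
    (hVc : ∀ a ∈ V, ∀ b ∈ V, a * b = b * a) {a : X}
    (ha : a ∉ Cz V) (ha2 : a * a ∈ Cz V)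
    (hidx : Nat.card V ≤ 2 * Nat.card ↥(V ⊓ Subgroup.centralizer {a}))
    [hCn : (Cz V).Normal]
    (hO : ∀ N : Subgroup (X ⧸ Cz V), N.Normal → IsPGroup 2 N → (QuotientGroup.mk a : X ⧸ Cz V) ∉ N) :
    Cfsg.Involves (Equiv.Perm (Fin 4)) X := by
  have : Fact (Nat.Prime 2) := ⟨Nat.prime_two⟩
  have ht : orderOf (QuotientGroup.mk a : X ⧸ Cz V) = 2 := by
    apply orderOf_eq_prime
    · rw [pow_two, ← QuotientGroup.mk_mul, QuotientGroup.eq_one_iff]; exact ha2
    · rw [Ne, QuotientGroup.eq_one_iff]; exact ha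
  obtain ⟨hb, hb1, hbo, hbi⟩ := Cfsg.Agent.Lib.Helper3.BaerSuzuki.exists_inverted_odd _ ht hO
  obtain ⟨h, rfl⟩ := QuotientGroup.mk_surjective hb
  refine transvection_S4 V hVc hbo ha ha2 hidx (h := h) ?_ ?_ ?_
  · rwa [Ne, QuotientGroup.eq_one_iff] at hb1
  · rw [← QuotientGroup.eq_one_iff, QuotientGroup.mk_pow]; exact pow_orderOf_eq_one _
  · rw [← QuotientGroup.eq_one_iff, QuotientGroup.mk_mul, QuotientGroup.mk_mul, QuotientGroup.mk_mul,
      QuotientGroup.mk_inv, hbi, inv_mul_cancel]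

end Cfsg.Agent.Lib.Helper6.WC2
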