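import Mathlib
import Cfsg.Agent.Lib.Helper6.Off6

set_option autoImplicit false
set_option maxHeartbeats 400000
set_option linter.unusedSectionVars false

/-! Offenders on a normal abelian subgroup: minimal offenders. -/

namespace Cfsg.Agent.Lib.Helper6.WC3

open Cfsg.Agent.Lib.Helper6.Basic Cfsg.Agent.Lib.Helper6.Subn Cfsg.Agent.Lib.Helper6.Quasi
  Cfsg.Agent.Lib.Helper6.Rad Cfsg.Agent.Lib.Helper6.Off Cfsg.Agent.Lib.Helper6.PAct
open Cfsg.Agent.Lib.Helper3.PLocal Cfsg.Agent.Lib.Helper1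
open scoped commutatorElement Pointwise

universe u
variable {X : Type u} [Group X]

def IsOff (V A : Subgroup X) : Prop :=
  ¬ A ≤ Cz V ∧ Nat.card ↥(A ⊓ Cz V) * Nat.card V ≤ Nat.card A * Nat.card ↥(V ⊓ Cz A)

theorem off_of_PMax [Finite X] {V S A : Subgroup X} (hVn : V.Normal) (hVc : V ≤ Cz V) (hVS : V ≤ S)
    (hA : A ∈ PMax Pab S) :
    Nat.card ↥(A ⊓ Cz V) * Nat.card V ≤ Nat.card A * Nat.card ↥(V ⊓ Cz A) := by
  have hAab : A ≤ Cz A := Subgroup.le_centralizer_iff_isMulCommutative.mpr hA.2.1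
  have hab : V ⊔ (A ⊓ Cz V) ≤ Cz (V ⊔ (A ⊓ Cz V)) := by
    rw [Cz_sup]
    apply sup_le
    · exact le_inf hVc (Subgroup.le_centralizer_iff.mp inf_le_right)
    · exact le_inf inf_le_right ((inf_le_left.trans hAab).trans (Cz_anti inf_le_left))
  have hmax := hA.2.2 (V ⊔ (A ⊓ Cz V)) (sup_le hVS (inf_le_left.trans hA.1))
    (Subgroup.le_centralizer_iff_isMulCommutative.mp hab)
  have hNV : A ⊓ Cz V ≤ Nz V := by
    rw [show Nz V = ⊤ from Subgroup.normalizer_eq_top_iff.mpr hVn]; exact le_top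
  have c1 := card_sup_mul hNV
  have hsub : V ⊓ (A ⊓ Cz V) ≤ V ⊓ Cz A := inf_le_inf_left _ (inf_le_left.trans hAab)
  calc Nat.card ↥(A ⊓ Cz V) * Nat.card V = Nat.card V * Nat.card ↥(A ⊓ Cz V) := mul_comm _ _
    _ = Nat.card ↥(V ⊔ (A ⊓ Cz V)) * Nat.card ↥(V ⊓ (A ⊓ Cz V)) := c1.symm
    _ ≤ Nat.card A * Nat.card ↥(V ⊓ Cz A) := Nat.mul_le_mul hmax (Subgroup.card_le_of_le hsub)

theorem min_off [Finite X] {p : ℕ} [hp : Fact p.Prime] {V A A₁ : Subgroup X} (hVp : IsPGroup p V)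
    (hA : IsOff V A)
    (hmin : ∀ B : Subgroup X, B ≤ A → IsOff V B →
      Nat.card A * Nat.card ↥(B ⊓ Cz V) ≤ Nat.card B * Nat.card ↥(A ⊓ Cz V))
    (hA₁ : A₁ ≤ A) (hcard : Nat.card A = p * Nat.card A₁) : V ⊓ Cz A₁ ≤ Cz A ∨ A₁ ≤ Cz V := by
  by_cases h1 : A₁ ≤ Cz V
  · exact Or.inr h1
  left
  have hpos : 0 < Nat.card A₁ := Nat.card_pos
  by_cases h2 : IsOff V A₁
  · have h3 := hmin A₁ hA₁ h2
    rw [hcard] at h3
    have h4 : p * Nat.card ↥(A₁ ⊓ Cz V) ≤ Nat.card ↥(A ⊓ Cz V) := by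
      apply Nat.le_of_mul_le_mul_left _ hpos
      calc Nat.card A₁ * (p * Nat.card ↥(A₁ ⊓ Cz V)) = p * Nat.card A₁ * Nat.card ↥(A₁ ⊓ Cz V) := by ring
        _ ≤ _ := h3
    obtain ⟨c, hc, hcA⟩ : ∃ c ∈ A ⊓ Cz V, c ∉ A₁ := by
      by_contra hcon
      push Not at hcon
      have h5 : A ⊓ Cz V ≤ A₁ ⊓ Cz V := le_inf hcon inf_le_right
      have h6 := Subgroup.card_le_of_le h5
      have h7 : 0 < Nat.card ↥(A₁ ⊓ Cz V) := Nat.card_pos
      have h8 : 2 ≤ p := hp.out.two_le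
      nlinarith
    obtain ⟨hcA', hcC⟩ := Subgroup.mem_inf.mp hc
    set B := A₁ ⊔ Subgroup.zpowers c with hB
    have hBA : B ≤ A := sup_le hA₁ (Subgroup.zpowers_le.mpr hcA')
    have hAB : A ≤ B := by
      have e1 := Cfsg.Agent.Lib.Helper6.Card.card_mul_relIndex (le_sup_left : A₁ ≤ B)
      have e2 := Cfsg.Agent.Lib.Helper6.Card.card_mul_relIndex hBA
      have e3 : A₁.relIndex B * B.relIndex A = p := by
        apply Nat.eq_of_mul_eq_mul_left hpos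
        rw [← mul_assoc, e1, e2, hcard, mul_comm]
      have e4 : A₁.relIndex B ∣ p := ⟨_, e3.symm⟩
      rcases (Nat.dvd_prime hp.out).mp e4 with e5 | e5
      · exfalso
        apply hcA
        exact Subgroup.relIndex_eq_one.mp e5
          ((le_sup_right : Subgroup.zpowers c ≤ B) (Subgroup.mem_zpowers c))
      · rw [e5] at e3
        have e6 : B.relIndex A = 1 := by
          have := hp.out.pos
          exact Nat.eq_of_mul_eq_mul_left this (by rw [e3, mul_one])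
        exact Subgroup.relIndex_eq_one.mp e6
    refine le_trans ?_ (Cz_anti hAB)
    rw [hB, Cz_sup]
    apply le_inf inf_le_right
    apply inf_le_left.trans
    exact Subgroup.le_centralizer_iff.mp (Subgroup.zpowers_le.mpr hcC)
  · have h3 : Nat.card A₁ * Nat.card ↥(V ⊓ Cz A₁) < Nat.card ↥(A₁ ⊓ Cz V) * Nat.card V := by
      by_contra hcon
      exact h2 ⟨h1, not_lt.mp hcon⟩
    have h4 : Nat.card ↥(A₁ ⊓ Cz V) ≤ Nat.card ↥(A ⊓ Cz V) :=
      Subgroup.card_le_of_le (inf_le_inf_right _ hA₁)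
    have h5 := hA.2
    rw [hcard] at h5
    have h6 : Nat.card ↥(V ⊓ Cz A₁) < p * Nat.card ↥(V ⊓ Cz A) := by
      apply Nat.lt_of_mul_lt_mul_left (a := Nat.card A₁)
      calc Nat.card A₁ * Nat.card ↥(V ⊓ Cz A₁) < Nat.card ↥(A₁ ⊓ Cz V) * Nat.card V := h3
        _ ≤ Nat.card ↥(A ⊓ Cz V) * Nat.card V := Nat.mul_le_mul_right _ h4
        _ ≤ p * Nat.card A₁ * Nat.card ↥(V ⊓ Cz A) := h5
        _ = _ := by ring
    have hle : V ⊓ Cz A ≤ V ⊓ Cz A₁ := inf_le_inf_left _ (Cz_anti hA₁)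
    have e1 := Cfsg.Agent.Lib.Helper6.Card.card_mul_relIndex hle
    have hpos2 : 0 < Nat.card ↥(V ⊓ Cz A) := Nat.card_pos
    have e2 : (V ⊓ Cz A).relIndex (V ⊓ Cz A₁) < p := by
      apply Nat.lt_of_mul_lt_mul_left (a := Nat.card ↥(V ⊓ Cz A))
      rw [e1, mul_comm]; exact h6
    obtain ⟨b, hb⟩ := IsPGroup.iff_card.mp (hVp.to_le (inf_le_left : V ⊓ Cz A₁ ≤ V))
    have e3 : (V ⊓ Cz A).relIndex (V ⊓ Cz A₁) ∣ p ^ b := by rw [← hb, ← e1]; exact dvd_mul_left _ _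
    obtain ⟨c, -, hc⟩ := (Nat.dvd_prime_pow hp.out).mp e3
    have e4 : (V ⊓ Cz A).relIndex (V ⊓ Cz A₁) = 1 := by
      rcases c with _ | c
      · simpa using hc
      · exfalso
        rw [hc, pow_succ] at e2
        have : 0 < p ^ c := Nat.pow_pos hp.out.pos
        nlinarith
    exact (Subgroup.relIndex_eq_one.mp e4).trans inf_le_right

end Cfsg.Agent.Lib.Helper6.WC3
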