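import Mathlib
import Cfsg.Agent.Lib.Helper6.WC3a
import Cfsg.Agent.Lib.Helper6.WC1

set_option autoImplicit false
set_option maxHeartbeats 400000
set_option linter.unusedSectionVars false

/-! Quadratic action of "transvections", the norm formula, and the orbit product inside a group. -/

namespace Cfsg.Agent.Lib.Helper6.WC3

open Cfsg.Agent.Lib.Helper6.Basic Cfsg.Agent.Lib.Helper6.Subn Cfsg.Agent.Lib.Helper6.Quasi
  Cfsg.Agent.Lib.Helper6.Rad Cfsg.Agent.Lib.Helper6.Off Cfsg.Agent.Lib.Helper6.PAct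
open Cfsg.Agent.Lib.Helper3.PLocal Cfsg.Agent.Lib.Helper1
open scoped commutatorElement Pointwise

universe u
variable {X : Type u} [Group X]

theorem quad_of_index [Finite X] {p : ℕ} [hp : Fact p.Prime] {V : Subgroup X} [hV : V.Normal]
    (hVc : ∀ a ∈ V, ∀ b ∈ V, a * b = b * a) (hVp : IsPGroup p V) {a : X}
    (hap : IsPGroup p ↥(Subgroup.zpowers a))
    (hidx : Nat.card V ≤ p * Nat.card ↥(V ⊓ Subgroup.centralizer {a})) :
    ∀ v ∈ V, (a * v * a⁻¹ * v⁻¹) ^ p = 1 ∧ a * (a * v * a⁻¹ * v⁻¹) * a⁻¹ = a * v * a⁻¹ * v⁻¹ := by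
  classical
  have hδm : ∀ w ∈ V, a * w * a⁻¹ * w⁻¹ ∈ V := fun w hw =>
    V.mul_mem (hV.conj_mem w hw a) (V.inv_mem hw)
  let δ : ↥V →* ↥V := MonoidHom.mk' (fun w => ⟨a * w.1 * a⁻¹ * w.1⁻¹, hδm w.1 w.2⟩) (by
    intro x y
    apply Subtype.ext
    show a * (x.1 * y.1) * a⁻¹ * (x.1 * y.1)⁻¹ = (a * x.1 * a⁻¹ * x.1⁻¹) * (a * y.1 * a⁻¹ * y.1⁻¹)
    have h1 := hVc _ (V.inv_mem x.2) _ (hδm y.1 y.2)
    calc a * (x.1 * y.1) * a⁻¹ * (x.1 * y.1)⁻¹
        = a * x.1 * a⁻¹ * ((a * y.1 * a⁻¹ * y.1⁻¹) * x.1⁻¹) := by group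
      _ = a * x.1 * a⁻¹ * (x.1⁻¹ * (a * y.1 * a⁻¹ * y.1⁻¹)) := by rw [h1]
      _ = _ := by group)
  have hδ : ∀ w : ↥V, ((δ w : ↥V) : X) = a * w.1 * a⁻¹ * w.1⁻¹ := fun w => rfl
  set U := δ.range.map V.subtype with hU
  have memU : ∀ u, u ∈ U ↔ ∃ w ∈ V, a * w * a⁻¹ * w⁻¹ = u := by
    intro u
    constructor
    · rintro ⟨z, ⟨w, rfl⟩, rfl⟩
      exact ⟨w.1, w.2, rfl⟩
    · rintro ⟨w, hw, rfl⟩
      exact ⟨δ ⟨w, hw⟩, ⟨⟨w, hw⟩, rfl⟩, rfl⟩
  have hUV : U ≤ V := by
    intro u hu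
    obtain ⟨w, hw, rfl⟩ := (memU u).mp hu
    exact hδm w hw
  set K := V ⊓ Subgroup.centralizer {a} with hK
  have hker : δ.ker = K.subgroupOf V := by
    ext w
    rw [MonoidHom.mem_ker, Subgroup.mem_subgroupOf, hK, Subgroup.mem_inf,
      Subgroup.mem_centralizer_singleton_iff]
    constructor
    · intro h
      have h1 : a * w.1 * a⁻¹ * w.1⁻¹ = 1 := by rw [← hδ, h]; rfl
      refine ⟨w.2, ?_⟩
      have h2 := congrArg (fun z => z * w.1 * a) h1
      simpa [mul_assoc] using h2.symm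
    · rintro ⟨-, h⟩
      apply Subtype.ext
      rw [hδ]
      show a * w.1 * a⁻¹ * w.1⁻¹ = 1
      rw [← h]; group
  have hcard : Nat.card U * Nat.card K = Nat.card V := by
    have h1 : Nat.card U = Nat.card δ.range :=
      Subgroup.card_map_of_injective V.subtype_injective
    have h2 : Nat.card K = Nat.card δ.ker := by
      rw [hker]
      exact (Nat.card_congr (Subgroup.subgroupOfEquivOfLe (inf_le_left : K ≤ V)).toEquiv).symm
    rw [h1, h2, ← Subgroup.index_ker, mul_comm]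
    exact Subgroup.card_mul_index _
  have hUle : Nat.card U ≤ p := by
    have h7 : 0 < Nat.card K := Nat.card_pos
    have : Nat.card U * Nat.card K ≤ p * Nat.card K := by rw [hcard]; exact hidx
    exact Nat.le_of_mul_le_mul_right this h7
  have hUp : IsPGroup p ↥U := hVp.to_le hUV
  have hUdvd : Nat.card U ∣ p := by
    obtain ⟨c, hc⟩ := IsPGroup.iff_card.mp hUp
    rw [hc] at hUle ⊢
    rcases c with _ | _ | c
    · simp
    · simp
    · exfalso
      have h1 : 2 ≤ p := hp.out.two_le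
      have h2 : 0 < p ^ c := Nat.pow_pos hp.out.pos
      rw [pow_succ, pow_succ] at hUle
      have h3 : p * p ≤ p ^ c * p * p := by
        calc p * p = 1 * p * p := by ring
          _ ≤ p ^ c * p * p := by gcongr; exact h2
      have h4 : p * 2 ≤ p * p := Nat.mul_le_mul_left _ h1
      omega
  have haU : a ∈ Nz U := by
    apply mem_Nz_of_conj_mem
    intro u hu
    obtain ⟨w, hw, rfl⟩ := (memU u).mp hu
    exact (memU _).mpr ⟨a * w * a⁻¹, hV.conj_mem w hw a, by group⟩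
  have hZU : Subgroup.zpowers a ≤ Nz U := Subgroup.zpowers_le.mpr haU
  have hcomm : ∀ w ∈ U, a * w * a⁻¹ = w := by
    intro w hw
    by_cases hle : U ≤ ⁅U, Subgroup.zpowers a⁆
    · have hbot := eq_bot_of_le_comm_pgroup hUp hap hZU hle
      rw [hbot, Subgroup.mem_bot] at hw
      rw [hw]; group
    · have hD : ⁅U, Subgroup.zpowers a⁆ ≤ U := by
        rw [Subgroup.commutator_le]
        intro x hx y hy
        rw [commutatorElement_def]
        have := U.mul_mem hx (conj_mem_of_mem_Nz (hZU hy) (U.inv_mem hx))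
        simpa [mul_assoc] using this
      have h1 : Nat.card ↥⁅U, Subgroup.zpowers a⁆ ∣ p := (Subgroup.card_dvd_of_le hD).trans hUdvd
      rcases (Nat.dvd_prime hp.out).mp h1 with h2 | h2
      · have h3 : ⁅U, Subgroup.zpowers a⁆ = ⊥ := Subgroup.card_eq_one.mp h2
        have h4 : ⁅w, a⁆ ∈ ⁅U, Subgroup.zpowers a⁆ :=
          Subgroup.commutator_mem_commutator hw (Subgroup.mem_zpowers a)
        rw [h3, Subgroup.mem_bot, commutatorElement_def] at h4
        have h5 : w * a = a * w := by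
          have := congrArg (fun z => z * a * w) h4
          simpa [mul_assoc] using this
        rw [← h5]; group
      · exfalso
        apply hle
        exact (Subgroup.eq_of_le_of_card_ge hD (by rw [h2]; exact hUle)).ge
  intro v hv
  have hw : a * v * a⁻¹ * v⁻¹ ∈ U := (memU _).mpr ⟨v, hv, rfl⟩
  refine ⟨?_, hcomm _ hw⟩
  obtain ⟨d, hd⟩ := hUdvd
  have h1 : (⟨a * v * a⁻¹ * v⁻¹, hw⟩ : ↥U) ^ Nat.card U = 1 := pow_card_eq_one'
  have h2 : (a * v * a⁻¹ * v⁻¹) ^ Nat.card U = 1 := congrArg Subtype.val h1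
  rw [hd, pow_mul, h2, one_pow]

section norm
open scoped IsMulCommutative

variable {V : Subgroup X} [hV : V.Normal] [hVab : IsMulCommutative ↥V]

theorem conj_pow_eq (a : X) (u w : ↥V) (h1 : MulAut.conjNormal a u = u * w)
    (h2 : MulAut.conjNormal a w = w) (i : ℕ) : MulAut.conjNormal (a ^ i) u = u * w ^ i := by
  induction i with
  | zero => simp
  | succ i ih =>
    rw [pow_succ', map_mul, MulAut.mul_apply, ih, map_mul, map_pow, h1, h2, pow_succ']
    group

theorem norm_formula (p : ℕ) (a : X) (u w : ↥V) (h1 : MulAut.conjNormal a u = u * w)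
    (h2 : MulAut.conjNormal a w = w) :
    ∏ i ∈ Finset.range p, MulAut.conjNormal (a ^ i) u = u ^ p * w ^ (p * (p - 1) / 2) := by
  have : ∀ i ∈ Finset.range p, MulAut.conjNormal (a ^ i) u = u * w ^ i :=
    fun i _ => conj_pow_eq a u w h1 h2 i
  rw [Finset.prod_congr rfl this, Finset.prod_mul_distrib, Finset.prod_const, Finset.card_range,
    Finset.prod_pow_eq_pow_sum, Finset.sum_range_id]

end norm

end Cfsg.Agent.Lib.Helper6.WC3
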