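import Mathlib
import Cfsg.Agent.Lib.Helper6.WC3b

set_option autoImplicit false
set_option maxHeartbeats 400000
set_option linter.unusedSectionVars false

/-! The product over a conjugacy class inside a normal abelian subgroup. -/

namespace Cfsg.Agent.Lib.Helper6.WC3

open Cfsg.Agent.Lib.Helper6.Basic Cfsg.Agent.Lib.Helper6.Subn Cfsg.Agent.Lib.Helper6.Quasi
  Cfsg.Agent.Lib.Helper6.Rad Cfsg.Agent.Lib.Helper6.Off Cfsg.Agent.Lib.Helper6.PAct
open Cfsg.Agent.Lib.Helper3.PLocal Cfsg.Agent.Lib.Helper1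
open scoped commutatorElement Pointwise IsMulCommutative

universe u
variable {X : Type u} [Group X]
variable {V : Subgroup X} [hV : V.Normal] [hVab : IsMulCommutative ↥V]

theorem prod_fixed_sub [Finite X] {p : ℕ} [hp : Fact p.Prime] (J' : Subgroup X) (hJ : IsPGroup p ↥J')
    {M' : Type*} [CommGroup M'] (θ : ↥V →* M')
    (H : ∀ J₁ : Subgroup X, J₁ ≤ J' → J' ≤ Nz J₁ → Nat.card J' = p * Nat.card J₁ →
      ∀ u : ↥V, (∀ k ∈ J₁, MulAut.conjNormal k u = u) →
      ∃ a ∈ J', a ∉ J₁ ∧ θ (∏ i ∈ Finset.range p, MulAut.conjNormal (a ^ i) u) = 1)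
    (Y : Finset ↥V) (hY : ∀ j ∈ J', ∀ v ∈ Y, MulAut.conjNormal j v ∈ Y) (c : M')
    (hfix : ∀ v ∈ Y, (∀ j ∈ J', MulAut.conjNormal j v = v) → θ v = c) :
    ∃ k : ℕ, k ≡ Y.card [MOD p] ∧ θ (∏ v ∈ Y, v) = c ^ k := by
  classical
  letI : Fintype ↥J' := Fintype.ofFinite _
  letI act : MulDistribMulAction ↥J' ↥V :=
    MulDistribMulAction.compHom ↥V ((MulAut.conjNormal (H := V)).comp J'.subtype)
  have hsm : ∀ (j : ↥J') (v : ↥V), j • v = MulAut.conjNormal (j : X) v := fun j v => rfl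
  have H' : ∀ J₁ : Subgroup ↥J', J₁.Normal → J₁.index = p → ∀ u : ↥V, (∀ k ∈ J₁, k • u = u) →
       ∃ a : ↥J', a ∉ J₁ ∧ θ (∏ i ∈ Finset.range p, a ^ i • u) = 1 := by
    intro J₁ hn hidx u hu
    obtain ⟨a, haJ, ha1, ha2⟩ := H (J₁.map J'.subtype) (Subgroup.map_subtype_le J₁)
      (by
        intro j hj
        apply mem_Nz_of_conj_mem
        rintro _ ⟨k, hk, rfl⟩
        exact ⟨⟨j, hj⟩ * k * ⟨j, hj⟩⁻¹, hn.conj_mem k hk _, rfl⟩)
      (by
        rw [Subgroup.card_map_of_injective J'.subtype_injective, ← hidx, mul_comm]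
        exact (Subgroup.card_mul_index J₁).symm)
      u
      (by
        rintro _ ⟨k, hk, rfl⟩
        exact hu k hk)
    refine ⟨⟨a, haJ⟩, fun h => ha1 ⟨⟨a, haJ⟩, h, rfl⟩, ?_⟩
    exact ha2
  obtain ⟨h1, h2⟩ := WC1.prod_fixed hJ θ H' _ Y rfl (fun j v hv => hY j j.2 v hv)
  refine ⟨_, h2.symm, ?_⟩
  rw [h1, map_prod]
  rw [Finset.prod_congr rfl (g := fun _ => c), Finset.prod_const]
  intro v hv
  obtain ⟨hvY, hvf⟩ := Finset.mem_filter.mp hv
  exact hfix v hvY (fun j hj => hvf ⟨j, hj⟩)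

theorem class_prod [Finite X] {p : ℕ} [hp : Fact p.Prime] (S : Sylow p X) (z : ↥V)
    (hzS : ∀ s ∈ (S : Subgroup X), MulAut.conjNormal s z = z)
    (J' : Subgroup X) (hJ : IsPGroup p ↥J')
    {M' : Type*} [CommGroup M'] (θ : ↥V →* M')
    (H : ∀ J₁ : Subgroup X, J₁ ≤ J' → J' ≤ Nz J₁ → Nat.card J' = p * Nat.card J₁ →
      ∀ u : ↥V, (∀ k ∈ J₁, MulAut.conjNormal k u = u) →
      ∃ a ∈ J', a ∉ J₁ ∧ θ (∏ i ∈ Finset.range p, MulAut.conjNormal (a ^ i) u) = 1)
    (c : M')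
    (hfix : ∀ g : X, (∀ j ∈ J', MulAut.conjNormal j (MulAut.conjNormal g z) = MulAut.conjNormal g z) →
      θ (MulAut.conjNormal g z) = c) :
    ∃ P : ↥V, (∀ g : X, MulAut.conjNormal g P = P) ∧ ∃ k : ℕ, ¬ p ∣ k ∧ θ P = c ^ k := by
  classical
  letI : Fintype X := Fintype.ofFinite _
  set Y : Finset ↥V := Finset.univ.image (fun g : X => MulAut.conjNormal g z) with hYdef
  have memY : ∀ v, v ∈ Y ↔ ∃ g : X, MulAut.conjNormal g z = v := by
    intro v; simp [hYdef]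
  have hYinv : ∀ g : X, ∀ v ∈ Y, MulAut.conjNormal g v ∈ Y := by
    intro g v hv
    obtain ⟨g', rfl⟩ := (memY v).mp hv
    exact (memY _).mpr ⟨g * g', by rw [map_mul, MulAut.mul_apply]⟩
  obtain ⟨k, hk, hθ⟩ := prod_fixed_sub J' hJ θ H Y (fun j _ v hv => hYinv j v hv) c (by
    intro v hv hvf
    obtain ⟨g, rfl⟩ := (memY v).mp hv
    exact hfix g hvf)
  refine ⟨∏ v ∈ Y, v, ?_, k, ?_, hθ⟩
  · intro g
    rw [map_prod]
    have h1 : ∏ v ∈ Y, MulAut.conjNormal g v = ∏ v ∈ Y.image (fun v => MulAut.conjNormal g v), v :=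
      (Finset.prod_image (s := Y) (g := fun v => MulAut.conjNormal g v) (f := fun v => v)
        (fun x _ y _ hxy => (MulAut.conjNormal g).injective hxy)).symm
    rw [h1]
    congr 1
    ext v
    rw [Finset.mem_image]
    constructor
    · rintro ⟨v', hv', rfl⟩
      exact hYinv g v' hv'
    · intro hv
      refine ⟨MulAut.conjNormal g⁻¹ v, hYinv _ v hv, ?_⟩
      rw [← MulAut.mul_apply, ← map_mul, mul_inv_cancel, map_one, MulAut.one_apply]
  · letI act : MulAction X ↥V := MulAction.compHom ↥V (MulAut.conjNormal (H := V))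
    have hsm : ∀ (g : X) (v : ↥V), g • v = MulAut.conjNormal g v := fun g v => rfl
    have h1 := MulAction.index_stabilizer X z
    have h2 : (MulAction.orbit X z).ncard = Y.card := by
      rw [← Set.ncard_coe_finset]
      congr 1
      ext v
      rw [Finset.mem_coe, memY]
      rfl
    have h3 : (S : Subgroup X) ≤ MulAction.stabilizer X z := fun s hs => hzS s hs
    have h4 : Y.card ∣ (S : Subgroup X).index := by
      rw [← h2, ← h1]; exact Subgroup.index_dvd_of_le h3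
    intro hpk
    have h5 : p ∣ Y.card := (Nat.modEq_zero_iff_dvd).mp (hk.symm.trans ((Nat.modEq_zero_iff_dvd).mpr hpk))
    exact S.not_dvd_index (h5.trans h4)

end Cfsg.Agent.Lib.Helper6.WC3
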