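import Mathlib
import Cfsg.Agent.Lib.Helper6.WC3c

set_option autoImplicit false
set_option maxHeartbeats 400000
set_option linter.unusedSectionVars false

/-! Helper lemmas for the local theorem. -/

namespace Cfsg.Agent.Lib.Helper6.WC3

open Cfsg.Agent.Lib.Helper6.Basic Cfsg.Agent.Lib.Helper6.Subn Cfsg.Agent.Lib.Helper6.Quasi
  Cfsg.Agent.Lib.Helper6.Rad Cfsg.Agent.Lib.Helper6.Off Cfsg.Agent.Lib.Helper6.PAct
open Cfsg.Agent.Lib.Helper3.PLocal Cfsg.Agent.Lib.Helper1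
open scoped commutatorElement Pointwise IsMulCommutative

universe u
variable {X : Type u} [Group X]

theorem mem_Nz_sSup [Finite X] {𝒜 : Set (Subgroup X)} {g : X} (h : ∀ A ∈ 𝒜, cj g A ∈ 𝒜) :
    g ∈ Nz (sSup 𝒜) := by
  rw [← cj_eq_self_iff]
  apply Subgroup.eq_of_le_of_card_ge _ (by rw [card_cj])
  rw [cj_le_iff]
  apply sSup_le
  intro A hA
  rw [← cj_le_iff]
  exact le_sSup (h A hA)

theorem le_of_index_p [Finite X] {p : ℕ} [hp : Fact p.Prime] {A₁ B A : Subgroup X} (h1 : A₁ ≤ B)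
    (h2 : B ≤ A) (hcard : Nat.card A = p * Nat.card A₁) (hne : ¬ B ≤ A₁) : A ≤ B := by
  have hpos : 0 < Nat.card A₁ := Nat.card_pos
  have e1 := Cfsg.Agent.Lib.Helper6.Card.card_mul_relIndex h1
  have e2 := Cfsg.Agent.Lib.Helper6.Card.card_mul_relIndex h2
  have e3 : A₁.relIndex B * B.relIndex A = p := by
    apply Nat.eq_of_mul_eq_mul_left hpos
    rw [← mul_assoc, e1, e2, hcard, mul_comm]
  have e4 : A₁.relIndex B ∣ p := ⟨_, e3.symm⟩
  rcases (Nat.dvd_prime hp.out).mp e4 with e5 | e5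
  · exact absurd (Subgroup.relIndex_eq_one.mp e5) hne
  · rw [e5] at e3
    have e6 : B.relIndex A = 1 := by
      have := hp.out.pos
      exact Nat.eq_of_mul_eq_mul_left this (by rw [e3, mul_one])
    exact Subgroup.relIndex_eq_one.mp e6

theorem card_cj_inf_Cz {V : Subgroup X} [hV : V.Normal] (g : X) (A : Subgroup X) :
    Nat.card ↥(cj g A ⊓ Cz V) = Nat.card ↥(A ⊓ Cz V) := by
  have hCn : (Cz V).Normal := Subgroup.normal_centralizer
  have : cj g (A ⊓ Cz V) = cj g A ⊓ Cz V := by rw [cj_inf, cj_normal (H := Cz V) g]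
  rw [← this, card_cj]

theorem isOff_cj {V : Subgroup X} [hV : V.Normal] {A : Subgroup X} (h : IsOff V A) (g : X) :
    IsOff V (cj g A) := by
  have hCn : (Cz V).Normal := Subgroup.normal_centralizer
  refine ⟨fun hle => h.1 ?_, ?_⟩
  · rw [cj_le_iff, cj_normal] at hle
    exact hle
  · have h2 : cj g (V ⊓ Cz A) = V ⊓ Cz (cj g A) := by rw [cj_inf, cj_normal (H := V) g, cj_centralizer]
    rw [card_cj_inf_Cz, card_cj, ← h2, card_cj]
    exact h.2

section endgame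
variable {V : Subgroup X} [hV : V.Normal] [hVab : IsMulCommutative ↥V]

/-- the fixed points -/
def Fx (V : Subgroup X) [hV : V.Normal] : Subgroup ↥V where
  carrier := {v | ∀ g : X, MulAut.conjNormal g v = v}
  one_mem' := fun g => map_one _
  mul_mem' := fun {a b} ha hb g => by rw [map_mul, ha g, hb g]
  inv_mem' := fun {a} ha g => by rw [map_inv, ha g]

theorem endgame [Finite X] {p : ℕ} [hp : Fact p.Prime] (hVp : IsPGroup p ↥V) (z : ↥V)
    (hgen : V = Subgroup.normalClosure {(z : X)}) {e k : ℕ} (hk : ¬ p ∣ k) (P t : ↥V)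
    (hP : ∀ g : X, MulAut.conjNormal g P = P) (h : (z ^ e) ^ k = P ^ e * t ^ (p * e)) :
    ∀ g : X, MulAut.conjNormal g (z ^ e) = z ^ e := by
  set R : Subgroup ↥V := Fx V ⊔ (powMonoidHom (p * e) : ↥V →* ↥V).range with hR
  set Q1 : Subgroup ↥V := R.comap (powMonoidHom e : ↥V →* ↥V) with hQ1
  have memR : ∀ v : ↥V, v ∈ R ↔ ∃ f ∈ Fx V, ∃ s : ↥V, f * s ^ (p * e) = v := by
    intro v
    rw [hR, Subgroup.mem_sup]
    constructor
    · rintro ⟨f, hf, _, ⟨s, rfl⟩, rfl⟩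
      exact ⟨f, hf, s, rfl⟩
    · rintro ⟨f, hf, s, rfl⟩
      exact ⟨f, hf, _, ⟨s, rfl⟩, rfl⟩
  have hzQ : z ∈ Q1 := by
    show z ^ e ∈ R
    have hcop : Nat.Coprime k (orderOf (z ^ e)) := by
      obtain ⟨c, hc⟩ := (IsPGroup.iff_orderOf.mp hVp) (z ^ e)
      rw [hc]
      exact Nat.Coprime.pow_right _ ((Nat.Prime.coprime_iff_not_dvd hp.out).mpr hk).symm
    obtain ⟨m, hm⟩ := exists_pow_eq_self_of_coprime hcop
    rw [h] at hm
    rw [memR]
    refine ⟨(P ^ e) ^ m, (Fx V).pow_mem ((Fx V).pow_mem hP e) m, t ^ m, ?_⟩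
    rw [← hm, mul_pow, ← pow_mul, ← pow_mul, ← pow_mul, mul_comm m (p * e)]
  have hQinv : ∀ (g : X) (v : ↥V), v ∈ Q1 → MulAut.conjNormal g v ∈ Q1 := by
    intro g v hv
    obtain ⟨f, hf, s, hs⟩ := (memR _).mp (show v ^ e ∈ R from hv)
    show (MulAut.conjNormal g v) ^ e ∈ R
    rw [memR]
    refine ⟨f, hf, MulAut.conjNormal g s, ?_⟩
    rw [← map_pow, ← map_pow, ← hs, map_mul, hf g]
  have hQtop : ∀ v : ↥V, v ∈ Q1 := by
    have hn : (Q1.map V.subtype).Normal := by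
      constructor
      rintro _ ⟨v, hv, rfl⟩ g
      exact ⟨MulAut.conjNormal g v, hQinv g v hv, rfl⟩
    have h1 : Subgroup.normalClosure {(z : X)} ≤ Q1.map V.subtype := by
      apply Subgroup.normalClosure_le_normal
      rw [Set.singleton_subset_iff]
      exact ⟨z, hzQ, rfl⟩
    intro v
    have h2 : (v : X) ∈ Q1.map V.subtype := h1 (hgen ▸ v.2)
    obtain ⟨v', hv', hvv⟩ := h2
    have : v' = v := Subtype.ext hvv
    rwa [← this]
  have hiter : ∀ (j : ℕ) (v : ↥V), ∃ f ∈ Fx V, ∃ s : ↥V, v ^ e = f * (s ^ e) ^ (p ^ j) := by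
    intro j
    induction j with
    | zero =>
      intro v
      exact ⟨1, (Fx V).one_mem, v, by simp⟩
    | succ j ih =>
      intro v
      obtain ⟨f, hf, s, hs⟩ := ih v
      obtain ⟨f', hf', s', hs'⟩ := (memR _).mp (show s ^ e ∈ R from hQtop s)
      refine ⟨f * f' ^ (p ^ j), (Fx V).mul_mem hf ((Fx V).pow_mem hf' _), s', ?_⟩
      rw [hs, ← hs', mul_pow, mul_assoc]
      congr 2
      rw [← pow_mul, ← pow_mul, pow_succ]
      congr 1
      ring
  obtain ⟨b, hb⟩ := IsPGroup.iff_card.mp hVp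
  obtain ⟨f, hf, s, hs⟩ := hiter b z
  have h1 : (s ^ e) ^ (p ^ b) = 1 := by rw [← hb]; exact pow_card_eq_one'
  rw [h1, mul_one] at hs
  rw [hs]
  exact hf

end endgame

end Cfsg.Agent.Lib.Helper6.WC3
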