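import Mathlib
import Cfsg.Agent.Lib.Helper6.WC3d

set_option autoImplicit false
set_option maxHeartbeats 400000
set_option linter.unusedSectionVars false

/-! The norm condition for the subgroup generated by the minimal offenders. -/

namespace Cfsg.Agent.Lib.Helper6.WC3

open Cfsg.Agent.Lib.Helper6.Basic Cfsg.Agent.Lib.Helper6.Subn Cfsg.Agent.Lib.Helper6.Quasi
  Cfsg.Agent.Lib.Helper6.Rad Cfsg.Agent.Lib.Helper6.Off Cfsg.Agent.Lib.Helper6.PAct
open Cfsg.Agent.Lib.Helper3.PLocal Cfsg.Agent.Lib.Helper1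
open scoped commutatorElement Pointwise IsMulCommutative

universe u
variable {X : Type u} [Group X]

theorem norm_cond [Finite X] {p : ℕ} [hp : Fact p.Prime] {V : Subgroup X} [hV : V.Normal]
    [hVab : IsMulCommutative ↥V] (hVp : IsPGroup p ↥V) {S₀ : Subgroup X} (hS₀ : IsPGroup p ↥S₀)
    (𝒜 : Set (Subgroup X))
    (h𝒜 : ∀ A ∈ 𝒜, A ≤ S₀ ∧ IsOff V A ∧ ∀ B : Subgroup X, B ≤ S₀ → IsOff V B →
      Nat.card A * Nat.card ↥(B ⊓ Cz V) ≤ Nat.card B * Nat.card ↥(A ⊓ Cz V))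
    {e : ℕ}
    (flag : p ≠ 2 ∨ e = 2 ∨ ∀ a ∈ S₀, a ∉ Cz V → a * a ∈ Cz V →
      ¬ Nat.card V ≤ 2 * Nat.card ↥(V ⊓ Subgroup.centralizer {a}))
    (J₁ : Subgroup X) (hJ₁ : J₁ ≤ sSup 𝒜) (hN : sSup 𝒜 ≤ Nz J₁)
    (hcard : Nat.card ↥(sSup 𝒜) = p * Nat.card J₁)
    (u : ↥V) (hu : ∀ k ∈ J₁, MulAut.conjNormal k u = u) :
    ∃ a ∈ sSup 𝒜, a ∉ J₁ ∧
      ∃ s : ↥V, (∏ i ∈ Finset.range p, MulAut.conjNormal (a ^ i) u) ^ e = s ^ (p * e) := by
  have hVc : ∀ a ∈ V, ∀ b ∈ V, a * b = b * a := fun a ha b hb =>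
    congrArg Subtype.val (mul_comm (⟨a, ha⟩ : ↥V) ⟨b, hb⟩)
  have hposJ : 0 < Nat.card J₁ := Nat.card_pos
  obtain ⟨B, hB, hBJ₁⟩ : ∃ B ∈ 𝒜, ¬ B ≤ J₁ := by
    by_contra hcon
    push Not at hcon
    have h1 : sSup 𝒜 ≤ J₁ := sSup_le hcon
    have h2 := Subgroup.card_le_of_le h1
    rw [hcard] at h2
    have h3 : 2 ≤ p := hp.out.two_le
    nlinarith
  obtain ⟨a, haB, haJ₁⟩ := SetLike.not_le_iff_exists.mp hBJ₁
  obtain ⟨hBS, hOff, hmin⟩ := h𝒜 B hB
  have hBJ : B ≤ sSup 𝒜 := le_sSup hB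
  refine ⟨a, hBJ haB, haJ₁, ?_⟩
  have hsup : sSup 𝒜 ≤ J₁ ⊔ B :=
    le_of_index_p le_sup_left (sup_le hJ₁ hBJ) hcard (fun h => hBJ₁ (le_sup_right.trans h))
  have hsupeq : J₁ ⊔ B = sSup 𝒜 := le_antisymm (sup_le hJ₁ hBJ) hsup
  have c1 := card_sup_mul (M := J₁) (N := B) (hBJ.trans hN)
  rw [hsupeq, hcard] at c1
  have hcardB : Nat.card B = p * Nat.card ↥(B ⊓ J₁) := by
    rw [inf_comm]
    apply Nat.eq_of_mul_eq_mul_left hposJ
    rw [← c1]; ring
  have huB₁ : (u : X) ∈ V ⊓ Cz (B ⊓ J₁) := by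
    refine Subgroup.mem_inf.mpr ⟨u.2, ?_⟩
    rw [Subgroup.mem_centralizer_iff]
    intro k hk
    have h1 := congrArg Subtype.val (hu k (Subgroup.mem_inf.mp hk).2)
    rw [MulAut.conjNormal_apply] at h1
    have := congrArg (fun z => z * k) h1
    simpa [mul_assoc] using this
  rcases min_off hVp hOff (fun B' hB'B hB'off => hmin B' (hB'B.trans hBS) hB'off) inf_le_left hcardB
    with hα | hβ
  · have h1 : (u : X) ∈ Cz B := hα huB₁
    have h2 : a * u = u * a := (Subgroup.mem_centralizer_iff.mp h1) a haB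
    have h3 : MulAut.conjNormal a u = u * 1 := by
      apply Subtype.ext
      rw [MulAut.conjNormal_apply, mul_one, h2]; group
    rw [norm_formula p a u 1 h3 (map_one _), one_pow, mul_one]
    exact ⟨u, (pow_mul u p e).symm⟩
  · have hposB : 0 < Nat.card ↥(B ⊓ J₁) := Nat.card_pos
    have hidx : Nat.card V ≤ p * Nat.card ↥(V ⊓ Subgroup.centralizer {a}) := by
      have h1 : Nat.card ↥(B ⊓ J₁) ≤ Nat.card ↥(B ⊓ Cz V) :=
        Subgroup.card_le_of_le (le_inf inf_le_left hβ)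
      have h2 := hOff.2
      rw [hcardB] at h2
      have h3 : Nat.card V ≤ p * Nat.card ↥(V ⊓ Cz B) := by
        apply Nat.le_of_mul_le_mul_left _ hposB
        calc Nat.card ↥(B ⊓ J₁) * Nat.card V ≤ Nat.card ↥(B ⊓ Cz V) * Nat.card V :=
              Nat.mul_le_mul_right _ h1
          _ ≤ p * Nat.card ↥(B ⊓ J₁) * Nat.card ↥(V ⊓ Cz B) := h2
          _ = _ := by ring
      have h4 : V ⊓ Cz B ≤ V ⊓ Subgroup.centralizer {a} :=
        inf_le_inf_left _ (Subgroup.centralizer_le (Set.singleton_subset_iff.mpr haB))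
      exact h3.trans (Nat.mul_le_mul_left _ (Subgroup.card_le_of_le h4))
    have hap : IsPGroup p ↥(Subgroup.zpowers a) := hS₀.to_le (Subgroup.zpowers_le.mpr (hBS haB))
    obtain ⟨hwp, hwa⟩ := quad_of_index hVc hVp hap hidx u u.2
    have hwV : a * u * a⁻¹ * (u : X)⁻¹ ∈ V := V.mul_mem (hV.conj_mem u u.2 a) (V.inv_mem u.2)
    set w : ↥V := ⟨a * u * a⁻¹ * (u : X)⁻¹, hwV⟩ with hw
    have h1 : MulAut.conjNormal a u = u * w := by
      rw [mul_comm]
      apply Subtype.ext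
      rw [MulAut.conjNormal_apply]
      show a * u * a⁻¹ = a * u * a⁻¹ * (u : X)⁻¹ * u
      group
    have h2 : MulAut.conjNormal a w = w := by
      apply Subtype.ext
      rw [MulAut.conjNormal_apply]
      exact hwa
    have hwp' : w ^ p = 1 := Subtype.ext hwp
    rw [norm_formula p a u w h1 h2]
    by_cases hp2 : p = 2
    · subst hp2
      have h3 : 2 * (2 - 1) / 2 = 1 := by norm_num
      rw [h3, pow_one]
      rcases flag with hf | hf | hf
      · exact absurd rfl hf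
      · subst hf
        refine ⟨u, ?_⟩
        rw [mul_pow, hwp', mul_one, ← pow_mul]
      · exfalso
        have haB₁ : a ∉ B ⊓ J₁ := fun h => haJ₁ (Subgroup.mem_inf.mp h).2
        have haC : a ∉ Cz V := by
          intro hc
          apply hOff.1
          have h4 : B ≤ (B ⊓ J₁) ⊔ Subgroup.zpowers a :=
            le_of_index_p le_sup_left (sup_le inf_le_left (Subgroup.zpowers_le.mpr haB)) hcardB
              (fun h => haB₁ (h ((le_sup_right : Subgroup.zpowers a ≤ _) (Subgroup.mem_zpowers a))))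
          exact h4.trans (sup_le hβ (Subgroup.zpowers_le.mpr hc))
        have ha2 : a * a ∈ Cz V := by
          apply hβ
          refine Subgroup.mem_inf.mpr ⟨B.mul_mem haB haB, ?_⟩
          have h5 : (J₁.subgroupOf (sSup 𝒜)).index = 2 := by
            show J₁.relIndex (sSup 𝒜) = 2
            have h6 := Cfsg.Agent.Lib.Helper6.Card.card_mul_relIndex hJ₁
            rw [hcard, mul_comm 2] at h6
            exact Nat.eq_of_mul_eq_mul_left hposJ h6
          have h7 := Subgroup.mul_self_mem_of_index_two h5 ⟨a, hBJ haB⟩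
          exact Subgroup.mem_subgroupOf.mp h7
        exact hf a (hBS haB) haC ha2 hidx
    · have hodd : Odd p := hp.out.odd_of_ne_two hp2
      obtain ⟨c, hc⟩ := hodd
      have h3 : p * (p - 1) / 2 = p * c := by
        have : p - 1 = 2 * c := by omega
        rw [this, ← mul_assoc, mul_comm p 2, mul_assoc, Nat.mul_div_cancel_left _ (by norm_num)]
      rw [h3, pow_mul, hwp', one_pow, mul_one]
      exact ⟨u, (pow_mul u p e).symm⟩

end Cfsg.Agent.Lib.Helper6.WC3
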