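import Mathlib
import Cfsg.Agent.Lib.Helper6.WC3e
import Cfsg.Agent.Lib.Helper6.WC2b

set_option autoImplicit false
set_option maxHeartbeats 400000
set_option linter.unusedSectionVars false

/-! The core of the local theorem. -/

namespace Cfsg.Agent.Lib.Helper6.WC3

open Cfsg.Agent.Lib.Helper6.Basic Cfsg.Agent.Lib.Helper6.Subn Cfsg.Agent.Lib.Helper6.Quasi
  Cfsg.Agent.Lib.Helper6.Rad Cfsg.Agent.Lib.Helper6.Off Cfsg.Agent.Lib.Helper6.PAct
open Cfsg.Agent.Lib.Helper3.PLocal Cfsg.Agent.Lib.Helper1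
open scoped commutatorElement Pointwise IsMulCommutative

universe u
variable {X : Type u} [Group X]

theorem mem_Cz_normalClosure {z n : X} (h : ∀ g : X, n * (g * z * g⁻¹) = (g * z * g⁻¹) * n) :
    n ∈ Cz (Subgroup.normalClosure {z}) := by
  have h1 : Subgroup.normalClosure {z} ≤ Subgroup.centralizer {n} := by
    unfold Subgroup.normalClosure
    rw [Subgroup.closure_le]
    intro y hy
    obtain ⟨a, ha, hay⟩ := Group.mem_conjugatesOfSet_iff.mp hy
    rw [Set.mem_singleton_iff] at ha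
    subst ha
    obtain ⟨c, rfl⟩ := isConj_iff.mp hay
    rw [SetLike.mem_coe, Subgroup.mem_centralizer_singleton_iff]
    exact (h c).symm
  rw [Subgroup.mem_centralizer_iff]
  intro v hv
  exact (Subgroup.mem_centralizer_singleton_iff.mp (h1 hv))

theorem no_transvection [Finite X] (S : Sylow 2 X) {V : Subgroup X} [hV : V.Normal]
    (hVc : ∀ a ∈ V, ∀ b ∈ V, a * b = b * a) {z : X} (hVgen : V = Subgroup.normalClosure {z})
    (hzS : z ∈ Cz (S : Subgroup X)) (hfree : ¬ Cfsg.Involves (Equiv.Perm (Fin 4)) X) :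
    ∀ a : X, a ∉ Cz V → a * a ∈ Cz V →
      ¬ Nat.card V ≤ 2 * Nat.card ↥(V ⊓ Subgroup.centralizer {a}) := by
  intro a haC ha2 hidx
  have : Fact (Nat.Prime 2) := ⟨Nat.prime_two⟩
  have hCn : (Cz V).Normal := Subgroup.normal_centralizer
  have hzV : z ∈ V := by rw [hVgen]; exact Subgroup.subset_normalClosure (Set.mem_singleton z)
  apply hfree
  apply WC2.transvection_involves V hVc haC ha2 hidx
  intro N hn hNp hmem
  apply haC
  have hsurj := QuotientGroup.mk'_surjective (Cz V)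
  have h1 : N ≤ S.mapSurjective hsurj := normal_pgroup_le_sylow _ hn hNp
  rw [hVgen]
  apply mem_Cz_normalClosure
  intro g
  have h2 : (QuotientGroup.mk (g⁻¹ * a * g) : X ⧸ Cz V) ∈ N := by
    have := hn.conj_mem _ hmem (QuotientGroup.mk g⁻¹ : X ⧸ Cz V)
    simpa using this
  have h3 := h1 h2
  rw [Sylow.coe_mapSurjective] at h3
  obtain ⟨s, hs, hsa⟩ := h3
  have h4 : s⁻¹ * (g⁻¹ * a * g) ∈ Cz V := QuotientGroup.eq.mp hsa
  have h5 : z * s = s * z := (Subgroup.mem_centralizer_iff.mp hzS s hs).symm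
  have h6 := (Subgroup.mem_centralizer_iff.mp h4) z hzV
  have h7 : (g⁻¹ * a * g) * z = z * (g⁻¹ * a * g) := by
    calc (g⁻¹ * a * g) * z = s * ((s⁻¹ * (g⁻¹ * a * g)) * z) := by group
      _ = s * (z * (s⁻¹ * (g⁻¹ * a * g))) := by rw [h6]
      _ = (s * z) * (s⁻¹ * (g⁻¹ * a * g)) := by group
      _ = (z * s) * (s⁻¹ * (g⁻¹ * a * g)) := by rw [h5]
      _ = _ := by group
  calc a * (g * z * g⁻¹) = g * ((g⁻¹ * a * g) * z) * g⁻¹ := by group
    _ = g * (z * (g⁻¹ * a * g)) * g⁻¹ := by rw [h7]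
    _ = _ := by group

end Cfsg.Agent.Lib.Helper6.WC3
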