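import Mathlib
import Cfsg.Agent.Lib.Helper6.WC3f

set_option autoImplicit false
set_option maxHeartbeats 400000
set_option linter.unusedSectionVars false

/-! The core of the local theorem. -/

namespace Cfsg.Agent.Lib.Helper6.WC3

open Cfsg.Agent.Lib.Helper6.Basic Cfsg.Agent.Lib.Helper6.Subn Cfsg.Agent.Lib.Helper6.Quasi
  Cfsg.Agent.Lib.Helper6.Rad Cfsg.Agent.Lib.Helper6.Off Cfsg.Agent.Lib.Helper6.PAct
open Cfsg.Agent.Lib.Helper3.PLocal Cfsg.Agent.Lib.Helper1
open scoped commutatorElement Pointwise IsMulCommutative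

universe u
variable {X : Type u} [Group X]

theorem core [Finite X] {p : ℕ} [hp : Fact p.Prime] (S : Sylow p X) (V : Subgroup X) [hV : V.Normal]
    (hVab : V ≤ Cz V) (hVS : V ≤ S) {z x : X} {e : ℕ} (hVgen : V = Subgroup.normalClosure {z})
    (hzS : z ∈ Cz (S : Subgroup X)) (hx : x = z ^ e)
    (hIH : ∀ H : Subgroup X, H ≠ ⊤ → (S : Subgroup X) ≤ H → ∀ g ∈ H, g * x = x * g)
    (hJ : ∀ n ∈ Nz (sSup (PMax Pab (S : Subgroup X))), n * x = x * n)
    (flag : (e = 1 ∧ (p ≠ 2 ∨ ¬ Cfsg.Involves (Equiv.Perm (Fin 4)) X)) ∨ e = p) :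
    ∀ g : X, g * x = x * g := by
  classical
  have hVab' : IsMulCommutative ↥V := Subgroup.le_centralizer_iff_isMulCommutative.mp hVab
  have hzV : z ∈ V := by rw [hVgen]; exact Subgroup.subset_normalClosure (Set.mem_singleton z)
  have hxV : x ∈ V := hx ▸ V.pow_mem hzV e
  have hSp : IsPGroup p ↥(S : Subgroup X) := S.isPGroup'
  have hVp : IsPGroup p ↥V := hSp.to_le hVS
  have hVc : ∀ a ∈ V, ∀ b ∈ V, a * b = b * a := fun a ha b hb =>
    (Subgroup.mem_centralizer_iff.mp (hVab hb)) a ha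
  have hCn : (Cz V).Normal := Subgroup.normal_centralizer
  have hCx : ∀ c ∈ Cz V, c * x = x * c := fun c hc =>
    ((Subgroup.mem_centralizer_iff.mp hc) x hxV).symm
  by_cases hJC : ∀ A ∈ PMax Pab (S : Subgroup X), A ≤ Cz V
  · intro g
    obtain ⟨c, hc, h, hh, rfl⟩ := frattini_elt S (Cz V) g
    have hhJ : h ∈ Nz (sSup (PMax Pab (S : Subgroup X))) := by
      apply mem_Nz_sSup
      intro A hA
      refine ⟨?_, ?_, ?_⟩
      · calc cj h A ≤ cj h ((S : Subgroup X) ⊓ Cz V) := cj_mono (le_inf hA.1 (hJC A hA))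
          _ = (S : Subgroup X) ⊓ Cz V := cj_eq_self_iff.mpr hh
          _ ≤ S := inf_le_left
      · have h1 : IsMulCommutative ↥A := hA.2.1
        have h2 : A ≤ Cz A := Subgroup.le_centralizer_iff_isMulCommutative.mpr h1
        have h3 : cj h A ≤ Cz (cj h A) := (cj_mono h2).trans (cj_centralizer h A).le
        exact Subgroup.le_centralizer_iff_isMulCommutative.mp h3
      · intro C hC hPC
        rw [card_cj]
        exact hA.2.2 C hC hPC
    rw [mul_assoc, hJ h hhJ, ← mul_assoc, hCx c hc, mul_assoc]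
  push Not at hJC
  obtain ⟨A₀, hA₀, hA₀C⟩ := hJC
  have hA₀off : IsOff V A₀ := ⟨hA₀C, off_of_PMax hV hVab hVS hA₀⟩
  -- minimal offenders
  obtain ⟨Am, ⟨hAmS, hAmoff⟩, hAmmin⟩ := Set.exists_min_image
    {B : Subgroup X | B ≤ (S : Subgroup X) ∧ IsOff V B} (fun B => (B ⊓ Cz V).relIndex B)
    (Set.toFinite _) ⟨A₀, hA₀.1, hA₀off⟩
  set 𝒜 : Set (Subgroup X) := {A | A ≤ (S : Subgroup X) ∧ IsOff V A ∧
    ∀ B : Subgroup X, B ≤ (S : Subgroup X) → IsOff V B →
      Nat.card A * Nat.card ↥(B ⊓ Cz V) ≤ Nat.card B * Nat.card ↥(A ⊓ Cz V)} with h𝒜def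
  have hAm : Am ∈ 𝒜 := by
    refine ⟨hAmS, hAmoff, fun B hBS hBoff => ?_⟩
    have h1 := hAmmin B ⟨hBS, hBoff⟩
    have e1 := Cfsg.Agent.Lib.Helper6.Card.card_mul_relIndex (inf_le_left : Am ⊓ Cz V ≤ Am)
    have e2 := Cfsg.Agent.Lib.Helper6.Card.card_mul_relIndex (inf_le_left : B ⊓ Cz V ≤ B)
    rw [← e1, ← e2]
    calc Nat.card ↥(Am ⊓ Cz V) * (Am ⊓ Cz V).relIndex Am * Nat.card ↥(B ⊓ Cz V)
        = (Nat.card ↥(Am ⊓ Cz V) * Nat.card ↥(B ⊓ Cz V)) * (Am ⊓ Cz V).relIndex Am := by ring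
      _ ≤ (Nat.card ↥(Am ⊓ Cz V) * Nat.card ↥(B ⊓ Cz V)) * (B ⊓ Cz V).relIndex B :=
          Nat.mul_le_mul_left _ h1
      _ = _ := by ring
  have h𝒜conj : ∀ (g : X), ∀ A ∈ 𝒜, cj g A ≤ (S : Subgroup X) → cj g A ∈ 𝒜 := by
    intro g A hA hle
    refine ⟨hle, isOff_cj hA.2.1 g, fun B hBS hBoff => ?_⟩
    rw [card_cj, card_cj_inf_Cz]
    exact hA.2.2 B hBS hBoff
  set J' := sSup 𝒜 with hJ'
  have hJ'S : J' ≤ (S : Subgroup X) := sSup_le (fun A hA => hA.1)
  have hJ'p : IsPGroup p ↥J' := hSp.to_le hJ'S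
  have hzJ : ∀ j ∈ J', j * z = z * j := fun j hj =>
    (Subgroup.mem_centralizer_iff.mp hzS) j (hJ'S hj)
  have hN'top : Nz J' ≠ ⊤ := by
    intro htop
    apply hAmoff.1
    refine (le_sSup hAm : Am ≤ J').trans ?_
    intro j hj
    rw [hVgen]
    apply mem_Cz_normalClosure
    intro g
    have h1 : g⁻¹ * j * g ∈ J' := by
      have h2 : g⁻¹ ∈ Nz J' := htop ▸ Subgroup.mem_top _
      have := conj_mem_of_mem_Nz h2 hj
      simpa using this
    have h3 := hzJ _ h1
    calc j * (g * z * g⁻¹) = g * ((g⁻¹ * j * g) * z) * g⁻¹ := by group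
      _ = g * (z * (g⁻¹ * j * g)) * g⁻¹ := by rw [h3]
      _ = _ := by group
  have hSN' : (S : Subgroup X) ≤ Nz J' := by
    intro s hs
    apply mem_Nz_sSup
    intro A hA
    apply h𝒜conj s A hA
    calc cj s A ≤ cj s (S : Subgroup X) := cj_mono hA.1
      _ = S := cj_eq_self_iff.mpr (Subgroup.le_normalizer hs)
  have hN'x := hIH (Nz J') hN'top hSN'
  -- fixed points
  have hF6 : ∀ g : X, (∀ j ∈ J', j * (g * z * g⁻¹) = (g * z * g⁻¹) * j) → g * x * g⁻¹ = x := by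
    intro g hg
    have hSM : (S : Subgroup X) ≤ Subgroup.centralizer {z} := by
      intro s hs
      rw [Subgroup.mem_centralizer_singleton_iff]
      exact (Subgroup.mem_centralizer_iff.mp hzS) s hs
    have hmap : ((S.subtype hSM : Sylow p _) : Subgroup _).map
        (Subgroup.centralizer {z}).subtype = S := by
      rw [Sylow.coe_subtype, Subgroup.subgroupOf_map_subtype]
      exact inf_eq_left.mpr hSM
    have hle : cj g⁻¹ J' ≤ Subgroup.centralizer {z} := by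
      intro y hy
      rw [mem_cj, inv_inv] at hy
      rw [Subgroup.mem_centralizer_singleton_iff]
      have h1 := hg _ hy
      have h2 := congrArg (fun t => g⁻¹ * t * g) h1
      simp only [mul_assoc, inv_mul_cancel_left, inv_mul_cancel, mul_one] at h2
      exact h2
    obtain ⟨m, hm, hmle⟩ := exists_mem_le_cj_of_sylow (S.subtype hSM) (isPGroup_cj hJ'p g⁻¹) hle
    rw [hmap] at hmle
    have h1 : cj (m⁻¹ * g⁻¹) J' ≤ (S : Subgroup X) := by
      rw [← cj_cj, cj_le_iff, inv_inv]; exact hmle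
    have h2 : m⁻¹ * g⁻¹ ∈ Nz J' := by
      apply mem_Nz_sSup
      intro A hA
      exact h𝒜conj _ A hA ((cj_mono (le_sSup hA)).trans h1)
    have h3 := hN'x _ h2
    have h4 : m * x = x * m := by
      rw [Subgroup.mem_centralizer_singleton_iff] at hm
      rw [hx]
      exact (Commute.pow_right (show Commute m z from hm) e).eq
    have h5 : g⁻¹ * x = x * g⁻¹ := by
      calc g⁻¹ * x = m * ((m⁻¹ * g⁻¹) * x) := by group
        _ = m * (x * (m⁻¹ * g⁻¹)) := by rw [h3]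
        _ = (m * x) * (m⁻¹ * g⁻¹) := by group
        _ = (x * m) * (m⁻¹ * g⁻¹) := by rw [h4]
        _ = _ := by group
    calc g * x * g⁻¹ = g * (x * g⁻¹) := by group
      _ = g * (g⁻¹ * x) := by rw [h5]
      _ = x := by group
  -- the homomorphism
  set z' : ↥V := ⟨z, hzV⟩ with hz'
  set U : Subgroup ↥V := (powMonoidHom (p * e) : ↥V →* ↥V).range with hU
  let θ : ↥V →* ↥V ⧸ U := (QuotientGroup.mk' U).comp (powMonoidHom e : ↥V →* ↥V)
  have hθ : ∀ v : ↥V, θ v = QuotientGroup.mk (v ^ e) := fun v => rfl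
  have flag' : p ≠ 2 ∨ e = 2 ∨ ∀ a ∈ (S : Subgroup X), a ∉ Cz V → a * a ∈ Cz V →
      ¬ Nat.card V ≤ 2 * Nat.card ↥(V ⊓ Subgroup.centralizer {a}) := by
    by_cases hp2 : p = 2
    · subst hp2
      rcases flag with ⟨-, hf | hf⟩ | hf
      · exact Or.inl hf
      · exact Or.inr (Or.inr (fun a _ => no_transvection S hVc hVgen hzS hf a))
      · exact Or.inr (Or.inl hf)
    · exact Or.inl hp2
  obtain ⟨P, hP, k, hk, hPk⟩ := class_prod S z'
    (by
      intro s hs
      apply Subtype.ext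
      rw [MulAut.conjNormal_apply]
      show s * z * s⁻¹ = z
      rw [(Subgroup.mem_centralizer_iff.mp hzS) s hs]; group)
    J' hJ'p θ
    (by
      intro J₁ hJ₁ hN hcard u hu
      obtain ⟨a, ha, haJ, s, hs⟩ := norm_cond hVp hSp 𝒜 (fun A hA => hA) flag' J₁ hJ₁ hN hcard u hu
      refine ⟨a, ha, haJ, ?_⟩
      rw [hθ, hs, QuotientGroup.eq_one_iff]
      exact ⟨s, rfl⟩)
    (θ z')
    (by
      intro g hg
      rw [hθ, hθ]
      congr 1
      apply Subtype.ext
      rw [← map_pow, MulAut.conjNormal_apply]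
      show g * z ^ e * g⁻¹ = z ^ e
      rw [← hx]
      apply hF6
      intro j hj
      have h1 := congrArg Subtype.val (hg j hj)
      rw [MulAut.conjNormal_apply, MulAut.conjNormal_apply] at h1
      have h2 := congrArg (fun t => t * j) h1
      simpa [mul_assoc] using h2)
  rw [hθ, hθ, ← QuotientGroup.mk_pow] at hPk
  obtain ⟨t, ht⟩ := QuotientGroup.eq.mp hPk
  have ht' : (z' ^ e) ^ k = P ^ e * t ^ (p * e) := by
    have : t ^ (p * e) = (P ^ e)⁻¹ * (z' ^ e) ^ k := ht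
    rw [this]; group
  have hfin := endgame hVp z' hVgen hk P t hP ht'
  intro g
  have h1 := congrArg Subtype.val (hfin g)
  rw [MulAut.conjNormal_apply] at h1
  have h2 : g * x * g⁻¹ = x := by rw [hx]; exact h1
  have := congrArg (fun t => t * g) h2
  simpa [mul_assoc] using this

end Cfsg.Agent.Lib.Helper6.WC3
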