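import Mathlib
import Cfsg.Agent.Lib.Helper6.WC3g

set_option autoImplicit false
set_option maxHeartbeats 400000
set_option linter.unusedSectionVars false

/-! The local theorem: an element of a normal `p`-subgroup centralized by `N(J(S))` is central. -/

namespace Cfsg.Agent.Lib.Helper6.WC3

open Cfsg.Agent.Lib.Helper6.Basic Cfsg.Agent.Lib.Helper6.Subn Cfsg.Agent.Lib.Helper6.Quasi
  Cfsg.Agent.Lib.Helper6.Rad Cfsg.Agent.Lib.Helper6.Off Cfsg.Agent.Lib.Helper6.PAct
  Cfsg.Agent.Lib.Helper6.Off6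
open Cfsg.Agent.Lib.Helper3.PLocal Cfsg.Agent.Lib.Helper1
open scoped commutatorElement Pointwise

universe u

def LTP (p : ℕ) (X : Type u) [Group X] : Prop :=
  ∀ (S : Sylow p X) (R : Subgroup X), R.Normal → IsPGroup p ↥R → ∀ x ∈ R,
    (∀ n ∈ Nz (sSup (PMax Pab (S : Subgroup X))), n * x = x * n) →
    (p ≠ 2 ∨ (∃ z ∈ (S : Subgroup X) ⊓ Cz (S : Subgroup X), z ^ p = x) ∨
      ¬ Cfsg.Involves (Equiv.Perm (Fin 4)) X) →
    ∀ g : X, g * x = x * g

variable {X : Type u} [Group X]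

theorem J_map_subtype [Finite X] {p : ℕ} [hp : Fact p.Prime] {H T : Subgroup X} (hTH : T ≤ H)
    (hT : IsPGroup p ↥T) :
    (sSup (PMax Pab (T.subgroupOf H))).map H.subtype = sSup (PMax Pab T) := by
  have hT' : IsPGroup p ↥(T.subgroupOf H) := hT.comap_subtype
  rw [← induced_J, ← induced_J,
    ← inducedFunctor_map (isCharPFunctor_WZJ p false) H.subtype H.subtype_injective _ hT',
    Subgroup.map_subgroupOf_eq_of_le hTH]

theorem LTP.sub [Finite X] {p : ℕ} [hp : Fact p.Prime] {H : Subgroup X} (hH : LTP p ↥H)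
    {T R : Subgroup X} (hTH : T ≤ H) (hT : IsPGroup p ↥T) (hidx : ¬ p ∣ T.relIndex H) (hRH : R ≤ H)
    (hHR : H ≤ Nz R) (hR : IsPGroup p ↥R) {x : X} (hx : x ∈ R)
    (hxJ : ∀ n ∈ H ⊓ Nz (sSup (PMax Pab T)), n * x = x * n)
    (cond : p ≠ 2 ∨ (∃ z ∈ T ⊓ Cz T, z ^ p = x) ∨ ¬ Cfsg.Involves (Equiv.Perm (Fin 4)) X) :
    ∀ g ∈ H, g * x = x * g := by
  have hT' : IsPGroup p ↥(T.subgroupOf H) := hT.comap_subtype
  set T' : Sylow p ↥H := hT'.toSylow hidx with hT'def
  have hT'coe : (T' : Subgroup ↥H) = T.subgroupOf H := IsPGroup.toSylow_coe _ _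
  have hRn : (R.subgroupOf H).Normal := (Subgroup.normal_subgroupOf_iff_le_normalizer hRH).mpr hHR
  intro g hg
  have key := hH T' (R.subgroupOf H) hRn hR.comap_subtype ⟨x, hRH hx⟩ hx
    (by
      intro n hn
      apply Subtype.ext
      apply hxJ n.1
      refine Subgroup.mem_inf.mpr ⟨n.2, ?_⟩
      rw [hT'coe] at hn
      rw [← J_map_subtype hTH hT]
      apply mem_Nz_of_conj_mem
      rintro _ ⟨k, hk, rfl⟩
      exact ⟨n * k * n⁻¹, conj_mem_of_mem_Nz hn hk, rfl⟩)
    (by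
      rcases cond with h | ⟨z, hz, hzx⟩ | h
      · exact Or.inl h
      · refine Or.inr (Or.inl ⟨⟨z, hTH (Subgroup.mem_inf.mp hz).1⟩, ?_, Subtype.ext hzx⟩)
        rw [hT'coe]
        refine Subgroup.mem_inf.mpr ⟨(Subgroup.mem_inf.mp hz).1, ?_⟩
        rw [Subgroup.mem_centralizer_iff]
        intro t ht
        exact Subtype.ext ((Subgroup.mem_centralizer_iff.mp (Subgroup.mem_inf.mp hz).2) t.1 ht)
      · exact Or.inr (Or.inr (fun h2 => h (involves_of_subgroup H h2))))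
    ⟨g, hg⟩
  exact congrArg Subtype.val key

theorem core2 [Finite X] {p : ℕ} [hp : Fact p.Prime] (S : Sylow p X) (R : Subgroup X)
    (hRn : R.Normal) (hRp : IsPGroup p ↥R) {z x : X} {e : ℕ} (hzR : z ∈ R)
    (hzS : z ∈ Cz (S : Subgroup X)) (hx : x = z ^ e)
    (hIH : ∀ H : Subgroup X, H ≠ ⊤ → (S : Subgroup X) ≤ H → ∀ g ∈ H, g * x = x * g)
    (hJ : ∀ n ∈ Nz (sSup (PMax Pab (S : Subgroup X))), n * x = x * n)
    (flag : (e = 1 ∧ (p ≠ 2 ∨ ¬ Cfsg.Involves (Equiv.Perm (Fin 4)) X)) ∨ e = p) :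
    ∀ g : X, g * x = x * g := by
  have hRS : R ≤ (S : Subgroup X) := normal_pgroup_le_sylow S hRn hRp
  have hCn : (Cz R).Normal := Subgroup.normal_centralizer
  have hZn : (R ⊓ Cz R).Normal := inferInstance
  have hle : Subgroup.normalClosure {z} ≤ R ⊓ Cz R := by
    apply Subgroup.normalClosure_le_normal
    rw [Set.singleton_subset_iff]
    exact Subgroup.mem_inf.mpr ⟨hzR, Cz_anti hRS hzS⟩
  exact core S (Subgroup.normalClosure {z})
    ((hle.trans inf_le_right).trans (Cz_anti (hle.trans inf_le_left)))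
    ((hle.trans inf_le_left).trans hRS) rfl hzS hx hIH hJ flag

theorem LT_all {p : ℕ} [hp : Fact p.Prime] :
    ∀ (n : ℕ) (X : Type u) [Group X] [Finite X], Nat.card X = n → LTP p X := by
  intro n
  induction n using Nat.strong_induction_on with
  | _ n ih =>
    intro X _ _ hn S R hRn hRp x hxR hxJ cond
    have IH' : ∀ H : Subgroup X, H ≠ ⊤ → LTP p ↥H := by
      intro H hH
      refine ih (Nat.card H) ?_ ↥H rfl
      rw [← hn]
      exact lt_of_le_of_ne (Subgroup.card_le_card_group H) (fun h => hH (Subgroup.eq_top_of_card_eq H h))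
    have hRS : R ≤ (S : Subgroup X) := normal_pgroup_le_sylow S hRn hRp
    have hSJ : (S : Subgroup X) ≤ Nz (sSup (PMax Pab (S : Subgroup X))) := by
      rw [← induced_J]
      exact Subgroup.le_normalizer.trans
        (normalizer_le_normalizer_inducedFunctor (isCharPFunctor_WZJ p false) _ S.isPGroup')
    have hxS : x ∈ Cz (S : Subgroup X) := by
      rw [Subgroup.mem_centralizer_iff]
      intro s hs
      exact hxJ s (hSJ hs)
    have hNR : ∀ H : Subgroup X, H ≤ Nz R := fun H => by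
      rw [show Nz R = ⊤ from Subgroup.normalizer_eq_top_iff.mpr hRn]; exact le_top
    have hIH : ∀ H : Subgroup X, H ≠ ⊤ → (S : Subgroup X) ≤ H → ∀ g ∈ H, g * x = x * g := by
      intro H hH hSH
      exact LTP.sub (IH' H hH) hSH S.isPGroup'
        (fun h => S.not_dvd_index (h.trans (Subgroup.relIndex_dvd_index_of_le hSH)))
        (hRS.trans hSH) (hNR H) hRp hxR (fun n hn => hxJ n (Subgroup.mem_inf.mp hn).2) cond
    rcases cond with h | ⟨z, hz, hzx⟩ | h
    · exact core2 S R hRn hRp hxR hxS (pow_one x).symm hIH hxJ (Or.inl ⟨rfl, Or.inl h⟩)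
    · obtain ⟨hzS, hzC⟩ := Subgroup.mem_inf.mp hz
      have hDn : (Cz R).Normal := Subgroup.normal_centralizer
      by_cases hND : Nz ((S : Subgroup X) ⊓ Cz R) = ⊤
      · have hn2 : ((S : Subgroup X) ⊓ Cz R).Normal := Subgroup.normalizer_eq_top_iff.mp hND
        exact core2 S ((S : Subgroup X) ⊓ Cz R) hn2 (S.isPGroup'.to_le inf_le_left)
          (Subgroup.mem_inf.mpr ⟨hzS, Cz_anti hRS hzC⟩) hzC hzx.symm hIH hxJ (Or.inr rfl)
      · intro g
        obtain ⟨d, hd, h, hh, rfl⟩ := frattini_elt S (Cz R) g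
        have h1 : (S : Subgroup X) ≤ Nz ((S : Subgroup X) ⊓ Cz R) :=
          Cfsg.Agent.Lib.Helper6.FStar.le_Nz_inf Subgroup.le_normalizer
            (by rw [show Nz (Cz R) = ⊤ from Subgroup.normalizer_eq_top_iff.mpr hDn]; exact le_top)
        have h2 := hIH _ hND h1 h hh
        have h3 : d * x = x * d := ((Subgroup.mem_centralizer_iff.mp hd) x hxR).symm
        rw [mul_assoc, h2, ← mul_assoc, h3, mul_assoc]
    · exact core2 S R hRn hRp hxR hxS (pow_one x).symm hIH hxJ (Or.inl ⟨rfl, Or.inr h⟩)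

end Cfsg.Agent.Lib.Helper6.WC3
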