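import Mathlib
import Cfsg.Agent.Lib.Helper6.WC3h
import Cfsg.Agent.S1964
import Cfsg.Agent.Lib.Helper1.Frobenius
import Cfsg.Agent.Lib.Helper3.ZJLocal

set_option autoImplicit false
set_option maxHeartbeats 400000
set_option linter.unusedSectionVars false

/-! Glauberman: elements of `S ∩ Z(N(J(S)))` are weakly closed. -/

namespace Cfsg.Agent.Lib.Helper6.WC4

open Cfsg.Agent.Lib.Helper6.Basic Cfsg.Agent.Lib.Helper6.Subn Cfsg.Agent.Lib.Helper6.Quasi
  Cfsg.Agent.Lib.Helper6.Rad Cfsg.Agent.Lib.Helper6.Off Cfsg.Agent.Lib.Helper6.PAct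
  Cfsg.Agent.Lib.Helper6.Off6 Cfsg.Agent.Lib.Helper6.WC3
open Cfsg.Agent.Lib.Helper3.PLocal Cfsg.Agent.Lib.Helper1
open scoped commutatorElement Pointwise

universe u
variable {X : Type u} [Group X]

/-- the Thompson subgroup -/
abbrev JJ (P : Subgroup X) : Subgroup X := sSup (PMax Pab P)

theorem conjFunctor_J [Finite X] (p : ℕ) [hp : Fact p.Prime] :
    Cfsg.IsConjugacyFunctor p (JJ : Subgroup X → Subgroup X) := by
  intro P hP
  have h : ∀ Q : Subgroup X, JJ Q = Cfsg.inducedFunctor (WZJ false) Q := fun Q => (induced_J Q).symm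
  rw [h]
  refine ⟨inducedFunctor_le _ P, inducedFunctor_ne_bot (isCharPFunctor_WZJ p false) P hP, fun g => ?_⟩
  rw [h]
  exact inducedFunctor_map (isCharPFunctor_WZJ p false) (MulAut.conj g).toMonoidHom
    (MulAut.conj g).injective P hP

theorem JJ_le (P : Subgroup X) : JJ P ≤ P := sSup_le (fun A hA => hA.1)

theorem mem_JJ [Finite X] {D : Subgroup X} {x : X} (hx : x ∈ D) (hxc : x ∈ Cz D) : x ∈ JJ D := by
  obtain ⟨A, hA⟩ := PMax_nonempty (P := Pab) Pab_bot D
  have h1 : x ∈ A := mem_PMax_of_centralizes hA hx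
    (fun a ha => (Subgroup.mem_centralizer_iff.mp hxc) a (hA.1 ha))
  exact (le_sSup hA : A ≤ JJ D) h1

theorem le_Nz_JJ [Finite X] {p : ℕ} [hp : Fact p.Prime] {D : Subgroup X} (hD : IsPGroup p ↥D) :
    Nz D ≤ Nz (JJ D) := by
  have h : JJ D = Cfsg.inducedFunctor (WZJ false) D := (induced_J D).symm
  rw [h]
  exact normalizer_le_normalizer_inducedFunctor (isCharPFunctor_WZJ p false) _ hD

section tower
variable [Finite X] {p : ℕ} [hp : Fact p.Prime] (S : Sylow p X) {T : Subgroup X} {x : X}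

theorem tower_le (hT : T ≤ (S : Subgroup X)) (i : ℕ) :
    Cfsg.functorTower JJ (S : Subgroup X) T i ≤ (S : Subgroup X) := by
  cases i with
  | zero => exact hT
  | succ i => exact (JJ_le _).trans inf_le_left

theorem le_Nz_of_Cz {U D : Subgroup X} (hU : U ≤ D) : Cz D ≤ Nz U :=
  (Cz_anti hU).trans (Quasi.Cz_le_Nz U)

theorem mem_tower (hT : T ≤ (S : Subgroup X)) (hxS : x ∈ (S : Subgroup X))
    (hxC : x ∈ Cz (S : Subgroup X)) (hxT : x ∈ T) (i : ℕ) :
    x ∈ Cfsg.functorTower JJ (S : Subgroup X) T i := by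
  cases i with
  | zero => exact hxT
  | succ i =>
    apply mem_JJ
    · exact Subgroup.mem_inf.mpr ⟨hxS, le_Nz_of_Cz (tower_le S hT i) hxC⟩
    · exact Cz_anti inf_le_left hxC

theorem tower_stab (hT : T ≤ (S : Subgroup X)) (i : ℕ) :
    (S : Subgroup X) ⊓ Nz (Cfsg.functorTower JJ (S : Subgroup X) T i) = S ∨
      i < Nat.card ↥((S : Subgroup X) ⊓ Nz (Cfsg.functorTower JJ (S : Subgroup X) T i)) := by
  induction i with
  | zero => exact Or.inr Nat.card_pos
  | succ i ih =>
    set Si := (S : Subgroup X) ⊓ Nz (Cfsg.functorTower JJ (S : Subgroup X) T i) with hSi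
    have hSip : IsPGroup p ↥Si := S.isPGroup'.to_le inf_le_left
    have hU : Cfsg.functorTower JJ (S : Subgroup X) T (i + 1) = JJ Si := rfl
    rw [hU]
    have hmono : (S : Subgroup X) ⊓ Nz Si ≤ (S : Subgroup X) ⊓ Nz (JJ Si) :=
      inf_le_inf_left _ (le_Nz_JJ hSip)
    by_cases heq : Si = S
    · left
      apply le_antisymm inf_le_left
      refine le_trans ?_ hmono
      rw [heq]
      exact le_inf le_rfl Subgroup.le_normalizer
    · right
      have hlt : Si < (S : Subgroup X) := lt_of_le_of_ne inf_le_left heq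
      have h1 := lt_inf_normalizer_of_lt S.isPGroup' hlt
      have h2 : Si < (S : Subgroup X) ⊓ Nz (JJ Si) := lt_of_lt_of_le h1 hmono
      have h3 : Nat.card Si < Nat.card ↥((S : Subgroup X) ⊓ Nz (JJ Si)) := by
        apply lt_of_le_of_ne (Subgroup.card_le_of_le h2.le)
        intro h
        exact absurd (Subgroup.eq_of_le_of_card_ge h2.le h.ge) h2.ne
      rcases ih with h4 | h4
      · exact absurd h4 heq
      · omega

theorem wellPlaced_cent (hW : Cfsg.IsWellPlaced p JJ (S : Subgroup X) T)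
    (hxS : x ∈ (S : Subgroup X)) (hxJ : ∀ n ∈ Nz (JJ (S : Subgroup X)), n * x = x * n)
    (cond : p ≠ 2 ∨ (∃ z ∈ (S : Subgroup X) ⊓ Cz (S : Subgroup X), z ^ p = x) ∨
      ¬ Cfsg.Involves (Equiv.Perm (Fin 4)) X) (hxT : x ∈ T) :
    ∀ g ∈ Nz T, g * x = x * g := by
  obtain ⟨hT, hwp⟩ := hW
  have hSJ : (S : Subgroup X) ≤ Nz (JJ (S : Subgroup X)) :=
    Subgroup.le_normalizer.trans (le_Nz_JJ S.isPGroup')
  have hxC : x ∈ Cz (S : Subgroup X) := by
    rw [Subgroup.mem_centralizer_iff]
    intro s hs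
    exact hxJ s (hSJ hs)
  -- the step
  have hstep : ∀ i : ℕ,
      (∀ g ∈ Nz (Cfsg.functorTower JJ (S : Subgroup X) T (i + 1)), g * x = x * g) →
      ∀ g ∈ Nz (Cfsg.functorTower JJ (S : Subgroup X) T i), g * x = x * g := by
    intro i hi
    set U := Cfsg.functorTower JJ (S : Subgroup X) T i with hU
    have hUS : U ≤ (S : Subgroup X) := tower_le S hT i
    refine LTP.sub (H := Nz U) (LT_all _ ↥(Nz U) rfl) (T := (S : Subgroup X) ⊓ Nz U) (R := U)
      inf_le_right (S.isPGroup'.to_le inf_le_left) (hwp i) Subgroup.le_normalizer le_rfl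
      (S.isPGroup'.to_le hUS) (mem_tower S hT hxS hxC hxT i) ?_ ?_
    · intro n hn
      exact hi n (Subgroup.mem_inf.mp hn).2
    · rcases cond with h | ⟨z, hz, hzx⟩ | h
      · exact Or.inl h
      · obtain ⟨hzS, hzC⟩ := Subgroup.mem_inf.mp hz
        refine Or.inr (Or.inl ⟨z, Subgroup.mem_inf.mpr ⟨Subgroup.mem_inf.mpr ⟨hzS, ?_⟩, ?_⟩, hzx⟩)
        · exact le_Nz_of_Cz hUS hzC
        · exact Cz_anti inf_le_left hzC
      · exact Or.inr (Or.inr h)
  -- the top
  have htop : ∀ g ∈ Nz (Cfsg.functorTower JJ (S : Subgroup X) T (Nat.card (S : Subgroup X) + 1)),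
      g * x = x * g := by
    have h1 : (S : Subgroup X) ⊓ Nz (Cfsg.functorTower JJ (S : Subgroup X) T (Nat.card (S : Subgroup X)))
        = S := by
      rcases tower_stab S hT (Nat.card (S : Subgroup X)) with h | h
      · exact h
      · exfalso
        have := Subgroup.card_le_of_le (inf_le_left : (S : Subgroup X) ⊓
          Nz (Cfsg.functorTower JJ (S : Subgroup X) T (Nat.card (S : Subgroup X))) ≤ S)
        omega
    have h2 : Cfsg.functorTower JJ (S : Subgroup X) T (Nat.card (S : Subgroup X) + 1)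
        = JJ ((S : Subgroup X) ⊓
          Nz (Cfsg.functorTower JJ (S : Subgroup X) T (Nat.card (S : Subgroup X)))) := rfl
    rw [h2, h1]
    exact hxJ
  have hall : ∀ k i : ℕ, i + k = Nat.card (S : Subgroup X) + 1 →
      ∀ g ∈ Nz (Cfsg.functorTower JJ (S : Subgroup X) T i), g * x = x * g := by
    intro k
    induction k with
    | zero =>
      intro i hi
      have : i = Nat.card (S : Subgroup X) + 1 := by omega
      rw [this]; exact htop
    | succ k ih =>
      intro i hi
      exact hstep i (ih (i + 1) (by omega))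
  exact hall (Nat.card (S : Subgroup X) + 1) 0 (by omega)

end tower

theorem weakly_closed [Finite X] {p : ℕ} [hp : Fact p.Prime] (S : Sylow p X) {x : X}
    (hxS : x ∈ (S : Subgroup X)) (hxJ : ∀ n ∈ Nz (JJ (S : Subgroup X)), n * x = x * n)
    (cond : p ≠ 2 ∨ (∃ z ∈ (S : Subgroup X) ⊓ Cz (S : Subgroup X), z ^ p = x) ∨
      ¬ Cfsg.Involves (Equiv.Perm (Fin 4)) X) :
    ∀ g : X, g * x * g⁻¹ ∈ (S : Subgroup X) → g * x * g⁻¹ = x := by
  intro g hg
  obtain ⟨-, hfam⟩ := Cfsg.Agent.S1964.result S JJ (conjFunctor_J p)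
  obtain ⟨n, T, y, hprod, hT, hy, h0, hstep⟩ := hfam {x} g⁻¹ ⟨x, rfl⟩
    (by
      intro a ha
      rw [Set.mem_singleton_iff] at ha
      rw [ha]; exact hxS)
    (by
      rintro _ ⟨a, ha, rfl⟩
      rw [Set.mem_singleton_iff] at ha
      rw [ha]
      show g⁻¹⁻¹ * x * g⁻¹ ∈ (S : Subgroup X)
      rw [inv_inv]; exact hg)
  have key : ∀ j, j ≤ n → Commute ((List.ofFn y).take j).prod x := by
    intro j
    induction j with
    | zero => intro _; simp
    | succ j ih =>
      intro hj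
      have hjn : j < n := hj
      have ihj := ih (le_of_lt hjn)
      have hlen : j < (List.ofFn y).length := by simpa using hjn
      rw [List.prod_take_succ _ _ hlen, List.getElem_ofFn]
      apply ihj.mul_left
      have hxT : x ∈ T ⟨j, hjn⟩ := by
        cases j with
        | zero => exact h0 hjn (Set.mem_singleton x)
        | succ j' =>
          have h1 := hstep ⟨j', by omega⟩ hjn ⟨x, rfl, rfl⟩
          have h2 : (((List.ofFn y).take (j' + 1)).prod)⁻¹ * x * ((List.ofFn y).take (j' + 1)).prod = x := by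
            rw [mul_assoc, ← ihj.eq]; group
          simp only at h1
          rw [h2] at h1
          exact h1
      exact wellPlaced_cent S (hT _) hxS hxJ cond hxT _ (hy _)
  have h1 := key n le_rfl
  rw [List.take_of_length_le (by simp), hprod] at h1
  have h2 : g⁻¹ * x = x * g⁻¹ := h1.eq
  calc g * x * g⁻¹ = g * (x * g⁻¹) := by group
    _ = g * (g⁻¹ * x) := by rw [h2]
    _ = x := by group

end Cfsg.Agent.Lib.Helper6.WC4
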