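import Mathlib
import Cfsg.Agent.Lib.Helper6.Trace
import Cfsg.Agent.Lib.Helper6.WC4

set_option autoImplicit false
set_option maxHeartbeats 400000
set_option linter.unusedSectionVars false

/-! The fixed points of `N` split off from the fixed points of a Sylow subgroup. -/

namespace Cfsg.Agent.Lib.Helper6.WC5

open Cfsg.Agent.Lib.Helper6.Basic Cfsg.Agent.Lib.Helper6.Subn Cfsg.Agent.Lib.Helper6.Quasi
  Cfsg.Agent.Lib.Helper6.Rad Cfsg.Agent.Lib.Helper6.PAct Cfsg.Agent.Lib.Helper6.Trace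
open scoped commutatorElement Pointwise IsMulCommutative

variable {G : Type*} [Group G]

theorem split [Finite G] {p : ℕ} [hp : Fact p.Prime] {V N S : Subgroup G} (hVab : V ≤ Cz V)
    (hVp : IsPGroup p ↥V) (hNV : N ≤ Nz V) (hSN : S ≤ N) (hidx : ¬ p ∣ S.relIndex N) :
    ∃ K : Subgroup G, K ≤ V ⊓ Cz S ∧ (V ⊓ Cz N) ⊓ K = ⊥ ∧ (V ⊓ Cz N) ⊔ K = V ⊓ Cz S := by
  have : IsMulCommutative ↥V := Subgroup.le_centralizer_iff_isMulCommutative.mp hVab
  let _ : Fintype (↥(N.subgroupOf (Nz V)) ⧸ (S.subgroupOf (Nz V)).subgroupOf (N.subgroupOf (Nz V))) :=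
    Fintype.ofFinite _
  set A := N.subgroupOf (Nz V) with hA
  set S' := S.subgroupOf (Nz V) with hS'
  have hr : S'.relIndex A = S.relIndex N := Subgroup.relIndex_subgroupOf hNV
  let τ : ↥V →* ↥V := MonoidHom.mk' (tr A S') tr_mul
  have hτ : ∀ v, τ v = tr A S' v := fun v => rfl
  have fixS : ∀ v : ↥V, (v : G) ∈ Cz S → ∀ s ∈ S', s • v = v := by
    intro v hv s hs
    rw [smul_eq_iff]
    exact (Subgroup.mem_centralizer_iff.mp hv) s hs
  have fixA : ∀ v : ↥V, (v : G) ∈ Cz N ↔ ∀ a ∈ A, a • v = v := by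
    intro v
    constructor
    · intro hv a ha
      rw [smul_eq_iff]
      exact (Subgroup.mem_centralizer_iff.mp hv) a ha
    · intro h
      rw [Subgroup.mem_centralizer_iff]
      intro n hn
      exact (smul_eq_iff ⟨n, hNV hn⟩ v).mp (h ⟨n, hNV hn⟩ hn)
  have hcop : ∀ v : ↥V, Nat.Coprime (S.relIndex N) (orderOf v) := by
    intro v
    obtain ⟨c, hc⟩ := (IsPGroup.iff_orderOf.mp hVp) v
    rw [hc]
    exact Nat.Coprime.pow_right _ ((Nat.Prime.coprime_iff_not_dvd hp.out).mpr hidx).symm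
  refine ⟨(τ.ker.map V.subtype) ⊓ Cz S, ?_, ?_, ?_⟩
  · exact inf_le_inf_right _ (Subgroup.map_subtype_le _)
  · rw [eq_bot_iff]
    intro w hw
    obtain ⟨hw1, hw2⟩ := Subgroup.mem_inf.mp hw
    obtain ⟨hwV, hwN⟩ := Subgroup.mem_inf.mp hw1
    obtain ⟨⟨w', hw'k, hw'w⟩, -⟩ := Subgroup.mem_inf.mp hw2
    have hw'N : (w' : G) ∈ Cz N := by
      have : (w' : G) = w := hw'w
      rw [this]; exact hwN
    have h1 : τ w' = 1 := hw'k
    rw [hτ, tr_of_fixed ((fixA w').mp hw'N), hr] at h1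
    obtain ⟨m, hm⟩ := exists_pow_eq_self_of_coprime (hcop w')
    rw [h1, one_pow] at hm
    rw [Subgroup.mem_bot, ← hw'w, ← hm]
    rfl
  · apply le_antisymm
    · exact sup_le (inf_le_inf_left _ (Cz_anti hSN)) (inf_le_inf_right _ (Subgroup.map_subtype_le _))
    · intro z hz
      obtain ⟨hzV, hzS⟩ := Subgroup.mem_inf.mp hz
      set z' : ↥V := ⟨z, hzV⟩ with hz'
      set t := tr A S' z' with ht
      have htfix : ∀ a ∈ A, a • t = t := fun a ha => smul_tr (fixS z' hzS) ha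
      obtain ⟨m, hm⟩ := exists_pow_eq_self_of_coprime (hcop t)
      set w := t ^ m with hw
      have hwfix : ∀ a ∈ A, a • w = w := by
        intro a ha
        rw [hw, smul_pow', htfix a ha]
      have hwN : (w : G) ∈ Cz N := (fixA w).mpr hwfix
      have htw : tr A S' w = t := by
        rw [tr_of_fixed hwfix, hr, hw, ← pow_mul, mul_comm, pow_mul]; exact hm
      have h1 : (w : G) ∈ V ⊓ Cz N := Subgroup.mem_inf.mpr ⟨w.2, hwN⟩
      have h2 : ((w⁻¹ * z' : ↥V) : G) ∈ (τ.ker.map V.subtype) ⊓ Cz S := by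
        refine Subgroup.mem_inf.mpr ⟨⟨w⁻¹ * z', ?_, rfl⟩, ?_⟩
        · show τ (w⁻¹ * z') = 1
          rw [hτ, tr_mul, tr_inv, htw]
          exact inv_mul_cancel t
        · exact (Cz S).mul_mem ((Cz S).inv_mem (Cz_anti hSN hwN)) hzS
      have h3 := Subgroup.mul_mem_sup h1 h2
      have h4 : (w : G) * ((w⁻¹ * z' : ↥V) : G) = z := by
        show (w : G) * ((w : G)⁻¹ * z) = z
        group
      rwa [h4] at h3

end Cfsg.Agent.Lib.Helper6.WC5
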