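import Mathlib
import Cfsg.Agent.Lib.Helper6.WC5
import Cfsg.Agent.Lib.Helper9.HHSolv
import Cfsg.Prelude.Def_Local

set_option autoImplicit false
set_option maxHeartbeats 400000
set_option linter.unusedSectionVars false

/-! The weakly closed elements of a Sylow subgroup form a direct factor of its centre. -/

namespace Cfsg.Agent.Lib.Helper6.WC5

open Cfsg.Agent.Lib.Helper6.Basic Cfsg.Agent.Lib.Helper6.Subn Cfsg.Agent.Lib.Helper6.Quasi
  Cfsg.Agent.Lib.Helper6.Rad Cfsg.Agent.Lib.Helper6.PAct Cfsg.Agent.Lib.Helper6.Off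
  Cfsg.Agent.Lib.Helper6.WC4
open Cfsg.Agent.Lib.Helper3.PLocal
open scoped commutatorElement Pointwise

universe u
variable {G : Type u} [Group G]

theorem factor_of_data [Finite G] {p : ℕ} [hp : Fact p.Prime] (S : Sylow p G) (R : Subgroup G)
    (hRS : R ≤ (S : Subgroup G)) (hZR : (S : Subgroup G) ⊓ Cz (S : Subgroup G) ≤ R)
    (hSR : (S : Subgroup G) ≤ Nz R)
    (hwc : ∀ x ∈ (S : Subgroup G) ⊓ Cz (Nz R), ∀ g : G, g * x * g⁻¹ ∈ (S : Subgroup G) →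
      g * x * g⁻¹ = x) :
    ∃ W K : Subgroup G, (∀ x : G, x ∈ W ↔ (x ∈ (S : Subgroup G) ∧
        ∀ g : G, g * x * g⁻¹ ∈ (S : Subgroup G) → g * x * g⁻¹ = x)) ∧
      K ≤ (S : Subgroup G) ⊓ Cz (S : Subgroup G) ∧ W ⊓ K = ⊥ ∧
      W ⊔ K = (S : Subgroup G) ⊓ Cz (S : Subgroup G) := by
  set V := R ⊓ Cz R with hV
  have hNV : Nz R ≤ Nz V := Cfsg.Agent.Lib.Helper6.FStar.le_Nz_inf le_rfl (Off.Nz_le_Nz_Cz R)
  have hVab : V ≤ Cz V := inf_le_right.trans (Cz_anti inf_le_left)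
  have hVp : IsPGroup p ↥V := S.isPGroup'.to_le (inf_le_left.trans hRS)
  have hVS : V ⊓ Cz (S : Subgroup G) = (S : Subgroup G) ⊓ Cz (S : Subgroup G) := by
    apply le_antisymm
    · exact inf_le_inf_right _ (inf_le_left.trans hRS)
    · exact le_inf (le_inf hZR (inf_le_right.trans (Cz_anti hRS))) inf_le_right
  have hidx : ¬ p ∣ (S : Subgroup G).relIndex (Nz R) :=
    fun h => S.not_dvd_index (h.trans (Subgroup.relIndex_dvd_index_of_le hSR))
  obtain ⟨K, hK1, hK2, hK3⟩ := split hVab hVp hNV hSR hidx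
  rw [hVS] at hK1 hK3
  refine ⟨V ⊓ Cz (Nz R), K, ?_, hK1, hK2, hK3⟩
  intro x
  constructor
  · intro hx
    obtain ⟨hxV, hxN⟩ := Subgroup.mem_inf.mp hx
    have hxS : x ∈ (S : Subgroup G) := hRS (Subgroup.mem_inf.mp hxV).1
    exact ⟨hxS, hwc x (Subgroup.mem_inf.mpr ⟨hxS, hxN⟩)⟩
  · rintro ⟨hxS, hx⟩
    have hxC : x ∈ Cz (S : Subgroup G) := by
      rw [Subgroup.mem_centralizer_iff]
      intro s hs
      have h1 := hx s ((S : Subgroup G).mul_mem ((S : Subgroup G).mul_mem hs hxS)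
        ((S : Subgroup G).inv_mem hs))
      have := congrArg (fun t => t * s) h1
      simpa [mul_assoc] using this
    have hxR : x ∈ R := hZR (Subgroup.mem_inf.mpr ⟨hxS, hxC⟩)
    refine Subgroup.mem_inf.mpr ⟨Subgroup.mem_inf.mpr ⟨hxR, Cz_anti hRS hxC⟩, ?_⟩
    rw [Subgroup.mem_centralizer_iff]
    intro n hn
    have h1 := hx n (hRS (conj_mem_of_mem_Nz hn hxR))
    have := congrArg (fun t => t * n) h1
    simpa [mul_assoc] using this

theorem factor_odd [Finite G] {p : ℕ} [hp : Fact p.Prime] (hp2 : p ≠ 2) (S : Sylow p G) :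
    ∃ W K : Subgroup G, (∀ x : G, x ∈ W ↔ (x ∈ (S : Subgroup G) ∧
        ∀ g : G, g * x * g⁻¹ ∈ (S : Subgroup G) → g * x * g⁻¹ = x)) ∧
      K ≤ (S : Subgroup G) ⊓ Cz (S : Subgroup G) ∧ W ⊓ K = ⊥ ∧
      W ⊔ K = (S : Subgroup G) ⊓ Cz (S : Subgroup G) := by
  apply factor_of_data S (JJ (S : Subgroup G)) (JJ_le _)
  · intro z hz
    exact mem_JJ (Subgroup.mem_inf.mp hz).1 (Subgroup.mem_inf.mp hz).2
  · exact Subgroup.le_normalizer.trans (le_Nz_JJ S.isPGroup')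
  · intro x hx
    obtain ⟨hxS, hxN⟩ := Subgroup.mem_inf.mp hx
    exact weakly_closed S hxS (fun n hn => (Subgroup.mem_centralizer_iff.mp hxN) n hn) (Or.inl hp2)

theorem mem_pPrimePCore_decomp [Finite G] {p : ℕ} [hp : Fact p.Prime] (S : Sylow p G) {l : G}
    (hl : l ∈ Cfsg.pPrimePCore p G) :
    ∃ k ∈ Cfsg.pPrimeCore p G, ∃ s ∈ (S : Subgroup G) ⊓ Cfsg.pPrimePCore p G, l = k * s := by
  have hsurj := QuotientGroup.mk'_surjective (Cfsg.pPrimeCore p G)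
  have h1 : Cfsg.pCore p (G ⧸ Cfsg.pPrimeCore p G) ≤ S.mapSurjective hsurj :=
    normal_pgroup_le_sylow _ (Cfsg.pCore_normal p _) (Cfsg.Agent.Lib.Helper1.pCore_isPGroup p)
  have h2 : QuotientGroup.mk' (Cfsg.pPrimeCore p G) l ∈
      ((S.mapSurjective hsurj : Sylow p _) : Subgroup (G ⧸ Cfsg.pPrimeCore p G)) := h1 hl
  rw [Sylow.coe_mapSurjective] at h2
  obtain ⟨s, hs, hsl⟩ := h2
  have h3 : l * s⁻¹ ∈ Cfsg.pPrimeCore p G := by
    rw [← QuotientGroup.eq_one_iff]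
    have : ((l * s⁻¹ : G) : G ⧸ Cfsg.pPrimeCore p G) =
        QuotientGroup.mk' _ l * (QuotientGroup.mk' _ s)⁻¹ := rfl
    rw [this, hsl]; group
  refine ⟨l * s⁻¹, h3, s, Subgroup.mem_inf.mpr ⟨hs, ?_⟩, by group⟩
  show QuotientGroup.mk' (Cfsg.pPrimeCore p G) s ∈ Cfsg.pCore p (G ⧸ Cfsg.pPrimeCore p G)
  rw [hsl]; exact hl

theorem factor_core [Finite G] {p : ℕ} [hp : Fact p.Prime] (S : Sylow p G)
    (hZ : (S : Subgroup G) ⊓ Cz (S : Subgroup G) ≤ Cfsg.pPrimePCore p G) :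
    ∃ W K : Subgroup G, (∀ x : G, x ∈ W ↔ (x ∈ (S : Subgroup G) ∧
        ∀ g : G, g * x * g⁻¹ ∈ (S : Subgroup G) → g * x * g⁻¹ = x)) ∧
      K ≤ (S : Subgroup G) ⊓ Cz (S : Subgroup G) ∧ W ⊓ K = ⊥ ∧
      W ⊔ K = (S : Subgroup G) ⊓ Cz (S : Subgroup G) := by
  have hLn : (Cfsg.pPrimePCore p G).Normal :=
    Subgroup.Normal.comap (Cfsg.pCore_normal p _) _
  have hKn : (Cfsg.pPrimeCore p G).Normal := Cfsg.pPrimeCore_normal p G
  apply factor_of_data S ((S : Subgroup G) ⊓ Cfsg.pPrimePCore p G) inf_le_left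
  · exact le_inf inf_le_left hZ
  · exact Cfsg.Agent.Lib.Helper6.FStar.le_Nz_inf Subgroup.le_normalizer
      (by rw [show Nz (Cfsg.pPrimePCore p G) = ⊤ from Subgroup.normalizer_eq_top_iff.mpr hLn]
          exact le_top)
  · intro x hx g hg
    obtain ⟨hxS, hxN⟩ := Subgroup.mem_inf.mp hx
    obtain ⟨l, hl, h, hh, rfl⟩ := frattini_elt S (Cfsg.pPrimePCore p G) g
    obtain ⟨k, hk, s, hs, rfl⟩ := mem_pPrimePCore_decomp S hl
    have hsh : s * h ∈ Nz ((S : Subgroup G) ⊓ Cfsg.pPrimePCore p G) :=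
      (Nz _).mul_mem (Subgroup.le_normalizer hs) hh
    have h1 : (s * h) * x = x * (s * h) := (Subgroup.mem_centralizer_iff.mp hxN) _ hsh
    have h2 : k * s * h * x * (k * s * h)⁻¹ = k * x * k⁻¹ := by
      calc k * s * h * x * (k * s * h)⁻¹ = k * ((s * h) * x) * (s * h)⁻¹ * k⁻¹ := by group
        _ = k * (x * (s * h)) * (s * h)⁻¹ * k⁻¹ := by rw [h1]
        _ = _ := by group
    rw [h2] at hg ⊢
    have h3 : k * x * k⁻¹ * x⁻¹ ∈ Cfsg.pPrimeCore p G := by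
      have := (Cfsg.pPrimeCore p G).mul_mem hk (hKn.conj_mem _ ((Cfsg.pPrimeCore p G).inv_mem hk) x)
      simpa [mul_assoc] using this
    have h4 : k * x * k⁻¹ * x⁻¹ ∈ (S : Subgroup G) :=
      (S : Subgroup G).mul_mem hg ((S : Subgroup G).inv_mem hxS)
    have h5 : k * x * k⁻¹ * x⁻¹ = 1 := by
      apply eq_one_of_pGroup_of_coprime S.isPGroup' h4
      exact Nat.Coprime.coprime_dvd_left (Subgroup.orderOf_dvd_natCard _ h3)
        (Cfsg.Agent.Lib.Helper1.pPrimeCore_coprime p)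
    exact mul_inv_eq_one.mp h5

theorem center_le_of_solvable [Finite G] {p : ℕ} [hp : Fact p.Prime] (S : Sylow p G)
    (hG : Group.IsSolvable G) :
    (S : Subgroup G) ⊓ Cz (S : Subgroup G) ≤ Cfsg.pPrimePCore p G := by
  have hKn : (Cfsg.pPrimeCore p G).Normal := Cfsg.pPrimeCore_normal p G
  intro z hz
  obtain ⟨hzS, hzC⟩ := Subgroup.mem_inf.mp hz
  apply Cfsg.Agent.Lib.Helper9.HHSolv.hh_solv_rel hG z
  intro l hl
  obtain ⟨k, hk, s, hs, rfl⟩ := mem_pPrimePCore_decomp S hl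
  have h1 : s * z = z * s := (Subgroup.mem_centralizer_iff.mp hzC) s (Subgroup.mem_inf.mp hs).1
  have h2 : z * (k * s) * z⁻¹ * (k * s)⁻¹ = (z * k * z⁻¹) * k⁻¹ := by
    calc z * (k * s) * z⁻¹ * (k * s)⁻¹ = z * k * (s * z⁻¹) * s⁻¹ * k⁻¹ := by group
      _ = z * k * (z⁻¹ * s) * s⁻¹ * k⁻¹ := by
          have : s * z⁻¹ = z⁻¹ * s := by
            have := congrArg (fun t => z⁻¹ * t * z⁻¹) h1
            simpa [mul_assoc] using this.symm
          rw [this]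
      _ = _ := by group
  rw [h2]
  exact (Cfsg.pPrimeCore p G).mul_mem (hKn.conj_mem k hk z) ((Cfsg.pPrimeCore p G).inv_mem hk)

end Cfsg.Agent.Lib.Helper6.WC5
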